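/-
Central extensions of groups with root subgroups, part 1: tools.

* `bracket_congr`, `bracket_mul_left/right`, `bracket_conj` : commutators in a central extension;
* `commute_of_vanish` : preimages of commuting parametrised subgroups commute, given that the
  invariant pairings vanish; `pairing_zero_of_fix`, `pairing_zero_diag` : criteria for that;
* `eq_one_of_bracket` : injectivity on commutators with a fixed-point-free element;
* `injOn_sup` : injectivity on a product with a normalised subgroup.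
-/
import Cfsg.Agent.Lib.ChevSt.Universal
import Cfsg.Agent.EqLemmas
import Mathlib.GroupTheory.Commutator.Basic
import Mathlib.Algebra.Field.Basic

set_option autoImplicit false

namespace Cfsg.Agent.TwistMult

open scoped commutatorElement

variable {Γ M : Type*} [Group Γ] [Group M] {σ : Γ →* M}

section Central

variable (hc : σ.ker ≤ Subgroup.center Γ)
include hc

theorem bracket_congr {a a' b b' : Γ} (ha : σ a = σ a') (hb : σ b = σ b') : ⁅a, b⁆ = ⁅a', b'⁆ := by
  simp only [commutatorElement_def]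
  exact ChevSt.comm_congr hc ha hb

theorem mem_center_of_map_one {g : Γ} (h : σ g = 1) : g ∈ Subgroup.center Γ := hc h

theorem bracket_mem_center {a b : Γ} (h : Commute (σ a) (σ b)) : ⁅a, b⁆ ∈ Subgroup.center Γ :=
  hc (by rw [MonoidHom.mem_ker, map_commutatorElement, commutatorElement_eq_one_iff_commute]; exact h)

theorem bracket_mul_left {a a' b : Γ} (h : Commute (σ a') (σ b)) : ⁅a * a', b⁆ = ⁅a, b⁆ * ⁅a', b⁆ := by
  have hk := Subgroup.mem_center_iff.1 (bracket_mem_center hc h)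
  calc ⁅a * a', b⁆ = a * ⁅a', b⁆ * (b * a⁻¹ * b⁻¹) := by simp only [commutatorElement_def]; group
    _ = ⁅a', b⁆ * (a * (b * a⁻¹ * b⁻¹)) := by rw [hk a, mul_assoc]
    _ = ⁅a', b⁆ * ⁅a, b⁆ := by simp only [commutatorElement_def, mul_assoc]
    _ = _ := (hk _).symm

theorem bracket_mul_right {a b b' : Γ} (h : Commute (σ a) (σ b')) : ⁅a, b * b'⁆ = ⁅a, b⁆ * ⁅a, b'⁆ := by
  have hk := Subgroup.mem_center_iff.1 (bracket_mem_center hc h)
  calc ⁅a, b * b'⁆ = a * b * a⁻¹ * ⁅a, b'⁆ * b⁻¹ := by simp only [commutatorElement_def]; group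
    _ = a * b * a⁻¹ * (b⁻¹ * ⁅a, b'⁆) := by rw [hk b⁻¹, mul_assoc]
    _ = _ := by simp only [commutatorElement_def, mul_assoc]

theorem bracket_conj_of_commute {g a b : Γ} (h : Commute (σ a) (σ b)) :
    ⁅g * a * g⁻¹, g * b * g⁻¹⁆ = ⁅a, b⁆ := by
  have hk := Subgroup.mem_center_iff.1 (bracket_mem_center hc h)
  calc ⁅g * a * g⁻¹, g * b * g⁻¹⁆ = g * ⁅a, b⁆ * g⁻¹ := by simp only [commutatorElement_def]; group
    _ = _ := by rw [hk g, mul_inv_cancel_right]

/-- Preimages of commuting parametrised subgroups commute when the invariant pairings vanish. -/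
theorem commute_of_vanish {A B : Type*} [AddGroup A] [AddGroup B] (X : A → M) (Y : B → M)
    (hX : ∀ a, ∃ g, σ g = X a) (hY : ∀ b, ∃ g, σ g = Y b)
    (hXa : ∀ a a', X (a + a') = X a * X a') (hYa : ∀ b b', Y (b + b') = Y b * Y b')
    (hcm : ∀ a b, Commute (X a) (Y b))
    (hvan : ∀ β : A → B → Subgroup.center Γ, (∀ a a' b, β (a + a') b = β a b * β a' b) →
      (∀ a b b', β a (b + b') = β a b * β a b') →
      (∀ (g : Γ) (l : A → A) (m : B → B), (∀ a, σ g * X a * (σ g)⁻¹ = X (l a)) →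
        (∀ b, σ g * Y b * (σ g)⁻¹ = Y (m b)) → ∀ a b, β (l a) (m b) = β a b) → ∀ a b, β a b = 1)
    {a : A} {b : B} {g h : Γ} (hg : σ g = X a) (hh : σ h = Y b) : g * h = h * g := by
  choose lX hlX using hX
  choose lY hlY using hY
  let β : A → B → Subgroup.center Γ := fun a b =>
    ⟨⁅lX a, lY b⁆, bracket_mem_center hc (by rw [hlX, hlY]; exact hcm a b)⟩
  have h1 := hvan β (fun a a' b => Subtype.ext ?_) (fun a b b' => Subtype.ext ?_)
    (fun k l m hl hm a b => Subtype.ext ?_) a b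
  · have h2 : ⁅g, h⁆ = 1 := by
      rw [bracket_congr hc (hg.trans (hlX a).symm) (hh.trans (hlY b).symm)]
      exact congrArg Subtype.val h1
    exact commutatorElement_eq_one_iff_mul_comm.1 h2
  · show ⁅lX (a + a'), lY b⁆ = ⁅lX a, lY b⁆ * ⁅lX a', lY b⁆
    rw [← bracket_mul_left hc (by rw [hlX, hlY]; exact hcm a' b)]
    exact bracket_congr hc (by rw [map_mul, hlX, hlX, hlX, hXa]) rfl
  · show ⁅lX a, lY (b + b')⁆ = ⁅lX a, lY b⁆ * ⁅lX a, lY b'⁆
    rw [← bracket_mul_right hc (by rw [hlX, hlY]; exact hcm a b')]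
    exact bracket_congr hc rfl (by rw [map_mul, hlY, hlY, hlY, hYa])
  · show ⁅lX (l a), lY (m b)⁆ = ⁅lX a, lY b⁆
    rw [← bracket_conj_of_commute hc (g := k) (a := lX a) (b := lY b) (by rw [hlX, hlY]; exact hcm a b)]
    exact bracket_congr hc (by rw [hlX, map_mul, map_mul, map_inv, hlX, hl])
      (by rw [hlY, map_mul, map_mul, map_inv, hlY, hm])

/-- A set of commutators with a fixed-point-free element of an abelian preimage meets the kernel trivially. -/
theorem eq_one_of_bracket {P : Subgroup Γ} (hP : ∀ x ∈ P, ∀ y ∈ P, x * y = y * x) {h : Γ}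
    (hn : ∀ x ∈ P, h * x * h⁻¹ ∈ P) (hfpf : ∀ x ∈ P, Commute (σ h) (σ x) → σ x = 1) {S : Set Γ}
    (hS : ∀ s ∈ S, ∃ x ∈ P, s = ⁅h, x⁆) {w : Γ} (hw : w ∈ Subgroup.closure S) (h1 : σ w = 1) : w = 1 := by
  have key : ∃ x ∈ P, w = ⁅h, x⁆ := by
    refine Subgroup.closure_induction (p := fun w _ => ∃ x ∈ P, w = ⁅h, x⁆) (fun s hs => hS s hs)
      ⟨1, one_mem _, (commutatorElement_one_right _).symm⟩ ?_ ?_ hw
    · rintro _ _ _ _ ⟨x, hx, rfl⟩ ⟨y, hy, rfl⟩
      refine ⟨x * y, mul_mem hx hy, ?_⟩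
      have hc' : x * ⁅h, y⁆ = ⁅h, y⁆ * x :=
        hP x hx _ (by rw [commutatorElement_def]; exact mul_mem (hn y hy) (inv_mem hy))
      calc ⁅h, x⁆ * ⁅h, y⁆ = h * x * h⁻¹ * (x⁻¹ * ⁅h, y⁆) := by simp only [commutatorElement_def]; group
        _ = h * x * h⁻¹ * (⁅h, y⁆ * x⁻¹) := by rw [(Commute.inv_left hc').eq]
        _ = _ := by simp only [commutatorElement_def]; group
    · rintro _ _ ⟨x, hx, rfl⟩
      refine ⟨x⁻¹, inv_mem hx, ?_⟩
      have h2 := hP (h * x * h⁻¹) (hn x hx) x hx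
      simp only [commutatorElement_def, mul_inv_rev, inv_inv]
      calc x * (h * (x⁻¹ * h⁻¹)) = (x * (h * x * h⁻¹)⁻¹) := by group
        _ = (h * x * h⁻¹)⁻¹ * x := ((Commute.inv_left h2).eq).symm
        _ = _ := by group
  obtain ⟨x, hx, rfl⟩ := key
  rw [map_commutatorElement, commutatorElement_eq_one_iff_commute] at h1
  exact commutatorElement_eq_one_iff_mul_comm.2 (Subgroup.mem_center_iff.1 (hc (hfpf x hx h1)) h)

/-- Commutators of lifts lie in a lifted subgroup when the invariant pairings vanish. -/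
theorem bracket_mem_of_vanish {A B : Type*} [AddGroup A] [AddGroup B] (la : A → Γ) (lb : B → Γ) {V : Subgroup Γ}
    (hV : ∀ v ∈ V, σ v = 1 → v = 1) (ha : ∀ a a', σ (la (a + a')) = σ (la a) * σ (la a'))
    (hb : ∀ b b', σ (lb (b + b')) = σ (lb b) * σ (lb b')) (hnA : ∀ a, ∀ v ∈ V, la a * v * (la a)⁻¹ ∈ V)
    (hnB : ∀ b, ∀ v ∈ V, lb b * v * (lb b)⁻¹ ∈ V) (hmem : ∀ a b, σ ⁅la a, lb b⁆ ∈ V.map σ)
    (hvan : ∀ β : A → B → Subgroup.center Γ, (∀ a a' b, β (a + a') b = β a b * β a' b) →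
      (∀ a b b', β a (b + b') = β a b * β a b') →
      (∀ (g : Γ) (l : A → A) (m : B → B), (∀ v ∈ V, g * v * g⁻¹ ∈ V) →
        (∀ a, σ (g * la a * g⁻¹) = σ (la (l a))) → (∀ b, σ (g * lb b * g⁻¹) = σ (lb (m b))) →
        ∀ a b, β (l a) (m b) = β a b) → ∀ a b, β a b = 1) (a : A) (b : B) : ⁅la a, lb b⁆ ∈ V := by
  choose v hv ev using hmem
  have huniq : ∀ w ∈ V, ∀ a b, σ w = σ ⁅la a, lb b⁆ → w = v a b := fun w hw a b e =>
    mul_inv_eq_one.1 (hV _ (mul_mem hw (inv_mem (hv a b))) (by rw [map_mul, map_inv, e, ev, mul_inv_cancel]))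
  let β : A → B → Subgroup.center Γ := fun a b => ⟨(v a b)⁻¹ * ⁅la a, lb b⁆,
    hc (by rw [MonoidHom.mem_ker, map_mul, map_inv, ev, inv_mul_cancel])⟩
  have hd : ∀ a b, ⁅la a, lb b⁆ = v a b * (β a b : Γ) := fun a b => (mul_inv_cancel_left _ _).symm
  have hz : ∀ a b, ∀ g : Γ, g * (β a b : Γ) = (β a b : Γ) * g := fun a b g =>
    Subgroup.mem_center_iff.1 (β a b).2 g
  have key : ∀ w ∈ V, ∀ a b a₁ b₁, ⁅la a₁, lb b₁⁆ = w * (β a b : Γ) → (β a₁ b₁ : Γ) = β a b := by
    intro w hw a b a₁ b₁ e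
    have hk : σ (β a b : Γ) = 1 := by
      show σ ((v a b)⁻¹ * ⁅la a, lb b⁆) = 1
      rw [map_mul, map_inv, ev, inv_mul_cancel]
    have := huniq w hw a₁ b₁ (by rw [e, map_mul, hk, mul_one])
    show (v a₁ b₁)⁻¹ * ⁅la a₁, lb b₁⁆ = _
    rw [e, this, inv_mul_cancel_left]
  have h1 := hvan β (fun a a' b => Subtype.ext ?_) (fun a b b' => Subtype.ext ?_)
    (fun g l m hg hl hm a b => Subtype.ext ?_) a b
  · rw [hd a b, h1, OneMemClass.coe_one, mul_one]
    exact hv a b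
  · show (v (a + a') b)⁻¹ * ⁅la (a + a'), lb b⁆ = (β a b : Γ) * β a' b
    have e : ⁅la (a + a'), lb b⁆ = la a * v a' b * (la a)⁻¹ * v a b * ((β a b : Γ) * β a' b) := by
      rw [bracket_congr hc (show σ (la (a + a')) = σ (la a * la a') by rw [map_mul, ha]) rfl,
        show ⁅la a * la a', lb b⁆ = la a * ⁅la a', lb b⁆ * (la a)⁻¹ * ⁅la a, lb b⁆ by
          simp only [commutatorElement_def]; group, hd a' b, hd a b]
      calc la a * (v a' b * (β a' b : Γ)) * (la a)⁻¹ * (v a b * (β a b : Γ))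
          = la a * v a' b * ((β a' b : Γ) * ((la a)⁻¹ * v a b)) * (β a b : Γ) := by group
        _ = la a * v a' b * (la a)⁻¹ * v a b * ((β a' b : Γ) * (β a b : Γ)) := by rw [← hz]; group
        _ = _ := by rw [hz a b]
    rw [e, huniq _ (mul_mem (hnA a _ (hv a' b)) (hv a b)) (a + a') b (by
      rw [e, map_mul σ (la a * v a' b * (la a)⁻¹ * v a b), map_mul σ (β a b : Γ)]
      have hk : ∀ a b, σ (β a b : Γ) = 1 := fun a b => by
        show σ ((v a b)⁻¹ * ⁅la a, lb b⁆) = 1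
        rw [map_mul, map_inv, ev, inv_mul_cancel]
      rw [hk, hk, mul_one, mul_one]), inv_mul_cancel_left]
  · show (v a (b + b'))⁻¹ * ⁅la a, lb (b + b')⁆ = (β a b : Γ) * β a b'
    have e : ⁅la a, lb (b + b')⁆ = v a b * (lb b * v a b' * (lb b)⁻¹) * ((β a b : Γ) * β a b') := by
      rw [bracket_congr hc rfl (show σ (lb (b + b')) = σ (lb b * lb b') by rw [map_mul, hb]),
        show ⁅la a, lb b * lb b'⁆ = ⁅la a, lb b⁆ * (lb b * ⁅la a, lb b'⁆ * (lb b)⁻¹) by
          simp only [commutatorElement_def]; group, hd a b', hd a b]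
      calc v a b * (β a b : Γ) * (lb b * (v a b' * (β a b' : Γ)) * (lb b)⁻¹)
          = v a b * ((β a b : Γ) * (lb b * v a b')) * ((β a b' : Γ) * (lb b)⁻¹) := by group
        _ = v a b * (lb b * v a b') * ((β a b : Γ) * (β a b' : Γ) * (lb b)⁻¹) := by rw [← hz]; group
        _ = v a b * (lb b * v a b') * ((β a b : Γ) * ((lb b)⁻¹ * (β a b' : Γ))) := by
          rw [mul_assoc (β a b : Γ), hz a b' (lb b)⁻¹]
        _ = v a b * (lb b * v a b') * ((lb b)⁻¹ * (β a b : Γ) * (β a b' : Γ)) := by rw [hz a b (lb b)⁻¹]; group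
        _ = _ := by group
    rw [e, huniq _ (mul_mem (hv a b) (hnB b _ (hv a b'))) a (b + b') (by
      rw [e, map_mul σ (v a b * (lb b * v a b' * (lb b)⁻¹)), map_mul σ (β a b : Γ)]
      have hk : ∀ a b, σ (β a b : Γ) = 1 := fun a b => by
        show σ ((v a b)⁻¹ * ⁅la a, lb b⁆) = 1
        rw [map_mul, map_inv, ev, inv_mul_cancel]
      rw [hk, hk, mul_one, mul_one]), inv_mul_cancel_left]
  · refine key (g * v a b * g⁻¹) (hg _ (hv a b)) a b (l a) (m b) ?_
    rw [← bracket_congr hc (hl a) (hm b),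
      show ⁅g * la a * g⁻¹, g * lb b * g⁻¹⁆ = g * ⁅la a, lb b⁆ * g⁻¹ by simp only [commutatorElement_def]; group,
      hd a b]
    calc g * (v a b * (β a b : Γ)) * g⁻¹ = g * v a b * ((β a b : Γ) * g⁻¹) := by group
      _ = _ := by rw [← hz]; group

end Central

/-- Injectivity on the product of a subgroup with a subgroup it normalises. -/
theorem injOn_sup {Y V : Subgroup Γ} (hY : ∀ y ∈ Y, σ y = 1 → y = 1) (hV : ∀ v ∈ V, σ v = 1 → v = 1)
    (hn : ∀ y ∈ Y, ∀ v ∈ V, y * v * y⁻¹ ∈ V) (hd : Y.map σ ⊓ V.map σ = ⊥) :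
    ∀ w ∈ Y ⊔ V, σ w = 1 → w = 1 := by
  intro w hw h1
  have hle : Y ≤ Subgroup.normalizer (V : Set Γ) := by
    intro y hy
    rw [Subgroup.mem_normalizer_iff]
    intro v
    refine ⟨fun hv => hn y hy v hv, fun hv => ?_⟩
    have := hn y⁻¹ (inv_mem hy) _ hv
    simpa [mul_assoc] using this
  have hw' : w ∈ ((Y ⊔ V : Subgroup Γ) : Set Γ) := hw
  rw [Subgroup.coe_mul_of_left_le_normalizer_right Y V hle] at hw'
  obtain ⟨y, hy, v, hv, rfl⟩ := hw'
  simp only [map_mul] at h1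
  have hyv : σ y ∈ Y.map σ ⊓ V.map σ :=
    ⟨⟨y, hy, rfl⟩, ⟨v⁻¹, inv_mem hv, by rw [map_inv, eq_inv_of_mul_eq_one_left h1]⟩⟩
  rw [hd, Subgroup.mem_bot] at hyv
  rw [hyv, one_mul] at h1
  show y * v = 1
  rw [hY y hy hyv, hV v hv h1, one_mul]

/-! ### Pairings -/

section Pairing

variable {Z : Type*} [Group Z]

/-- A pairing fixed by a move of one variable vanishes. -/
theorem pairing_zero_of_fix {A B : Type*} [AddGroup B] (β : A → B → Z)
    (hr : ∀ a b b', β a (b + b') = β a b * β a b') {m : B → B} (hm : ∀ b, ∃ b', m b' = b + b')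
    (hinv : ∀ a b, β a (m b) = β a b) : ∀ a b, β a b = 1 := by
  intro a b
  obtain ⟨b', hb⟩ := hm b
  have := hinv a b'
  rw [hb, hr] at this
  exact mul_eq_right.1 this

/-- A pairing of a field with itself invariant under all dilations vanishes. -/
theorem pairing_zero_diag {F : Type*} [Field F] (β : F → F → Z)
    (hl : ∀ a a' b, β (a + a') b = β a b * β a' b) (hr : ∀ a b b', β a (b + b') = β a b * β a b')
    (hinv : ∀ c : F, c ≠ 0 → ∀ a b, β (c * a) (c * b) = β a b)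
    (hF : ∃ t : F, t ≠ 0 ∧ t + 1 ≠ 0 ∧ t * t + t + 1 ≠ 0) : ∀ a b, β a b = 1 := by
  obtain ⟨t, t0, t1, t2⟩ := hF
  have hsc : ∀ a : F, a ≠ 0 → ∀ b, β a b = β 1 (b / a) := fun a ha b => by
    have := hinv a ha 1 (b / a)
    rwa [mul_one, mul_div_cancel₀ _ ha] at this
  have hadd : ∀ a b : F, β 1 (a + b) = β 1 a * β 1 b := hr 1
  have key : ∀ y : F, β 1 (y / (1 + t) - y - y / t) = 1 := fun y => by
    have h1t : 1 + t ≠ 0 := by rwa [add_comm]
    have e := hl 1 t y
    rw [hsc _ h1t, hsc t t0] at e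
    have e2 : β 1 (y / (1 + t)) = β 1 (y / (1 + t) - y - y / t) * (β 1 y * β 1 (y / t)) := by
      rw [← hadd, ← hadd]; congr 1; ring
    exact mul_eq_right.1 (e2.symm.trans e)
  have h0 : β (0 : F) = fun _ => 1 := funext fun b => by
    have := hl 0 0 b
    rw [add_zero] at this
    exact mul_eq_right.1 this.symm
  have h1 : ∀ b, β 1 b = 1 := fun b => by
    have h1t : 1 + t ≠ 0 := by rwa [add_comm]
    have := key (-(b * (t * (1 + t)) / (t * t + t + 1)))
    have e : ∀ y : F, y / (1 + t) - y - y / t = -(y * ((t * t + t + 1) / (t * (1 + t)))) := fun y => by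
      field_simp; ring
    rwa [e, neg_mul, _root_.neg_neg, div_mul_div_cancel₀ t2, mul_div_cancel_right₀ _ (mul_ne_zero t0 h1t)] at this
  intro a b
  by_cases ha : a = 0
  · rw [ha, h0]
  · rw [hsc a ha, h1]

end Pairing

end Cfsg.Agent.TwistMult
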