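/-
Central extensions of groups with root subgroups, part 2: lifted root group data.

* `ker_eq_bot_of_lift` : a central extension with lifted root group data is an isomorphism when
  the lifted unipotent subgroup and torus meet the kernel trivially;
* `exists_section`, `exists_sl2_lift` : lifts from perfect groups with trivial multiplier, from `SL₂`.
-/
import Cfsg.Agent.Lib.TwistMult.Central
import Cfsg.Agent.Lib.RGD.NormalForm
import Cfsg.Agent.S2117
import Mathlib.LinearAlgebra.Matrix.SpecialLinearGroup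
import Mathlib.GroupTheory.Solvable

set_option autoImplicit false

namespace Cfsg.Agent.TwistMult

open scoped MatrixGroups commutatorElement

universe u v

variable {Γ : Type u} {M : Type v} [Group Γ] [Group M] {σ : Γ →* M}

theorem bracket_mem_of_central (hc : σ.ker ≤ Subgroup.center Γ) {S : Subgroup Γ}
    (hS : ∀ g, ∃ s ∈ S, σ g = σ s) (a b : Γ) : ⁅a, b⁆ ∈ S := by
  obtain ⟨s, hs, es⟩ := hS a
  obtain ⟨t, ht, et⟩ := hS b
  rw [bracket_congr hc es et, commutatorElement_def]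
  exact mul_mem (mul_mem (mul_mem hs ht) (inv_mem hs)) (inv_mem ht)

theorem eq_top_of_map (hc : σ.ker ≤ Subgroup.center Γ) (hperf : commutator Γ = ⊤) {S : Subgroup Γ}
    (hS : ∀ g, ∃ s ∈ S, σ g = σ s) : S = ⊤ := by
  rw [eq_top_iff, ← hperf, commutator_def, Subgroup.commutator_le]
  exact fun a _ b _ => bracket_mem_of_central hc hS a b

theorem ker_le_of_lift {Φ I : Type*} (R : RGD.RootData M Φ I) (hc : σ.ker ≤ Subgroup.center Γ)
    (hperf : commutator Γ = ⊤) (hrange : σ.range ≤ R.G) (R' : RGD.RootData Γ Φ I)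
    (hpos : R'.pos = R.pos) (hw : R'.w = R.w) (hU : ∀ r, (R'.U r).map σ = R.U r)
    (hH : R'.H.map σ = R.H) (hn : ∀ i, σ (R'.n i) = R.n i)
    (hUinj : ∀ x ∈ R'.Upos, σ x = 1 → x = 1) : σ.ker ≤ R'.H := by
  have hUp : R'.Upos.map σ = R.Upos := by
    rw [RGD.RootData.Upos, RGD.RootData.Upos, RGD.RootData.span, RGD.RootData.span, Subgroup.map_iSup, hpos]
    exact iSup_congr fun r => by rw [Subgroup.map_iSup]; exact iSup_congr fun _ => hU r
  have hB : R'.B.map σ = R.B := by
    rw [RGD.RootData.B, RGD.RootData.B, Subgroup.map_sup, hUp, hH]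
  have hnw : ∀ l, σ (R'.nw l) = R.nw l := fun l => by
    induction l with
    | nil => simp
    | cons i l ih => simp [hn, ih]
  have hN : R'.N.map σ = R.N := by
    rw [RGD.RootData.N, RGD.RootData.N, Subgroup.map_sup, hH, MonoidHom.map_closure, ← Set.range_comp]
    simp only [Function.comp_def, hn]
  have hG : R'.G.map σ = R.G := by
    rw [RGD.RootData.G, RGD.RootData.G, Subgroup.map_sup, hB, hN]
  have htop : R'.G = ⊤ := eq_top_of_map hc hperf fun g => by
    obtain ⟨s, hs, e⟩ := hG.ge (hrange ⟨g, rfl⟩)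
    exact ⟨s, hs, e.symm⟩
  have hww : ∀ (l : List I) r, R'.ww l r = R.ww l r := fun l r => by
    induction l with
    | nil => rfl
    | cons i l ih => rw [RGD.RootData.ww_cons, RGD.RootData.ww_cons, ih, hw]
  intro x hx
  obtain ⟨b, hb, l, v, hv, rfl⟩ := R'.exists_normalForm (htop.ge (Subgroup.mem_top x))
  have hv' : v ∈ R'.B := R'.Upos_le_B (R'.Uminus_le_Upos l hv)
  have hnB : R.nw l ∈ R.B := by
    have h1 : σ b * R.nw l * σ v = 1 := by rw [← hnw, ← map_mul, ← map_mul]; exact hx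
    rw [show R.nw l = (σ b)⁻¹ * (σ b * R.nw l * σ v) * (σ v)⁻¹ by group, h1, mul_one, ← hB]
    exact mul_mem (inv_mem ⟨b, hb, rfl⟩) (inv_mem ⟨v, hv', rfl⟩)
  have hl : ∀ r, R'.pos r → R'.pos (R'.ww l r) := fun r hr => by
    rw [hpos] at hr ⊢
    rw [hww]
    exact (R.mem_H_iff l).1 ((R.nw_mem_B_iff l).1 hnB) r hr
  have hxB : b * R'.nw l * v ∈ R'.B := mul_mem (mul_mem hb (R'.H_le_B (R'.mem_H_of_pos hl))) hv'
  obtain ⟨a, ha, h, hh, e⟩ := R'.exists_B hxB
  rw [e]
  have h1 : σ a * σ h = 1 := by rw [← map_mul, ← e]; exact hx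
  have ha1 : σ a = 1 := by
    have hm : σ a ∈ R.Upos ⊓ R.H := Subgroup.mem_inf.2 ⟨hUp ▸ ⟨a, ha, rfl⟩, by
      rw [eq_inv_of_mul_eq_one_left h1, ← hH]; exact inv_mem ⟨h, hh, rfl⟩⟩
    rwa [show R.Upos ⊓ R.H = ⊥ from R.U_inf_H, Subgroup.mem_bot] at hm
  rw [hUinj a ha ha1, one_mul]
  exact hh

theorem ker_eq_bot_of_lift {Φ I : Type*} (R : RGD.RootData M Φ I) (hc : σ.ker ≤ Subgroup.center Γ)
    (hperf : commutator Γ = ⊤) (hrange : σ.range ≤ R.G) (R' : RGD.RootData Γ Φ I)
    (hpos : R'.pos = R.pos) (hw : R'.w = R.w) (hU : ∀ r, (R'.U r).map σ = R.U r)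
    (hH : R'.H.map σ = R.H) (hn : ∀ i, σ (R'.n i) = R.n i)
    (hUinj : ∀ x ∈ R'.Upos, σ x = 1 → x = 1) (hHinj : ∀ x ∈ R'.H, σ x = 1 → x = 1) : σ.ker = ⊥ :=
  (Subgroup.eq_bot_iff_forall _).2 fun x hx =>
    hHinj x (ker_le_of_lift R hc hperf hrange R' hpos hw hU hH hn hUinj hx) hx

/-- A group with trivial multiplier and perfect lifts along central extensions. -/
theorem exists_section {Δ : Type u} [Group Δ] [Finite Δ] [Finite Γ] (hperf : commutator Δ = ⊤)
    (hm : Cfsg.HasCyclicSchurMultiplier Δ 1) (hc : σ.ker ≤ Subgroup.center Γ) (φ : Δ →* M)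
    (hφ : ∀ g, ∃ x, σ x = φ g) : ∃ ψ : Δ →* Γ, σ.comp ψ = φ := by
  let P : Subgroup (Δ × Γ) := (φ.comp (MonoidHom.fst Δ Γ)).eqLocus (σ.comp (MonoidHom.snd Δ Γ))
  let p : P →* Δ := (MonoidHom.fst _ _).comp P.subtype
  have hp : Function.Surjective p := fun a => by
    obtain ⟨b, hb⟩ := hφ a
    exact ⟨⟨(a, b), hb.symm⟩, rfl⟩
  have hcp : p.ker ≤ Subgroup.center P := by
    rintro ⟨⟨a, b⟩, hab⟩ hk
    have ha : a = 1 := hk
    subst ha
    have hb : b ∈ σ.ker := ((hab : φ 1 = σ b).symm.trans (map_one φ))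
    rw [Subgroup.mem_center_iff]
    rintro ⟨⟨c, d⟩, -⟩
    exact Subtype.ext (Prod.ext (by simp) (Subgroup.mem_center_iff.1 (hc hb) d))
  let Q : Subgroup P := commutator P
  let q : Q →* Δ := p.comp Q.subtype
  have hq : Function.Surjective q := fun a => by
    have h1 : (commutator P).map p = ⊤ := by
      rw [commutator_def, Subgroup.map_commutator, Subgroup.map_top_of_surjective p hp, ← commutator_def, hperf]
    obtain ⟨x, hx, rfl⟩ := h1.ge (Subgroup.mem_top a)
    exact ⟨⟨x, hx⟩, rfl⟩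
  have hQ : ⁅Q, Q⁆ = Q := by
    refine le_antisymm (Subgroup.commutator_le_self Q) ?_
    conv_lhs => rw [show Q = commutator P from rfl, commutator_def]
    rw [Subgroup.commutator_le]
    intro a _ b _
    obtain ⟨s, hs⟩ := hq (p a)
    obtain ⟨t, ht⟩ := hq (p b)
    rw [bracket_congr hcp hs.symm ht.symm]
    exact Subgroup.commutator_mem_commutator s.2 t.2
  have hQtop : commutator Q = ⊤ := by
    apply Subgroup.map_injective Q.subtype_injective
    rw [Subgroup.map_subtype_commutator, hQ, ← MonoidHom.range_eq_map, Subgroup.range_subtype]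
  have hker : q.ker = ⊥ := by
    obtain ⟨-, h2⟩ := hm
    obtain ⟨π, hπ⟩ := h2 Q q ⟨hq, fun x hx => Subgroup.mem_center_iff.2 fun y =>
      Subtype.ext (Subgroup.mem_center_iff.1 (hcp (show (x : P) ∈ p.ker from hx)) y.1),
      by rw [hQtop]; exact le_top⟩
    rw [eq_bot_iff]
    intro x hx
    obtain ⟨a, ha⟩ := hπ ⟨x, hx⟩
    have : a = 1 := Multiplicative.toAdd.injective (Subsingleton.elim _ _)
    rw [this, map_one] at ha
    exact Subgroup.mem_bot.2 (congrArg Subtype.val ha).symm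
  let e : Q ≃* Δ := MulEquiv.ofBijective q ⟨(MonoidHom.ker_eq_bot_iff _).1 hker, hq⟩
  refine ⟨(((MonoidHom.snd _ _).comp P.subtype).comp Q.subtype).comp e.symm.toMonoidHom,
    MonoidHom.ext fun a => ?_⟩
  have h1 : q (e.symm a) = a := e.apply_symm_apply a
  exact ((e.symm a).1.2 : φ _ = σ _).symm.trans (congrArg φ h1)

/-- Lifts of homomorphisms from `SL₂`. -/
theorem exists_sl2_lift {F : Type u} [Field F] [Fintype F] [Finite Γ] (h5 : 5 ≤ Fintype.card F)
    (h9 : Fintype.card F ≠ 9) (hc : σ.ker ≤ Subgroup.center Γ) (φ : SL(2, F) →* M)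
    (hφ : ∀ g, ∃ x, σ x = φ g) : ∃ ψ : SL(2, F) →* Γ, σ.comp ψ = φ := by
  classical
  refine exists_section ?_ (Cfsg.Agent.S2117.result (by omega) h9) hc φ hφ
  obtain ⟨a, ha0, ha1⟩ : ∃ a : Fˣ, (a : F) ≠ 0 ∧ (a : F) ^ 2 ≠ 1 := by
    obtain ⟨a, ha⟩ : ∃ a : Fˣ, a * a ≠ 1 := by
      by_contra hne
      push Not at hne
      have h1 : ∀ t : F, t ∈ ({0, 1, -1} : Finset F) := fun t => by
        by_cases h0 : t = 0
        · simp [h0]
        · have := congrArg Units.val (hne (Units.mk0 t h0))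
          rw [Units.val_mul, Units.val_mk0, Units.val_one] at this
          rcases mul_self_eq_one_iff.1 this with h | h <;> simp [h]
      have := Finset.card_le_card (fun t _ => h1 t : (Finset.univ : Finset F) ⊆ {0, 1, -1})
      have h3 := Finset.card_le_three (a := (0 : F)) (b := 1) (c := -1)
      rw [Finset.card_univ] at this
      omega
    exact ⟨a, a.ne_zero, fun h => ha (Units.ext (by simpa [pow_two] using h))⟩
  exact Matrix.SL2.commutator_eq_top ha0 ha1

end Cfsg.Agent.TwistMult
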