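/-
Facts on the orbit root subgroups of ³D₄(q) used for its Schur multiplier.

* `theta_conj_orb`, `chi_rep` : the torus action;
* `exists_fix_long`, `exists_diag`, `exists_fix_short`, `exists_norm` : the torus elements needed;
* `commute_o`, `bracket_o`, `mu_surj`, `bracket_lev` : the relations used;
* `span_inf` : separation of a root subgroup from a span.
-/
import Cfsg.Agent.Lib.TwistE6D4.Facts
import Cfsg.Agent.Lib.TwistE6D4.D4Words
import Mathlib.FieldTheory.Finite.Basic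

set_option autoImplicit false
set_option maxRecDepth 100000

namespace Cfsg.Agent.TwistMult.D4

open Cfsg.Lie Cfsg.Lie.ChevalleyDatum Cfsg.Agent.Chev Cfsg.Agent.TwistE6D4
open scoped commutatorElement

section General

variable {D : ChevalleyDatum} {K : Type*} [Field K] (C : Ctx D K)

theorem theta_conj_orb {x : Fin D.rank → Kˣ} (hx : x ∈ TorSym C.T C.φ) {r : ℕ} (hr : r ∈ C.T.reps) (t : K) :
    theta D K x * orb C.hD C.T C.φ r t * (theta D K x)⁻¹ = orb C.hD C.T C.φ r ((chiX x r : K) * t) := by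
  have hr' := (C.hT.rep_lt r hr).1
  simp only [orb]
  rw [← MulAut.conj_apply, map_list_prod, List.map_map]
  refine congrArg List.prod (List.map_congr_left fun k _ => ?_)
  rw [Function.comp_apply, MulAut.conj_apply, theta_conj_gx C.hD x (C.hT.iter_lt hr' k)]
  congr 1
  have e : ∀ k, (chiX x (C.T.rho^[k] r) : K) = (⇑C.φ)^[k] (chiX x r : K) := fun k => by
    induction k with
    | zero => rfl
    | succ k ih =>
      rw [Function.iterate_succ_apply', chiX_rho C.hT hx (C.hT.iter_lt hr' k), Units.coe_map,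
        MonoidHom.coe_coe, ih, Function.iterate_succ_apply']
  rw [e, cf, cf, ← RingHom.coe_pow, map_mul, RingHom.coe_pow]
  ring

/-- A root subgroup meets a span trivially when a word separates them. -/
theorem span_inf {Γ Φ I : Type*} [Group Γ] (R : RGD.RootData Γ Φ I) {A : Set Φ} {r : Φ} (l : List I)
    (hr : ¬ R.pos (R.ww l r)) (hA : ∀ s ∈ A, R.pos (R.ww l s)) : R.U r ⊓ R.span A = ⊥ := by
  rw [eq_bot_iff]
  rintro g ⟨h1, h2⟩
  have e : R.nw l * g * (R.nw l)⁻¹ ∈ R.B ⊓ R.Vneg := by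
    refine Subgroup.mem_inf.2 ⟨R.Upos_le_B ?_, R.U_le_Vneg hr (R.conj_U_mem (R.map_conj_U l r) h1)⟩
    refine R.span_conj (fun s hs y hy => ?_) g h2
    exact R.U_le_span (A := {s | R.pos s}) (hA s hs) (R.conj_U_mem (R.map_conj_U l s) hy)
  rw [show R.B ⊓ R.Vneg = ⊥ from R.B_inf_V, Subgroup.mem_bot, conj_eq_one_iff] at e
  exact Subgroup.mem_bot.2 e

/-- Commutators of two unipotent subgroups with weights lie in the levels above. -/
theorem bracket_lev {f : ℕ → ℤ} (hf : ChevSt.IsLin D f) {T : Set ℕ} (hT : PosClosed D f T) {h : ℕ} {A B : Set ℕ}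
    (hA : A ⊆ T) (hB : B ⊆ T) (hh : ∀ a ∈ A, ∀ b ∈ B, (h : ℤ) < f a + f b) {g k : GL D.Idx K}
    (hg : g ∈ UT C.hD K A) (hk : k ∈ UT C.hD K B) : ⁅g, k⁆ ∈ lev C.hD K f T (h + 1) := by
  revert k
  refine UT_induction C.hD hg (P := fun g => ∀ {k}, k ∈ UT C.hD K B → ⁅g, k⁆ ∈ lev C.hD K f T (h + 1))
    (fun a ha t => ?_) (fun {k} _ => by rw [commutatorElement_one_left]; exact one_mem _)
    (fun x hx y _ px py {k} hk => ?_)
  · intro k hk
    refine UT_induction C.hD hk (P := fun k => ⁅gx C.hD K a t, k⁆ ∈ lev C.hD K f T (h + 1))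
      (fun b hb u => ?_) (by rw [commutatorElement_one_right]; exact one_mem _) (fun x hx y _ px py => ?_)
    · obtain ⟨w, hw, e⟩ := gx_swap C.hD hf hT (h := h) (hA ha) (hB hb) (hh a ha b hb) (-t) u
      rw [gx_inv, _root_.neg_neg] at e
      rw [commutatorElement_def, gx_inv, e]
      exact conj_lev_succ C.hD hf hT (gx_mem_UT C.hD (hB hb) u) w hw
    · rw [show ⁅gx C.hD K a t, x * y⁆ = ⁅gx C.hD K a t, x⁆ * (x * ⁅gx C.hD K a t, y⁆ * x⁻¹) by
        simp only [commutatorElement_def]; group]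
      exact mul_mem px (conj_lev_succ C.hD hf hT (UT_mono C.hD hB hx) _ py)
  · rw [show ⁅x * y, k⁆ = (x * ⁅y, k⁆ * x⁻¹) * ⁅x, k⁆ by simp only [commutatorElement_def]; group]
    exact mul_mem (conj_lev_succ C.hD hf hT (UT_mono C.hD hA hx) _ (py hk)) (px hk)

end General

variable {K : Type*} [Field K] (hD : Good chevD4) (φ : K →+* K)

local notation "o" => orb hD d4Twist φ

/-- The character of a pair of parameters at the representatives. -/
def chiPair (r : ℕ) (u v : Kˣ) : Kˣ :=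
  u ^ chevD4.cartan 0 r * v ^ chevD4.cartan 1 r * Units.map (φ : K →* K) u ^ chevD4.cartan 2 r *
    Units.map (φ : K →* K) (Units.map (φ : K →* K) u) ^ chevD4.cartan 3 r

/-- The first coordinate. -/
@[reducible] def four {G : Type*} (x : Fin chevD4.rank → G) : Fin 4 → G := x

theorem torSym_coords {x : Fin chevD4.rank → Kˣ} (hx : x ∈ TorSym d4Twist φ) :
    four x 2 = Units.map (φ : K →* K) (four x 0) ∧
      four x 3 = Units.map (φ : K →* K) (Units.map (φ : K →* K) (four x 0)) ∧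
      Units.map (φ : K →* K) (four x 1) = four x 1 := by
  have h0 : four x 2 = Units.map (φ : K →* K) (four x 0) := hx (0 : Fin 4)
  have h1 : four x 1 = Units.map (φ : K →* K) (four x 1) := hx (1 : Fin 4)
  have h2 : four x 3 = Units.map (φ : K →* K) (four x 2) := hx (2 : Fin 4)
  exact ⟨h0, by rw [h2, h0], h1.symm⟩

theorem chi_rep {x : Fin chevD4.rank → Kˣ} (hx : x ∈ TorSym d4Twist φ) (r : ℕ) :
    chiX x r = chiPair φ r (four x 0) (four x 1) := by
  obtain ⟨h2, h3, -⟩ := torSym_coords φ hx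
  show ∏ i : Fin 4, four x i ^ chevD4.cartan i.val r = _
  rw [Fin.prod_univ_four, h2, h3]
  rfl

theorem cartan_rows : ∀ p ∈ ([(18, [2, -1, 0, 0]), (14, [-1, 2, -1, -1]), (15, [-1, 1, -1, 1]), (17, [-1, 0, 1, 1]),
    (22, [1, -1, 1, 1]), (23, [0, 1, 0, 0]), (5, [-2, 1, 0, 0]), (9, [1, -2, 1, 1]), (4, [-1, -1, 1, 1]),
    (2, [-1, 0, -1, 1]), (1, [-1, 1, -1, -1]), (0, [0, -1, 0, 0])] : List (ℕ × List ℤ)),
    (List.range 4).map (fun i => chevD4.cartan i p.1) = p.2 := by decide +kernel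

theorem chi_eval {r : ℕ} {L : List ℤ}
    (h : (r, L) ∈ ([(18, [2, -1, 0, 0]), (14, [-1, 2, -1, -1]), (15, [-1, 1, -1, 1]), (17, [-1, 0, 1, 1]),
    (22, [1, -1, 1, 1]), (23, [0, 1, 0, 0]), (5, [-2, 1, 0, 0]), (9, [1, -2, 1, 1]), (4, [-1, -1, 1, 1]),
    (2, [-1, 0, -1, 1]), (1, [-1, 1, -1, -1]), (0, [0, -1, 0, 0])] : List (ℕ × List ℤ))) (u v : Kˣ) :
    chiPair φ r u v = u ^ L.getD 0 0 * v ^ L.getD 1 0 * Units.map (φ : K →* K) u ^ L.getD 2 0 *
      Units.map (φ : K →* K) (Units.map (φ : K →* K) u) ^ L.getD 3 0 := by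
  have e : (List.range 4).map (fun i => chevD4.cartan i r) = L := cartan_rows (r, L) h
  rw [← e]
  rfl

/-- Long roots among the representatives. -/
abbrev longs : List ℕ := [14, 22, 23, 9, 1, 0]

/-- Short roots among the representatives. -/
abbrev shorts : List ℕ := [18, 15, 17, 5, 4, 2]

theorem len_eq : (∀ r ∈ longs, r ∈ d4Twist.reps ∧ d4Twist.len r = 1) ∧
    (∀ r ∈ shorts, r ∈ d4Twist.reps ∧ d4Twist.len r = 3) ∧ (∀ r ∈ d4Twist.reps, r ∈ longs ∨ r ∈ shorts) := by
  decide +kernel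

variable [Fintype K] {q : ℕ} (h : Hyp (ctxD4 hD φ) q 3)

section WithHyp

include hD h

theorem phi_pow (t : K) : φ t = t ^ q := h.pow t

theorem phi_three (t : K) : φ (φ (φ t)) = t := by
  rw [phi_pow hD φ h, phi_pow hD φ h, phi_pow hD φ h, ← pow_mul, ← pow_mul,
    show q * (q * q) = q ^ 3 by ring, ← h.card, FiniteField.pow_card]

theorem phiU_three (u : Kˣ) :
    Units.map (φ : K →* K) (Units.map (φ : K →* K) (Units.map (φ : K →* K) u)) = u :=
  Units.ext (phi_three hD φ h u)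

theorem iter_len {r : ℕ} (hr : r ∈ shorts) (t : K) : (⇑φ)^[d4Twist.len r] t = t := by
  rw [(len_eq.2.1 r hr).2]
  exact phi_three hD φ h t

/-- Symmetric parameters from a unit and a fixed unit. -/
theorem exists_tor (u v : Kˣ) (hv : Units.map (φ : K →* K) v = v) :
    ∃ x ∈ TorSym d4Twist φ, ∀ r, chiX x r = chiPair φ r u v := by
  let y : Fin 4 → Kˣ := ![u, v, Units.map (φ : K →* K) u, Units.map (φ : K →* K) (Units.map (φ : K →* K) u)]
  let x : Fin chevD4.rank → Kˣ := y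
  have hx : x ∈ TorSym d4Twist φ := by
    suffices hall : ∀ i' : Fin 4, y ((![2, 1, 3, 0] : Fin 4 → Fin 4) i') = Units.map (φ : K →* K) (y i') from
      fun i => hall i
    intro i'
    fin_cases i'
    · rfl
    · exact hv.symm
    · rfl
    · exact (phiU_three hD φ h u).symm
  exact ⟨x, hx, fun r => by rw [chi_rep φ hx]; rfl⟩

/-- The norm. -/
theorem phi_norm (u : Kˣ) :
    Units.map (φ : K →* K) (u * Units.map (φ : K →* K) u * Units.map (φ : K →* K) (Units.map (φ : K →* K) u)) =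
      u * Units.map (φ : K →* K) u * Units.map (φ : K →* K) (Units.map (φ : K →* K) u) := by
  rw [map_mul, map_mul, phiU_three hD φ h u, mul_comm _ u, ← mul_assoc]

theorem exists_not_fixed : ∃ t : Kˣ, Units.map (φ : K →* K) t ≠ t := by
  by_contra hne
  push Not at hne
  have h1 : Nat.card {t : Kˣ // t ^ (q - 1) = 1} = Nat.card Kˣ := by
    refine Nat.card_congr (Equiv.subtypeUnivEquiv fun t => ?_)
    have e : t ^ q = t := Units.ext (by rw [Units.val_pow_eq_pow_val, ← phi_pow hD φ h]; exact congrArg Units.val (hne t))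
    rw [← Nat.sub_add_cancel h.one_lt.le, pow_succ] at e
    exact mul_eq_right.1 e
  rw [card_units_fixed K h.card, Nat.card_units, Nat.card_eq_fintype_card, h.card] at h1
  have := Nat.pow_lt_pow_right h.one_lt (show 1 < 3 by norm_num)
  rw [pow_one] at this
  have := h.one_lt
  omega

/-- A torus element trivial on the long and moving every short root subgroup. -/
theorem exists_fix_long : ∃ x ∈ TorSym d4Twist φ, (∀ r ∈ longs, chiX x r = 1) ∧ ∀ r ∈ shorts, chiX x r ≠ 1 := by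
  obtain ⟨w, hw⟩ := exists_not_fixed hD φ h
  set P := Units.map (φ : K →* K) with hP
  have h3 : ∀ t, P (P (P t)) = t := phiU_three hD φ h
  obtain ⟨u, hu⟩ : ∃ u, u = w * (P w)⁻¹ := ⟨_, rfl⟩
  have hN : u * P u * P (P u) = 1 := by
    simp only [hu, map_mul, map_inv, h3]
    calc w * (P w)⁻¹ * (P w * (P (P w))⁻¹) * (P (P w) * w⁻¹)
        = w * ((P w)⁻¹ * P w) * ((P (P w))⁻¹ * P (P w)) * w⁻¹ := by ac_rfl
      _ = 1 := by simp
  have hu1 : u ≠ 1 := fun e => hw (mul_inv_eq_one.1 (hu.symm.trans e)).symm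
  have hu2 : u * u ≠ 1 := fun e => by
    have e' : ((u : Kˣ) : K) * (u : Kˣ) = 1 := by rw [← Units.val_mul, e, Units.val_one]
    have hφ : P u = u := Units.ext (by
      show φ (u : K) = u
      rcases mul_self_eq_one_iff.1 e' with h1 | h1 <;> simp [h1])
    rw [hφ, hφ, e, one_mul] at hN
    exact hu1 hN
  obtain ⟨x, hx, hχ⟩ := exists_tor hD φ h u 1 (map_one _)
  have hb : P (P u) = (u * P u)⁻¹ := eq_inv_of_mul_eq_one_right hN
  have huu : ∀ t : Kˣ, t * t = 1 → t = u → False := fun t ht e => hu2 (e ▸ ht)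
  have hu2' : (u * u)⁻¹ ≠ 1 := inv_ne_one.2 hu2
  have hP2 : P u * P u ≠ 1 := fun e => hu2 (by
    have := congrArg (fun t => P (P t)) e
    simpa [map_mul, h3] using this)
  refine ⟨x, hx, fun r hr => ?_, fun r hr => ?_⟩
  · rw [hχ]
    simp only [List.mem_cons, List.not_mem_nil, or_false] at hr
    rcases hr with rfl | rfl | rfl | rfl | rfl | rfl <;>
      rw [chi_eval φ (by simp; rfl)] <;> simp [← hP, hb, mul_comm, mul_left_comm]
  · rw [hχ]
    simp only [List.mem_cons, List.not_mem_nil, or_false] at hr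
    have hPu : P (P u) * P (P u) ≠ 1 := fun e => hP2 (by
      have := congrArg (fun t => P (P t)) e
      simpa [map_mul, h3] using this)
    have hq1 : u⁻¹ * (P u)⁻¹ * P (P u) = P (P u) * P (P u) := by rw [hb]; simp [mul_comm, mul_left_comm]
    have hq2 : u⁻¹ * P u * P (P u) = (u * u)⁻¹ := by rw [hb]; simp [mul_comm, mul_left_comm]
    rcases hr with rfl | rfl | rfl | rfl | rfl | rfl <;>
      rw [chi_eval φ (by simp; rfl)] <;> simp [← hP, _root_.zpow_ofNat, pow_two]
    · exact hu2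
    · exact hq1 ▸ hPu
    · exact hq2 ▸ hu2'
    · exact fun e => hu2 (inv_injective (by simpa [mul_inv_rev] using e))
    · exact hq2 ▸ hu2'
    · exact hq1 ▸ hPu

/-- Torus elements realising every dilation of the first short root, trivial on the long simple root. -/
theorem exists_diag (c : Kˣ) : ∃ x ∈ TorSym d4Twist φ,
    chiX x 18 = c ∧ chiX x 14 = 1 ∧ chiX x 15 = Units.map (φ : K →* K) (Units.map (φ : K →* K) c) := by
  set P := Units.map (φ : K →* K) with hP
  have h3 : ∀ t, P (P (P t)) = t := phiU_three hD φ h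
  obtain ⟨w, hw⟩ : ∃ w, w = P c * P (P c) := ⟨_, rfl⟩
  obtain ⟨v, hv⟩ : ∃ v, v = c * w := ⟨_, rfl⟩
  have hPv : P v = v := by rw [hv, hw, ← mul_assoc]; exact phi_norm hD φ h c
  have hsq : ∀ t : Kˣ, P t = t ^ q := fun t => Units.ext (by simpa [hP] using phi_pow hD φ h (t : K))
  obtain ⟨u, hu⟩ : ∃ u : Kˣ, u * u = c * v := by
    obtain ⟨m, hm⟩ : ∃ m, q + q * q = 2 * m := by
      obtain ⟨m, hm⟩ := (Nat.even_mul_succ_self q).two_dvd
      exact ⟨m, by rw [← hm]; ring⟩
    refine ⟨c * c ^ m, ?_⟩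
    rw [hv, hw, hsq, hsq, ← pow_mul, ← pow_add, hm, two_mul, pow_add]
    ac_rfl
  obtain ⟨u, hu, hN⟩ : ∃ u : Kˣ, u * u = c * v ∧ u * P u * P (P u) = v * v := by
    have e2 : (u * P u * P (P u)) * (u * P u * P (P u)) = v * v * (v * v) := by
      calc _ = (u * u) * P (u * u) * P (P (u * u)) := by simp only [map_mul]; ac_rfl
        _ = c * v * (P c * v) * (P (P c) * v) := by rw [hu, map_mul, map_mul, hPv, hPv]
        _ = _ := by rw [hv, hw]; ac_rfl
    have e' : ((u * P u * P (P u) : Kˣ) : K) * ((u * P u * P (P u) : Kˣ) : K) =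
        ((v * v : Kˣ) : K) * ((v * v : Kˣ) : K) := by rw [← Units.val_mul, e2, Units.val_mul]
    rcases mul_self_eq_mul_self_iff.1 e' with h1 | h1
    · exact ⟨u, hu, Units.ext h1⟩
    · refine ⟨-u, by rw [neg_mul_neg, hu], Units.ext ?_⟩
      simp only [Units.val_mul, hP, Units.coe_map, MonoidHom.coe_coe, Units.val_neg, map_neg] at h1 ⊢
      linear_combination -h1
  obtain ⟨x, hx, hχ⟩ := exists_tor hD φ h u v hPv
  have h14 : chiX x 14 = 1 := by
    rw [hχ, chi_eval φ (L := [-1, 2, -1, -1]) (by simp)]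
    simp [← hP, _root_.zpow_ofNat, pow_two]
    calc u⁻¹ * (v * v) * (P u)⁻¹ * (P (P u))⁻¹ = (v * v) * (u * P u * P (P u))⁻¹ := by
          simp only [mul_inv_rev]; ac_rfl
      _ = 1 := by rw [hN, mul_inv_cancel]
  have h18 : chiX x 18 = c := by
    rw [hχ, chi_eval φ (L := [2, -1, 0, 0]) (by simp)]
    simp [← hP, _root_.zpow_ofNat, pow_two, hu]
  refine ⟨x, hx, h18, h14, ?_⟩
  rw [← h18]
  calc chiX x 15 = chiX x 14 * P (P (chiX x 18)) := ?_
    _ = _ := by rw [h14, one_mul]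
  rw [hχ, hχ, hχ, chi_eval φ (L := [-1, 1, -1, 1]) (by simp), chi_eval φ (L := [-1, 2, -1, -1]) (by simp),
    chi_eval φ (L := [2, -1, 0, 0]) (by simp)]
  simp [← hP, _root_.zpow_ofNat, pow_two, map_mul, map_inv, hPv]
  rw [show u⁻¹ * (v * v) * (P u)⁻¹ * (P (P u))⁻¹ * (P (P u) * P (P u) * v⁻¹) =
    u⁻¹ * v * (P u)⁻¹ * P (P u) * ((P (P u))⁻¹ * P (P u)) * (v * v⁻¹) by ac_rfl]
  simp

/-- Torus elements trivial on the first short root, from a fixed unit. -/
theorem exists_fix_short {c : Kˣ} (hc : Units.map (φ : K →* K) c = c) : ∃ x ∈ TorSym d4Twist φ,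
    chiX x 18 = 1 ∧ chiX x 17 = c ∧ chiX x 22 = c := by
  obtain ⟨x, hx, hχ⟩ := exists_tor hD φ h c (c * c) (by rw [map_mul, hc])
  refine ⟨x, hx, ?_, ?_, ?_⟩
  · rw [hχ, chi_eval φ (L := [2, -1, 0, 0]) (by simp)]; simp [_root_.zpow_ofNat, pow_two]
  · rw [hχ, chi_eval φ (L := [-1, 0, 1, 1]) (by simp)]; simp [hc]
  · rw [hχ, chi_eval φ (L := [1, -1, 1, 1]) (by simp)]; simp [hc, mul_comm, mul_left_comm]

/-- The norm is surjective onto the fixed units. -/
theorem exists_norm {c : Kˣ} (hc : Units.map (φ : K →* K) c = c) :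
    ∃ u, u * Units.map (φ : K →* K) u * Units.map (φ : K →* K) (Units.map (φ : K →* K) u) = c := by
  classical
  let N : Kˣ →* Kˣ := powMonoidHom (1 + q + q * q)
  have hNu : ∀ u, N u = u * Units.map (φ : K →* K) u * Units.map (φ : K →* K) (Units.map (φ : K →* K) u) := fun u =>
    Units.ext (by simp [N, phi_pow hD φ h, pow_add, pow_mul])
  let S : Subgroup Kˣ := (powMonoidHom (q - 1) : Kˣ →* Kˣ).ker
  have hle : N.range ≤ S := by
    rintro _ ⟨u, rfl⟩
    show (u ^ (1 + q + q * q)) ^ (q - 1) = 1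
    have hu : u ^ (q ^ 3 - 1) = 1 := Units.ext (by
      simpa [h.card] using FiniteField.pow_card_sub_one_eq_one (u : K) u.ne_zero)
    rw [← pow_mul, ← hu]
    congr 1
    obtain ⟨k, rfl⟩ : ∃ k, q = k + 1 := ⟨q - 1, by have := h.one_lt; omega⟩
    have : (k + 1) ^ 3 = (1 + (k + 1) + (k + 1) * (k + 1)) * k + 1 := by ring
    rw [Nat.add_sub_cancel, this, Nat.add_sub_cancel]
  have hcS : c ∈ S := by
    show c ^ (q - 1) = 1
    have e : c ^ q = c := Units.ext (by
      rw [Units.val_pow_eq_pow_val, ← phi_pow hD φ h]; exact congrArg Units.val hc)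
    rw [← Nat.sub_add_cancel h.one_lt.le, pow_succ] at e
    exact mul_eq_right.1 e
  have hS : Nat.card S = q - 1 := by
    rw [IsCyclic.card_powMonoidHom_ker, Nat.card_units, Nat.card_eq_fintype_card, h.card]
    exact Nat.gcd_eq_right (by simpa using Nat.sub_dvd_pow_sub_pow q 1 3)
  have hR : q - 1 ≤ Nat.card N.range := by
    have h1 : Nat.card N.ker ≤ 1 + q + q * q := by
      rw [IsCyclic.card_powMonoidHom_ker]
      exact Nat.gcd_le_right _ (by omega)
    have h2 : Nat.card N.ker * Nat.card N.range = q ^ 3 - 1 := by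
      rw [← Subgroup.index_ker, Subgroup.card_mul_index, Nat.card_units, Nat.card_eq_fintype_card, h.card]
    obtain ⟨k, rfl⟩ : ∃ k, q = k + 1 := ⟨q - 1, by have := h.one_lt; omega⟩
    have h3 : (k + 1) ^ 3 - 1 = (1 + (k + 1) + (k + 1) * (k + 1)) * k := by
      rw [show (k + 1) ^ 3 = (1 + (k + 1) + (k + 1) * (k + 1)) * k + 1 by ring, Nat.add_sub_cancel]
    rw [h3] at h2
    simp only [Nat.add_sub_cancel]
    exact Nat.le_of_mul_le_mul_left (h2 ▸ Nat.mul_le_mul_right _ h1) (by omega)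
  obtain ⟨u, hu⟩ := (Subgroup.eq_of_le_of_card_ge hle (hS ▸ hR)).ge hcS
  exact ⟨u, (hNu u).symm.trans hu⟩

/-- The field elements used by the diagonal criterion. -/
theorem exists_three : ∃ t : K, t ≠ 0 ∧ t + 1 ≠ 0 ∧ t * t + t + 1 ≠ 0 := by
  classical
  by_contra hne
  push Not at hne
  set P : Polynomial K := Polynomial.X * ((Polynomial.X + 1) * (Polynomial.X ^ 2 + Polynomial.X + 1)) with hP
  have hdeg : P.natDegree ≤ 4 := by rw [hP]; compute_degree
  have h0 : P = 0 := Polynomial.eq_zero_of_natDegree_lt_card_of_eval_eq_zero P (ι := K) Function.injective_id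
    (fun t => by
      by_cases h0 : t = 0
      · simp [hP, h0]
      by_cases h1 : t + 1 = 0
      · simp [hP, h1]
      · have := hne t h0 h1
        simp [hP, pow_two, this])
    (lt_of_le_of_lt hdeg (by
      rw [h.card]
      exact lt_of_lt_of_le (by norm_num) (Nat.pow_le_pow_left (show 2 ≤ q from h.one_lt) 3)))
  have := congrArg (fun Q : Polynomial K => Q.coeff 1) h0
  simp [hP, Polynomial.coeff_X_mul, Polynomial.coeff_zero_eq_eval_zero] at this

/-- The trace is not zero. -/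
theorem exists_trace : ∃ t : K, t + φ t + φ (φ t) ≠ 0 := by
  classical
  by_contra hne
  push Not at hne
  have h2 := h.one_lt
  set P : Polynomial K := Polynomial.X + Polynomial.X ^ q + Polynomial.X ^ (q * q) with hP
  have hdeg : P.natDegree ≤ q * q := by
    rw [hP]
    compute_degree
    simp only [max_le_iff, le_refl, and_true]
    constructor <;> nlinarith
  have h0 : P = 0 := Polynomial.eq_zero_of_natDegree_lt_card_of_eval_eq_zero P (ι := K) Function.injective_id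
    (fun t => by
      have := hne t
      rw [phi_pow hD φ h, phi_pow hD φ h, ← pow_mul] at this
      simpa [hP] using this)
    (lt_of_le_of_lt hdeg (by
      rw [h.card, ← pow_two]; exact Nat.pow_lt_pow_right h.one_lt (by norm_num)))
  have := congrArg (fun Q : Polynomial K => Q.coeff 1) h0
  simp [hP, Polynomial.coeff_X_pow, show ¬ 1 = q by omega, show ¬ 1 = q * q by nlinarith] at this

end WithHyp

/-! ### Relations -/

theorem gx_bracket {r s k : ℕ} {c : ℤ} (hr : r < chevD4.nroots) (hs : s < chevD4.nroots) (h₁ : s ≠ r)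
    (h₂ : s ≠ chevD4.neg r) (hterms : chevD4.commTerms r s = [(k, c, 1, 1)]) (t u : K) :
    ⁅gx hD K s u, gx hD K r t⁆ = gx hD K k (-((c : K) * t * u)) := by
  have hcomm := hD.commutator hr hs h₁ h₂ (-t) (-u)
  have e : gx hD K s (-u) * gx hD K r (-t) = gx hD K r (-t) * gx hD K s (-u) * gx hD K k (-((c : K) * t * u)) :=
    Units.ext (by
      simp only [Units.val_mul, coe_gx, hcomm]
      simp [ChevalleyDatum.commWord, hterms, ChevalleyDatum.wordMat, mul_assoc])
  rw [← gx_inv, ← gx_inv] at e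
  calc ⁅gx hD K s u, gx hD K r t⁆ = gx hD K s u * gx hD K r t * ((gx hD K s u)⁻¹ * (gx hD K r t)⁻¹) := by
        simp only [commutatorElement_def, mul_assoc]
    _ = _ := by rw [e]; group

/-- Commutation of two orbit subgroups is decided on their members. -/
abbrev CommOrb (a b : ℕ) : Prop :=
  ∀ i < 3, ∀ j < 3, d4Twist.rho^[i] a = d4Twist.rho^[j] b ∨
    (d4Twist.rho^[j] b ≠ chevD4.neg (d4Twist.rho^[i] a) ∧
      chevD4.commTerms (d4Twist.rho^[i] a) (d4Twist.rho^[j] b) = [])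

theorem commute_o {a b : ℕ} (hab : CommOrb a b) (ha : a ∈ d4Twist.reps) (hb : b ∈ d4Twist.reps) (t u : K) :
    Commute (o a t) (o b u) := by
  have hla : d4Twist.len a ≤ 3 := by
    rcases len_eq.2.2 a ha with h | h
    · rw [(len_eq.1 a h).2]; norm_num
    · rw [(len_eq.2.1 a h).2]
  have hlb : d4Twist.len b ≤ 3 := by
    rcases len_eq.2.2 b hb with h | h
    · rw [(len_eq.1 b h).2]; norm_num
    · rw [(len_eq.2.1 b h).2]
  have ha' := (d4Twist_ok.rep_lt a ha).1
  have hb' := (d4Twist_ok.rep_lt b hb).1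
  refine Commute.list_prod_left _ _ fun x hx => Commute.list_prod_right _ _ fun y hy => ?_
  obtain ⟨i, hi, rfl⟩ := List.mem_map.1 hx
  obtain ⟨j, hj, rfl⟩ := List.mem_map.1 hy
  rw [List.mem_range] at hi hj
  rcases hab i (by omega) j (by omega) with e | ⟨e1, e2⟩
  · rw [← e]
    show _ * _ = _ * _
    rw [← gx_add, ← gx_add, add_comm]
  · exact commute_gx hD (d4Twist_ok.iter_lt ha' i) (d4Twist_ok.iter_lt hb' j) e1 e2 _ _

theorem bracket_tables :
    chevD4.commTerms 17 18 = [(22, 1, 1, 1)] ∧ chevD4.commTerms 20 13 = [(22, -1, 1, 1)] ∧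
    chevD4.commTerms 21 12 = [(22, -1, 1, 1)] ∧
    (d4Twist.rho 18 = 13 ∧ d4Twist.rho 13 = 12 ∧ d4Twist.eps 18 = 1 ∧ d4Twist.eps 13 = 1) ∧
    (d4Twist.rho 17 = 20 ∧ d4Twist.rho 20 = 21 ∧ d4Twist.eps 17 = -1 ∧ d4Twist.eps 20 = 1) ∧
    (∀ p ∈ ([(18, 20), (18, 21), (13, 17), (13, 21), (12, 17), (12, 20), (18, 22), (13, 22), (12, 22), (17, 22),
      (20, 22), (21, 22)] : List (ℕ × ℕ)), p.2 ≠ chevD4.neg p.1 ∧ chevD4.commTerms p.1 p.2 = []) ∧
    (∀ p ∈ ([17, 20, 21, 18, 13, 12, 22] : List ℕ), p < chevD4.nroots) ∧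
    18 ≠ chevD4.neg 17 ∧ 13 ≠ chevD4.neg 20 ∧ 12 ≠ chevD4.neg 21 := by
  decide +kernel

/-- The commutator of the root subgroups of α and 2α + β. -/
theorem bracket_o (x y : K) :
    ⁅o 18 x, o 17 y⁆ = gx hD K 22 (-(x * y + φ (x * y) + φ (φ (x * y)))) := by
  obtain ⟨t0, t1, t2, ⟨a1, a2, b1, b2⟩, ⟨a1', a2', b1', b2'⟩, hcm, hlt, n0, n1, n2⟩ := bracket_tables
  have c : ∀ p ∈ ([(18, 20), (18, 21), (13, 17), (13, 21), (12, 17), (12, 20), (18, 22), (13, 22), (12, 22),
      (17, 22), (20, 22), (21, 22)] : List (ℕ × ℕ)), ∀ t u, Commute (gx hD K p.1 t) (gx hD K p.2 u) := by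
    intro p hp t u
    refine commute_gx hD (hlt p.1 ?_) (hlt p.2 ?_) (hcm p hp).1 (hcm p hp).2 t u <;>
      (revert p; decide)
  have h18 : o 18 x = gx hD K 18 x * gx hD K 13 (φ x) * gx hD K 12 (φ (φ x)) := by
    rw [orb, (len_eq.2.1 18 (by simp)).2]
    simp [List.range_succ, cf, esgn, a1, a2, b1, b2, mul_assoc]
  have h17 : o 17 y = gx hD K 17 y * gx hD K 20 (-φ y) * gx hD K 21 (-φ (φ y)) := by
    rw [orb, (len_eq.2.1 17 (by simp)).2]
    simp [List.range_succ, cf, esgn, a1', a2', b1', b2', mul_assoc]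
  rw [h18, h17]
  have k0 : gx hD K 18 x * gx hD K 17 y = gx hD K 22 (-(x * y)) * (gx hD K 17 y * gx hD K 18 x) := by
    have := gx_bracket hD (hlt 17 (by simp)) (hlt 18 (by simp)) (by decide) n0 t0 y x
    rw [commutatorElement_def] at this
    rw [show -(x * y) = -(((1 : ℤ) : K) * y * x) by simp [mul_comm], ← this]; group
  have k1 : gx hD K 13 (φ x) * gx hD K 20 (-φ y) = gx hD K 22 (-φ (x * y)) * (gx hD K 20 (-φ y) * gx hD K 13 (φ x)) := by
    have := gx_bracket hD (hlt 20 (by simp)) (hlt 13 (by simp)) (by decide) n1 t1 (-φ y) (φ x)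
    rw [commutatorElement_def] at this
    rw [show -φ (x * y) = -(((-1 : ℤ) : K) * (-φ y) * φ x) by simp [mul_comm], ← this]; group
  have k2 : gx hD K 12 (φ (φ x)) * gx hD K 21 (-φ (φ y)) = gx hD K 22 (-φ (φ (x * y))) * (gx hD K 21 (-φ (φ y)) * gx hD K 12 (φ (φ x))) := by
    have := gx_bracket hD (hlt 21 (by simp)) (hlt 12 (by simp)) (by decide) n2 t2 (-φ (φ y)) (φ (φ x))
    rw [commutatorElement_def] at this
    rw [show -φ (φ (x * y)) = -(((-1 : ℤ) : K) * (-φ (φ y)) * φ (φ x)) by simp [mul_comm], ← this]; group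
  set A0 := gx hD K 18 x; set A1 := gx hD K 13 (φ x); set A2 := gx hD K 12 (φ (φ x))
  set B0 := gx hD K 17 y; set B1 := gx hD K 20 (-φ y); set B2 := gx hD K 21 (-φ (φ y))
  set Z0 := gx hD K 22 (-(x * y)); set Z1 := gx hD K 22 (-φ (x * y)); set Z2 := gx hD K 22 (-φ (φ (x * y)))
  have z : gx hD K 22 (-(x * y + φ (x * y) + φ (φ (x * y)))) = Z0 * Z1 * Z2 := by
    simp only [Z0, Z1, Z2, ← gx_add]; congr 1; ring
  rw [z, commutatorElement_def, mul_inv_eq_iff_eq_mul, mul_inv_eq_iff_eq_mul]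
  have a01 : A0 * B1 = B1 * A0 := c (18, 20) (by simp) _ _
  have a02 : A0 * B2 = B2 * A0 := c (18, 21) (by simp) _ _
  have a10 : A1 * B0 = B0 * A1 := c (13, 17) (by simp) _ _
  have a12 : A1 * B2 = B2 * A1 := c (13, 21) (by simp) _ _
  have a20 : A2 * B0 = B0 * A2 := c (12, 17) (by simp) _ _
  have a21 : A2 * B1 = B1 * A2 := c (12, 20) (by simp) _ _
  have w0 : ∀ v, A0 * gx hD K 22 v = gx hD K 22 v * A0 := c (18, 22) (by simp) _
  have w1 : ∀ v, A1 * gx hD K 22 v = gx hD K 22 v * A1 := c (13, 22) (by simp) _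
  have b0 : ∀ v, B0 * gx hD K 22 v = gx hD K 22 v * B0 := c (17, 22) (by simp) _
  have b1 : ∀ v, B1 * gx hD K 22 v = gx hD K 22 v * B1 := c (20, 22) (by simp) _
  calc A0 * A1 * A2 * (B0 * B1 * B2) = A0 * A1 * (A2 * B0) * B1 * B2 := by group
    _ = A0 * (A1 * B0) * (A2 * B1) * B2 := by rw [a20]; group
    _ = A0 * B0 * (A1 * B1) * (A2 * B2) := by rw [a10, a21]; group
    _ = Z0 * B0 * (A0 * Z1) * B1 * (A1 * Z2) * B2 * A2 := by rw [k0, k1, k2]; group
    _ = Z0 * B0 * Z1 * (A0 * B1) * Z2 * (A1 * B2) * A2 := by rw [w0, w1]; simp only [Z0, Z1, Z2]; group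
    _ = Z0 * B0 * Z1 * B1 * (A0 * Z2) * B2 * A1 * A2 := by rw [a01, a12]; group
    _ = Z0 * (B0 * Z1) * (B1 * Z2) * (A0 * B2) * A1 * A2 := by rw [w0]; simp only [Z0, Z1, Z2]; group
    _ = Z0 * Z1 * (B0 * Z2) * B1 * B2 * A0 * A1 * A2 := by rw [b0, b1, a02]; simp only [Z0, Z1, Z2]; group
    _ = _ := by rw [b0]; simp only [Z0, Z1, Z2]; group

include h in
/-- Commutators of α and 2α + β give the whole of 3α + β. -/
theorem mu_surj {t : K} (ht : φ t = t) : ∃ x y, ⁅o 18 x, o 17 y⁆ = o 22 t := by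
  obtain ⟨w, hw⟩ := exists_trace hD φ h
  set T := w + φ w + φ (φ w) with hT
  have hfT : φ T = T := by simp only [hT, map_add, phi_three hD φ h]; ring
  refine ⟨-(t / T), w, ?_⟩
  rw [bracket_o hD φ, show o 22 t = gx hD K 22 t from (ctxD4 hD φ).orb_of_len_one (len_eq.1 22 (by simp)).2 t]
  congr 1
  simp only [map_mul, map_neg, map_div₀, ht, hfT]
  calc -(-(t / T) * w + -(t / T) * φ w + -(t / T) * φ (φ w)) = t / T * T := by rw [hT]; ring
    _ = t := div_mul_cancel₀ _ hw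

/-- The component at 2α + β of a commutator of α and α + β in characteristic 2. -/
theorem bracket_two [CharP K 2] (h3 : ∀ t, φ (φ (φ t)) = t) (z : K) :
    ∃ C E, φ C = C ∧ φ E = E ∧
      o 18 1 * o 15 z * o 18 1 = o 15 z * o 17 (z + φ (φ z)) * o 22 C * o 23 E := by
  obtain ⟨C, E, hC, hE, e⟩ := TwistE6D4.D4.conj_a' hD h3 z 0 1 (map_zero φ) (map_zero φ)
  have z0 : ∀ r, o r (0 : K) = 1 := (ctxD4 hD φ).orb_zero
  exact ⟨C, E, hC, hE, by simpa [z0] using e⟩

end Cfsg.Agent.TwistMult.D4
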