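/-
Central extensions of ³D₄(q): preimages of the root subgroups.

* `Ext` : a perfect central extension; `pre`, `preH`, `Ys` and their equivariance;
* `commute_long_short`, `pre_short_abel` : preimages commute;
* `Ys_inj`, `Ys_map` : the lifts of the short root subgroups.
-/
import Cfsg.Agent.Lib.TwistMult.D4Facts
import Cfsg.Agent.Lib.TwistMult.Central

set_option autoImplicit false
set_option maxRecDepth 100000

namespace Cfsg.Agent.TwistMult.D4

open Cfsg.Lie Cfsg.Lie.ChevalleyDatum Cfsg.Agent.Chev Cfsg.Agent.TwistE6D4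
open scoped commutatorElement

universe u

/-- The representative of an orbit. -/
def rOf (q : ℕ) : ℕ :=
  (d4Twist.reps.find? fun r => decide (∃ i < d4Twist.len r, d4Twist.rho^[i] r = q)).getD 0

/-- The reflections on representatives. -/
def wr (a : Fin 2) (r : ℕ) : ℕ := rOf (wF d4Twist (d4Node a) r)

/-- A word on representatives. -/
def wrL (l : List (Fin 2)) (r : ℕ) : ℕ := l.foldr wr r

theorem wr_table : ∀ a : Fin 2, ∀ r ∈ d4Twist.reps,
    wr a r ∈ d4Twist.reps ∧ d4Twist.len (wr a r) = d4Twist.len r := by decide +kernel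

theorem short_orbit : ∀ r ∈ shorts, ∃ l ∈ ([[], [1], [0], [0, 1], [1, 0], [1, 0, 1], [0, 1, 0], [0, 1, 0, 1],
    [1, 0, 1, 0], [1, 0, 1, 0, 1], [0, 1, 0, 1, 0], [0, 1, 0, 1, 0, 1]] : List (List (Fin 2))),
    wrL l 18 = r := by decide +kernel

variable {K : Type u} [Field K] [Fintype K] {hD : Good chevD4} {φ : K →+* K} {q : ℕ}
  {Γ : Type u} [Group Γ] [Finite Γ] {σ : Γ →* GL chevD4.Idx K}

/-- A perfect central extension of ³D₄(q). -/
structure Ext (hD : Good chevD4) (φ : K →+* K) (q : ℕ) (σ : Γ →* GL chevD4.Idx K) : Prop where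
  hyp : Hyp (ctxD4 hD φ) q 3
  central : σ.ker ≤ Subgroup.center Γ
  perfect : commutator Γ = ⊤
  range_eq : σ.range = (ctxD4 hD φ).G0

variable (hD φ σ)

/-- The preimage of an orbit root subgroup. -/
def pre (r : ℕ) : Subgroup Γ := ((ctxD4 hD φ).Uo r).comap σ

/-- The preimage of the torus. -/
def preH : Subgroup Γ := (ctxD4 hD φ).H0.comap σ

/-- The lift of a short orbit root subgroup. -/
def Ys (r : ℕ) : Subgroup Γ := ⁅preH hD φ σ, pre hD φ σ r⁆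

/-- The fixed elements. -/
def fixA : AddSubgroup K where
  carrier := {t | φ t = t}
  zero_mem' := map_zero φ
  add_mem' {a b} ha hb := show φ (a + b) = a + b by rw [map_add, ha, hb]
  neg_mem' {a} ha := show φ (-a) = -a by rw [map_neg, ha]

variable {hD φ σ}

local notation "o" => orb hD d4Twist φ

section Map

variable {g : Γ}

theorem map_comap_conj {A B : Subgroup (GL chevD4.Idx K)}
    (e : A.map (MulAut.conj (σ g)).toMonoidHom = B) :
    (A.comap σ).map (MulAut.conj g).toMonoidHom = B.comap σ := by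
  refine RGD.RootData.map_conj_eq _ (fun x hx => ?_) (fun y hy => ?_)
  · show σ (g * x * g⁻¹) ∈ B
    rw [map_mul, map_mul, map_inv, ← e]
    exact ⟨σ x, hx, rfl⟩
  · show σ (g⁻¹ * y * g) ∈ A
    have : σ y ∈ A.map (MulAut.conj (σ g)).toMonoidHom := e ▸ hy
    rw [RGD.RootData.mem_map_conj] at this
    rwa [map_mul, map_mul, map_inv]

theorem map_bracket_conj {A B A' B' : Subgroup Γ} (e1 : A.map (MulAut.conj g).toMonoidHom = A')
    (e2 : B.map (MulAut.conj g).toMonoidHom = B') : ⁅A, B⁆.map (MulAut.conj g).toMonoidHom = ⁅A', B'⁆ := by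
  rw [Subgroup.map_commutator, e1, e2]

end Map

section Ext

variable (E : Ext hD φ q σ)
include E

omit E in
theorem center_le_pre (hc : σ.ker ≤ Subgroup.center Γ) {g : Γ} (h : σ g = 1) (r : ℕ) :
    g ∈ pre hD φ σ r := by
  show σ g ∈ (ctxD4 hD φ).Uo r
  rw [h]; exact one_mem _

theorem exists_of_mem {x : GL chevD4.Idx K} (hx : x ∈ (ctxD4 hD φ).G0) : ∃ g, σ g = x :=
  E.range_eq.ge hx

theorem Uo_le {r : ℕ} (hr : r ∈ d4Twist.reps) : (ctxD4 hD φ).Uo r ≤ (ctxD4 hD φ).G0 :=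
  (ctxD4 hD φ).Uo_le_G0 d4_long ⟨r, hr⟩

theorem exists_o {r : ℕ} (hr : r ∈ d4Twist.reps) {t : K} (ht : (⇑φ)^[d4Twist.len r] t = t) :
    ∃ g ∈ pre hD φ σ r, σ g = o r t := by
  obtain ⟨g, hg⟩ := exists_of_mem E (Uo_le E hr ((ctxD4 hD φ).orb_mem_Uo hr ht))
  exact ⟨g, show σ g ∈ (ctxD4 hD φ).Uo r from hg ▸ (ctxD4 hD φ).orb_mem_Uo hr ht, hg⟩

theorem exists_short {r : ℕ} (hr : r ∈ shorts) (t : K) : ∃ g ∈ pre hD φ σ r, σ g = o r t :=
  exists_o E (len_eq.2.1 r hr).1 (iter_len hD φ E.hyp hr t)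

theorem exists_long {r : ℕ} (hr : r ∈ longs) {t : K} (ht : φ t = t) : ∃ g ∈ pre hD φ σ r, σ g = o r t :=
  exists_o E (len_eq.1 r hr).1 (by rw [(len_eq.1 r hr).2]; exact ht)

omit E in
theorem eq_o {r : ℕ} (hr : r ∈ d4Twist.reps) {g : Γ} (hg : g ∈ pre hD φ σ r) :
    ∃ t, (⇑φ)^[d4Twist.len r] t = t ∧ σ g = o r t :=
  (ctxD4 hD φ).mem_Uo hr hg

theorem exists_theta {x : Fin chevD4.rank → Kˣ} (hx : x ∈ TorSym d4Twist φ) :
    ∃ g ∈ preH hD φ σ, σ g = theta chevD4 K x := by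
  obtain ⟨g, hg⟩ := exists_of_mem E ((ctxD4 hD φ).theta_mem_G0 hx)
  exact ⟨g, show σ g ∈ (ctxD4 hD φ).H0 by rw [hg]; exact ⟨x, hx, rfl⟩, hg⟩

omit E in
theorem theta_of_preH {g : Γ} (hg : g ∈ preH hD φ σ) :
    ∃ x ∈ TorSym d4Twist φ, σ g = theta chevD4 K x := by
  obtain ⟨x, hx, e⟩ := hg
  exact ⟨x, hx, e.symm⟩

omit E in
theorem preH_comm {g h : Γ} (hg : g ∈ preH hD φ σ) (hh : h ∈ preH hD φ σ) : Commute (σ g) (σ h) := by
  obtain ⟨x, hx, ex⟩ := theta_of_preH hg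
  obtain ⟨y, hy, ey⟩ := theta_of_preH hh
  rw [ex, ey]
  show _ * _ = _ * _
  rw [← map_mul, ← map_mul, mul_comm]

omit E in
theorem map_H_H {g : Γ} (hg : g ∈ preH hD φ σ) :
    (preH hD φ σ).map (MulAut.conj g).toMonoidHom = preH hD φ σ :=
  RGD.RootData.map_conj_eq _ (fun _ hx => mul_mem (mul_mem hg hx) (inv_mem hg))
    (fun _ hy => mul_mem (mul_mem (inv_mem hg) hy) hg)

omit E in
theorem map_pre_H {g : Γ} (hg : g ∈ preH hD φ σ) {r : ℕ} (hr : r ∈ d4Twist.reps) :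
    (pre hD φ σ r).map (MulAut.conj g).toMonoidHom = pre hD φ σ r :=
  map_comap_conj ((ctxD4 hD φ).rgd.map_conj_H_U (show σ g ∈ _ from hg) ⟨r, hr⟩)

omit E in
theorem map_Ys_H {g : Γ} (hg : g ∈ preH hD φ σ) {r : ℕ} (hr : r ∈ d4Twist.reps) :
    (Ys hD φ σ r).map (MulAut.conj g).toMonoidHom = Ys hD φ σ r :=
  map_bracket_conj (map_H_H hg) (map_pre_H hg hr)

omit E in
theorem map_pre_N {g : Γ} {a : Fin 2} (hg : σ g = (ctxD4 hD φ).ns a 1) {r : ℕ} (hr : r ∈ d4Twist.reps) :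
    (pre hD φ σ r).map (MulAut.conj g).toMonoidHom = pre hD φ σ (wr a r) :=
  map_comap_conj (hg ▸ (ctxD4 hD φ).rgd.map_conj_n a ⟨r, hr⟩)

omit E in
theorem map_H_N {g : Γ} {a : Fin 2} (hg : σ g = (ctxD4 hD φ).ns a 1) :
    (preH hD φ σ).map (MulAut.conj g).toMonoidHom = preH hD φ σ :=
  map_comap_conj (hg ▸ RGD.RootData.map_conj_eq _ (fun x hx => (ctxD4 hD φ).rgd.n_conj_H a x hx)
    (fun y hy => (ctxD4 hD φ).rgd.n_conj_H' a hy))

omit E in
theorem map_Ys_N {g : Γ} {a : Fin 2} (hg : σ g = (ctxD4 hD φ).ns a 1) {r : ℕ} (hr : r ∈ d4Twist.reps) :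
    (Ys hD φ σ r).map (MulAut.conj g).toMonoidHom = Ys hD φ σ (wr a r) :=
  map_bracket_conj (map_H_N hg) (map_pre_N hg hr)

theorem exists_ns (a : Fin 2) : ∃ g, σ g = (ctxD4 hD φ).ns a 1 :=
  exists_of_mem E ((ctxD4 hD φ).ns_mem_G0 a ((ctxD4 hD φ).Pm_one a))

/-- Properties transported along the Weyl group. -/
theorem transport {P : ℕ → Prop} (hP : ∀ (a : Fin 2) r, r ∈ d4Twist.reps → P r → P (wr a r))
    {r₀ : ℕ} (h₀ : r₀ ∈ d4Twist.reps) (h : P r₀) (l : List (Fin 2)) : wrL l r₀ ∈ d4Twist.reps ∧ P (wrL l r₀) := by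
  induction l with
  | nil => exact ⟨h₀, h⟩
  | cons a l ih => exact ⟨(wr_table a _ ih.1).1, hP a _ ih.1 ih.2⟩

/-! ### Commutation -/

/-- Preimages of a long and a short root subgroup commute. -/
theorem commute_long_short {l s : ℕ} (hl : l ∈ longs) (hs : s ∈ shorts) (hc : CommOrb l s) {x y : Γ}
    (hx : x ∈ pre hD φ σ l) (hy : y ∈ pre hD φ σ s) : x * y = y * x := by
  obtain ⟨a, ha, ea⟩ := eq_o (len_eq.1 l hl).1 hx
  obtain ⟨b, -, eb⟩ := eq_o (len_eq.2.1 s hs).1 hy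
  rw [(len_eq.1 l hl).2] at ha
  have hla := (len_eq.1 l hl).1
  have hsa := (len_eq.2.1 s hs).1
  refine commute_of_vanish E.central (fun t : fixA φ => o l t.1) (fun t : K => o s t)
    (fun t => let ⟨g, _, e⟩ := exists_long E hl t.2; ⟨g, e⟩)
    (fun t => let ⟨g, _, e⟩ := exists_short E hs t; ⟨g, e⟩)
    (fun t t' => (ctxD4 hD φ).orb_add hla t.1 t'.1) (fun t t' => (ctxD4 hD φ).orb_add hsa t t')
    (fun t t' => commute_o hD φ hc hla hsa t.1 t') ?_ (a := ⟨a, ha⟩) (b := b) ea eb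
  intro β _ hr hinv
  obtain ⟨X, hX, hlong, hshort⟩ := exists_fix_long hD φ E.hyp
  obtain ⟨g, -, eg⟩ := exists_theta E hX
  refine pairing_zero_of_fix β hr (m := fun t => (chiX X s : K) * t) (fun t => ?_) (fun t u => ?_)
  · have hne : (chiX X s : K) - 1 ≠ 0 := sub_ne_zero.2 fun e => hshort s hs (Units.ext e)
    exact ⟨t / ((chiX X s : K) - 1), by field_simp; ring⟩
  · refine hinv g id _ (fun t => ?_) (fun t => ?_) t u
    · rw [eg, theta_conj_orb (ctxD4 hD φ) hX hla, hlong l hl, Units.val_one, one_mul]; rfl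
    · rw [eg]; exact theta_conj_orb (ctxD4 hD φ) hX hsa t

theorem pre18_abel {x y : Γ} (hx : x ∈ pre hD φ σ 18) (hy : y ∈ pre hD φ σ 18) : x * y = y * x := by
  have h18 : (18 : ℕ) ∈ d4Twist.reps := (len_eq.2.1 18 (by simp)).1
  obtain ⟨a, -, ea⟩ := eq_o h18 hx
  obtain ⟨b, -, eb⟩ := eq_o h18 hy
  refine commute_of_vanish E.central (fun t : K => o 18 t) (fun t : K => o 18 t)
    (fun t => let ⟨g, _, e⟩ := exists_short E (by simp) t; ⟨g, e⟩)
    (fun t => let ⟨g, _, e⟩ := exists_short E (by simp) t; ⟨g, e⟩)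
    (fun t t' => (ctxD4 hD φ).orb_add h18 t t') (fun t t' => (ctxD4 hD φ).orb_add h18 t t')
    (fun t t' => commute_o hD φ (by decide +kernel) h18 h18 t t') ?_ ea eb
  intro β hl hr hinv
  refine pairing_zero_diag β hl hr (fun c hc => ?_) (exists_three hD φ E.hyp)
  obtain ⟨X, hX, h1, -⟩ := exists_diag hD φ E.hyp (Units.mk0 c hc)
  obtain ⟨g, -, eg⟩ := exists_theta E hX
  have e : ∀ t, σ g * o 18 t * (σ g)⁻¹ = o 18 (c * t) := fun t => by
    rw [eg, theta_conj_orb (ctxD4 hD φ) hX h18, h1]; rfl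
  exact hinv g _ _ e e

/-- Preimages of short root subgroups are abelian. -/
theorem pre_short_abel {r : ℕ} (hr : r ∈ shorts) {x y : Γ} (hx : x ∈ pre hD φ σ r) (hy : y ∈ pre hD φ σ r) :
    x * y = y * x := by
  obtain ⟨l, -, rfl⟩ := short_orbit r hr
  refine (transport E (P := fun r => ∀ x ∈ pre hD φ σ r, ∀ y ∈ pre hD φ σ r, x * y = y * x) ?_
    (len_eq.2.1 18 (by simp)).1 (fun x hx y hy => pre18_abel E hx hy) l).2 x hx y hy
  intro a r hr ih x hx y hy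
  obtain ⟨g, hg⟩ := exists_ns E a
  rw [← map_pre_N hg hr] at hx hy
  obtain ⟨x, hx', rfl⟩ := hx
  obtain ⟨y, hy', rfl⟩ := hy
  rw [← map_mul, ← map_mul, ih x hx' y hy']

/-! ### The short lifts -/

/-- Every element of a short lift is a commutator with one torus element. -/
theorem exists_fpf : ∃ g ∈ preH hD φ σ, ∀ r ∈ shorts,
    (∀ x ∈ pre hD φ σ r, Commute (σ g) (σ x) → σ x = 1) ∧
    (∀ x ∈ pre hD φ σ r, ∃ y ∈ pre hD φ σ r, σ ⁅g, y⁆ = σ x) := by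
  obtain ⟨X, hX, -, hshort⟩ := exists_fix_long hD φ E.hyp
  obtain ⟨g, hg, eg⟩ := exists_theta E hX
  refine ⟨g, hg, fun r hr => ⟨fun x hx hc => ?_, fun x hx => ?_⟩⟩
  · have hr' := (len_eq.2.1 r hr).1
    obtain ⟨t, -, et⟩ := eq_o hr' hx
    have h1 := theta_conj_orb (ctxD4 hD φ) hX hr' t
    have h2 : σ g * σ x * (σ g)⁻¹ = σ x := by rw [hc.eq, mul_inv_cancel_right]
    rw [et, eg, h1] at h2
    have h3 := (ctxD4 hD φ).orb_inj hr' h2
    have hne : (chiX X r : K) - 1 ≠ 0 := sub_ne_zero.2 fun e => hshort r hr (Units.ext e)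
    have : ((chiX X r : K) - 1) * t = 0 := by linear_combination h3
    rw [et, (mul_eq_zero.1 this).resolve_left hne]
    exact (ctxD4 hD φ).orb_zero r
  · have hr' := (len_eq.2.1 r hr).1
    obtain ⟨t, -, et⟩ := eq_o hr' hx
    have hne : (chiX X r : K) - 1 ≠ 0 := sub_ne_zero.2 fun e => hshort r hr (Units.ext e)
    obtain ⟨y, hy, ey⟩ := exists_short E hr (t / ((chiX X r : K) - 1))
    refine ⟨y, hy, ?_⟩
    rw [map_commutatorElement, ey, eg, commutatorElement_def, theta_conj_orb (ctxD4 hD φ) hX hr', et,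
      mul_inv_eq_iff_eq_mul, ← (ctxD4 hD φ).orb_add hr']
    congr 1
    field_simp
    ring

theorem Ys_inj {r : ℕ} (hr : r ∈ shorts) : ∀ w ∈ Ys hD φ σ r, σ w = 1 → w = 1 := by
  obtain ⟨g, hg, hf⟩ := exists_fpf E
  have hr' := (len_eq.2.1 r hr).1
  have hP : ∀ x ∈ pre hD φ σ r, ∀ y ∈ pre hD φ σ r, x * y = y * x :=
    fun x hx y hy => pre_short_abel E hr hx hy
  intro w hw h1
  refine eq_one_of_bracket E.central hP (h := g)
    (fun x hx => (map_pre_H hg hr').le ⟨x, hx, rfl⟩) (hf r hr).1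
    (S := {w | ∃ x ∈ pre hD φ σ r, w = ⁅g, x⁆}) (fun _ h => h) ?_ h1
  refine (?_ : Ys hD φ σ r ≤ _) hw
  rw [Ys, Subgroup.commutator_le]
  intro h hh p hp
  obtain ⟨p', hp', ep⟩ := (hf r hr).2 p hp
  rw [bracket_congr E.central (rfl : σ h = σ h) ep.symm]
  have e1 : h * ⁅g, p'⁆ * h⁻¹ = ⁅g, h * p' * h⁻¹⁆ := by
    rw [show h * ⁅g, p'⁆ * h⁻¹ = ⁅h * g * h⁻¹, h * p' * h⁻¹⁆ by simp only [commutatorElement_def]; group]
    exact bracket_congr E.central (by rw [map_mul, map_mul, map_inv, (preH_comm hh hg).eq, mul_inv_cancel_right]) rfl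
  have hp'' : h * p' * h⁻¹ ∈ pre hD φ σ r := (map_pre_H hh hr').le ⟨p', hp', rfl⟩
  rw [show ⁅h, ⁅g, p'⁆⁆ = h * ⁅g, p'⁆ * h⁻¹ * ⁅g, p'⁆⁻¹ from commutatorElement_def _ _, e1]
  exact mul_mem (Subgroup.subset_closure ⟨_, hp'', rfl⟩) (inv_mem (Subgroup.subset_closure ⟨_, hp', rfl⟩))

omit E in
theorem Ys_le_pre {r : ℕ} (hr : r ∈ d4Twist.reps) : Ys hD φ σ r ≤ pre hD φ σ r := by
  rw [Ys, Subgroup.commutator_le]
  exact fun h hh p hp => by
    rw [commutatorElement_def]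
    exact mul_mem ((map_pre_H hh hr).le ⟨p, hp, rfl⟩) (inv_mem hp)

theorem Ys_map {r : ℕ} (hr : r ∈ shorts) : (Ys hD φ σ r).map σ = (ctxD4 hD φ).Uo r := by
  have hr' := (len_eq.2.1 r hr).1
  refine le_antisymm (Subgroup.map_le_iff_le_comap.2 (Ys_le_pre hr')) fun x hx => ?_
  obtain ⟨g, hg, hf⟩ := exists_fpf E
  obtain ⟨p, rfl⟩ := exists_of_mem E (Uo_le E hr' hx)
  obtain ⟨y, hy, e⟩ := (hf r hr).2 p hx
  exact ⟨_, Subgroup.commutator_mem_commutator hg hy, e⟩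

theorem exists_Ys {r : ℕ} (hr : r ∈ shorts) (t : K) : ∃ g ∈ Ys hD φ σ r, σ g = o r t :=
  (Ys_map E hr).ge ((ctxD4 hD φ).orb_mem_Uo (len_eq.2.1 r hr).1 (iter_len hD φ E.hyp hr t))

end Ext

end Cfsg.Agent.TwistMult.D4
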