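/-
Central extensions of ³D₄(q): the lifts of the long root subgroups, generated by commutators of short ones.

* `Y` : the lifts of all root subgroups, with `map_Y_H`, `map_Y_N`;
* `Y_map`, `Y_inj` : each lift is isomorphic to its root subgroup; `pre_abel`, `pre_eq`.
-/
import Cfsg.Agent.Lib.TwistMult.D4Short

set_option autoImplicit false
set_option maxRecDepth 100000

namespace Cfsg.Agent.TwistMult.D4

open Cfsg.Lie Cfsg.Lie.ChevalleyDatum Cfsg.Agent.Chev Cfsg.Agent.TwistE6D4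
open scoped commutatorElement

universe u

/-- A long root as the sum of two short ones. -/
def sp (r : ℕ) : ℕ × ℕ :=
  if r = 22 then (18, 17) else if r = 23 then (15, 17) else if r = 14 then (15, 5)
  else if r = 1 then (5, 2) else if r = 0 then (4, 2) else (4, 18)

theorem sp_table : ∀ a : Fin 2, ∀ r ∈ longs, wr a r ∈ longs ∧ (sp r).1 ∈ shorts ∧ (sp r).2 ∈ shorts ∧
    ((sp (wr a r) = (wr a (sp r).1, wr a (sp r).2)) ∨ (sp (wr a r) = (wr a (sp r).2, wr a (sp r).1))) := by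
  decide +kernel

theorem long_orbit : ∀ r ∈ longs, ∃ l ∈ ([[], [1], [0], [0, 1], [1, 0], [1, 0, 1], [0, 1, 0], [0, 1, 0, 1],
    [1, 0, 1, 0], [1, 0, 1, 0, 1], [0, 1, 0, 1, 0], [0, 1, 0, 1, 0, 1]] : List (List (Fin 2))),
    wrL l 22 = r := by decide +kernel

theorem short_len : ∀ r ∈ d4Twist.reps, (d4Twist.len r = 3 ↔ r ∈ shorts) ∧ (¬ d4Twist.len r = 3 → r ∈ longs) := by
  decide +kernel

theorem range_tables : (∀ r ∈ ([17, 22, 23] : List ℕ), r ∈ d4Twist.reps ∧ 3 ≤ d4Twist.ht r) ∧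
    (∀ r ∈ ([17, 22, 23] : List ℕ), ∀ r' ∈ ([17, 22, 23] : List ℕ), CommOrb r r' ∨ CommOrb r' r) ∧
    (∀ r ∈ ([22, 23] : List ℕ), r ∈ longs) ∧ (∀ s ∈ ([15, 17, 18] : List ℕ), s ∈ shorts) ∧
    (∀ r ∈ ([22, 23] : List ℕ), ∀ s ∈ ([15, 17, 18] : List ℕ), CommOrb r s) := by
  refine ⟨?_, ?_, ?_, ?_, ?_⟩ <;> decide +kernel

variable {K : Type u} [Field K] [Fintype K] {hD : Good chevD4} {φ : K →+* K} {q : ℕ}
  {Γ : Type u} [Group Γ] [Finite Γ] {σ : Γ →* GL chevD4.Idx K}

variable (hD φ σ)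

/-- The lift of an orbit root subgroup. -/
def Y (r : ℕ) : Subgroup Γ :=
  if d4Twist.len r = 3 then Ys hD φ σ r else ⁅Ys hD φ σ (sp r).1, Ys hD φ σ (sp r).2⁆

variable {hD φ σ}

theorem Y_short {r : ℕ} (hr : r ∈ shorts) : Y hD φ σ r = Ys hD φ σ r := by
  rw [Y, if_pos (len_eq.2.1 r hr).2]

theorem Y_long {r : ℕ} (hr : r ∈ longs) : Y hD φ σ r = ⁅Ys hD φ σ (sp r).1, Ys hD φ σ (sp r).2⁆ := by
  rw [Y, if_neg (by rw [(len_eq.1 r hr).2]; norm_num)]

theorem map_Y_H {g : Γ} (hg : g ∈ preH hD φ σ) {r : ℕ} (hr : r ∈ d4Twist.reps) :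
    (Y hD φ σ r).map (MulAut.conj g).toMonoidHom = Y hD φ σ r := by
  rcases len_eq.2.2 r hr with h | h
  · obtain ⟨-, h1, h2, -⟩ := sp_table 0 r h
    rw [Y_long h, map_bracket_conj (map_Ys_H hg (len_eq.2.1 _ h1).1) (map_Ys_H hg (len_eq.2.1 _ h2).1)]
  · rw [Y_short h, map_Ys_H hg hr]

theorem map_Y_N {g : Γ} {a : Fin 2} (hg : σ g = (ctxD4 hD φ).ns a 1) {r : ℕ} (hr : r ∈ d4Twist.reps) :
    (Y hD φ σ r).map (MulAut.conj g).toMonoidHom = Y hD φ σ (wr a r) := by
  rcases len_eq.2.2 r hr with h | h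
  · obtain ⟨hw, h1, h2, e⟩ := sp_table a r h
    rw [Y_long h, Y_long hw, map_bracket_conj (map_Ys_N hg (len_eq.2.1 _ h1).1) (map_Ys_N hg (len_eq.2.1 _ h2).1)]
    rcases e with e | e
    · rw [e]
    · rw [e, Subgroup.commutator_comm]
  · obtain ⟨hw, hl⟩ := wr_table a r hr
    have h' : wr a r ∈ shorts := (short_len _ hw).1.1 (hl.trans (len_eq.2.1 r h).2)
    rw [Y_short h, Y_short h', map_Ys_N hg hr]

section Ext

variable (E : Ext hD φ q σ)
include E

theorem tables22 : CommOrb 22 18 ∧ CommOrb 22 17 ∧ (22 : ℕ) ∈ longs ∧ (18 : ℕ) ∈ shorts ∧ (17 : ℕ) ∈ shorts := by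
  decide +kernel

omit E in
theorem o22 {t : K} : orb hD d4Twist φ 22 t = gx hD K 22 t :=
  (ctxD4 hD φ).orb_of_len_one (len_eq.1 22 (by simp)).2 t

theorem bracket_mem22 {a b : Γ} (ha : a ∈ pre hD φ σ 18) (hb : b ∈ pre hD φ σ 17) :
    ⁅a, b⁆ ∈ pre hD φ σ 22 := by
  obtain ⟨x, -, ex⟩ := eq_o (len_eq.2.1 18 (by simp)).1 ha
  obtain ⟨y, -, ey⟩ := eq_o (len_eq.2.1 17 (by simp)).1 hb
  show σ ⁅a, b⁆ ∈ (ctxD4 hD φ).Uo 22
  rw [map_commutatorElement, ex, ey, bracket_o hD φ, ← o22]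
  refine (ctxD4 hD φ).orb_mem_Uo (len_eq.1 22 (by simp)).1 ?_
  rw [(len_eq.1 22 (by simp)).2]
  show φ _ = _
  simp only [map_neg, map_add, phi_three hD φ E.hyp]
  ring

theorem Y22_le_pre : Y hD φ σ 22 ≤ pre hD φ σ 22 := by
  rw [Y_long (by simp), Subgroup.commutator_le]
  exact fun a ha b hb => bracket_mem22 E (Ys_le_pre (len_eq.2.1 18 (by simp)).1 ha)
    (Ys_le_pre (len_eq.2.1 17 (by simp)).1 hb)

theorem Y22_map : (Y hD φ σ 22).map σ = (ctxD4 hD φ).Uo 22 := by
  refine le_antisymm (Subgroup.map_le_iff_le_comap.2 (Y22_le_pre E)) fun g hg => ?_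
  obtain ⟨t, ht, rfl⟩ := (ctxD4 hD φ).mem_Uo (len_eq.1 22 (by simp)).1 hg
  rw [show (ctxD4 hD φ).T.len 22 = 1 from (len_eq.1 22 (by simp)).2] at ht
  obtain ⟨x, y, e⟩ := mu_surj hD φ E.hyp (t := t) ht
  obtain ⟨a, ha, ea⟩ := exists_Ys E (r := 18) (by simp) x
  obtain ⟨b, hb, eb⟩ := exists_Ys E (r := 17) (by simp) y
  rw [Y_long (by simp)]
  exact ⟨_, Subgroup.commutator_mem_commutator ha hb, by rw [map_commutatorElement, ea, eb]; exact e⟩

theorem Y22_centralized {x y : Γ} (hx : x ∈ pre hD φ σ 22) (hy : y ∈ Y hD φ σ 22) : x * y = y * x := by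
  obtain ⟨c1, c2, h22, h18, h17⟩ := tables22 E
  have hle : Y hD φ σ 22 ≤ Subgroup.centralizer {x} := by
    rw [Y_long h22, Subgroup.commutator_le]
    intro a ha b hb
    have h1 : a ∈ Subgroup.centralizer {x} := Subgroup.mem_centralizer_singleton_iff.2
      (commute_long_short E h22 h18 c1 hx (Ys_le_pre (len_eq.2.1 18 h18).1 ha)).symm
    have h2 : b ∈ Subgroup.centralizer {x} := Subgroup.mem_centralizer_singleton_iff.2
      (commute_long_short E h22 h17 c2 hx (Ys_le_pre (len_eq.2.1 17 h17).1 hb)).symm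
    rw [commutatorElement_def]
    exact mul_mem (mul_mem (mul_mem h1 h2) (inv_mem h1)) (inv_mem h2)
  exact (Subgroup.mem_centralizer_singleton_iff.1 (hle hy)).symm

theorem pre22_abel {x y : Γ} (hx : x ∈ pre hD φ σ 22) (hy : y ∈ pre hD φ σ 22) : x * y = y * x := by
  obtain ⟨c, hc, e⟩ := (Y22_map E).ge (show σ y ∈ (ctxD4 hD φ).Uo 22 from hy)
  obtain ⟨k, hk, rfl⟩ := ChevSt.exists_ker_mul E.central e
  rw [← mul_assoc, Y22_centralized E hx hc, mul_assoc c x, ChevSt.ker_comm E.central hk x, mul_assoc]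

/-- Commutators of a fixed element of the root subgroup of α are multiplicative in the second one. -/
theorem bracket22_mul {a b b' : Γ} (ha : a ∈ pre hD φ σ 18) (hb : b ∈ pre hD φ σ 17) (hb' : b' ∈ pre hD φ σ 17) :
    ⁅a, b * b'⁆ = ⁅a, b⁆ * ⁅a, b'⁆ := by
  obtain ⟨-, c2, h22, -, h17⟩ := tables22 E
  have hcm := commute_long_short E h22 h17 c2 (bracket_mem22 E ha hb') hb
  calc ⁅a, b * b'⁆ = ⁅a, b⁆ * (b * ⁅a, b'⁆) * b⁻¹ := by simp only [commutatorElement_def]; group
    _ = _ := by rw [← hcm]; group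

/-- Injectivity when there is a fixed unit different from one. -/
theorem Y22_inj_of_unit {c : Kˣ} (hc : Units.map (φ : K →* K) c = c) (hc1 : c ≠ 1) :
    ∀ w ∈ Y hD φ σ 22, σ w = 1 → w = 1 := by
  obtain ⟨-, -, h22, h18, h17⟩ := tables22 E
  obtain ⟨X, hX, e18, e17, e22⟩ := exists_fix_short hD φ E.hyp hc
  obtain ⟨g, hg, eg⟩ := exists_theta E hX
  have r18 := (len_eq.2.1 18 h18).1
  have r17 := (len_eq.2.1 17 h17).1
  have r22 := (len_eq.1 22 h22).1
  have hne : (c : K) - 1 ≠ 0 := sub_ne_zero.2 fun e => hc1 (Units.ext e)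
  intro w hw h1
  refine eq_one_of_bracket E.central (fun x hx y hy => pre22_abel E hx hy) (h := g)
    (fun x hx => (map_pre_H hg r22).le ⟨x, hx, rfl⟩) (fun x hx hcm => ?_)
    (S := {w | ∃ x ∈ pre hD φ σ 22, w = ⁅g, x⁆}) (fun _ h => h) ?_ h1
  · obtain ⟨t, -, et⟩ := eq_o r22 hx
    have h2 : σ g * σ x * (σ g)⁻¹ = σ x := by rw [hcm.eq, mul_inv_cancel_right]
    rw [et, eg, theta_conj_orb (ctxD4 hD φ) hX r22, e22] at h2
    have h3 := (ctxD4 hD φ).orb_inj r22 h2
    have : ((c : K) - 1) * t = 0 := by linear_combination h3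
    rw [et, (mul_eq_zero.1 this).resolve_left hne]
    exact (ctxD4 hD φ).orb_zero 22
  refine (?_ : Y hD φ σ 22 ≤ _) hw
  rw [Y_long h22, Subgroup.commutator_le]
  intro a ha b hb
  have ha' := Ys_le_pre r18 ha
  obtain ⟨x, -, ex⟩ := eq_o r18 ha'
  obtain ⟨y, -, ey⟩ := eq_o r17 (Ys_le_pre r17 hb)
  obtain ⟨b', hb', eb'⟩ := exists_short E h17 (y / ((c : K) - 1))
  refine Subgroup.subset_closure ⟨⁅a, b'⁆, bracket_mem22 E ha' hb', ?_⟩
  have e1 : g * ⁅a, b'⁆ * g⁻¹ = ⁅a, b * b'⁆ := by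
    rw [show g * ⁅a, b'⁆ * g⁻¹ = ⁅g * a * g⁻¹, g * b' * g⁻¹⁆ by simp only [commutatorElement_def]; group]
    refine bracket_congr E.central ?_ ?_
    · rw [map_mul, map_mul, map_inv, eg, ex, theta_conj_orb (ctxD4 hD φ) hX r18, e18, Units.val_one, one_mul]
    · rw [map_mul, map_mul, map_inv, map_mul, eg, eb', ey, theta_conj_orb (ctxD4 hD φ) hX r17, e17,
        ← (ctxD4 hD φ).orb_add r17]
      congr 1
      field_simp
      ring
  rw [bracket22_mul E ha' (Ys_le_pre r17 hb) hb'] at e1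
  rw [show ⁅g, ⁅a, b'⁆⁆ = g * ⁅a, b'⁆ * g⁻¹ * ⁅a, b'⁆⁻¹ from commutatorElement_def _ _, e1, mul_inv_cancel_right]

/-- The preimage of the roots of height at least three. -/
def P3 (hD : Good chevD4) (φ : K →+* K) (σ : Γ →* GL chevD4.Idx K) : Subgroup Γ :=
  ((ctxD4 hD φ).Uo 17 ⊔ (ctxD4 hD φ).Uo 22 ⊔ (ctxD4 hD φ).Uo 23).comap σ

omit E in
theorem high_tables : CommOrb 17 17 ∧ CommOrb 22 17 ∧ CommOrb 23 17 ∧ CommOrb 22 22 ∧ CommOrb 23 22 ∧
    CommOrb 23 23 ∧ CommOrb 23 18 ∧ CommOrb 22 15 ∧ CommOrb 23 15 ∧ CommOrb 22 18 ∧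
    (17 : ℕ) ∈ d4Twist.reps ∧ (22 : ℕ) ∈ d4Twist.reps ∧ (23 : ℕ) ∈ d4Twist.reps ∧
    (18 : ℕ) ∈ d4Twist.reps ∧ (15 : ℕ) ∈ d4Twist.reps ∧
    ∀ p ∈ d4Twist.reps, 3 ≤ d4Twist.ht p → p = 17 ∨ p = 22 ∨ p = 23 := by
  refine ⟨?_, ?_, ?_, ?_, ?_, ?_, ?_, ?_, ?_, ?_, ?_, ?_, ?_, ?_, ?_, ?_⟩ <;> decide +kernel

omit E in
theorem bracket_high {h : ℕ} {a b : ℕ} (ha : a ∈ d4Twist.reps) (hb : b ∈ d4Twist.reps)
    (h1 : 0 < d4Twist.ht a) (h2 : 0 < d4Twist.ht b) (hh : (h : ℤ) < d4Twist.ht a + d4Twist.ht b)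
    {g k : GL chevD4.Idx K} (hg : g ∈ (ctxD4 hD φ).Uo a) (hk : k ∈ (ctxD4 hD φ).Uo b) :
    ⁅g, k⁆ ∈ ⨆ r ∈ {r : (ctxD4 hD φ).Orb | ((h : ℕ) : ℤ) + 1 ≤ d4Twist.ht r.1}, (ctxD4 hD φ).Uo r.1 := by
  let C := ctxD4 hD φ
  have hmem : ∀ {r}, r ∈ d4Twist.reps → 0 < d4Twist.ht r → ∀ x ∈ C.orbS r, x ∈ C.posSet ∧ C.T.ht x = C.T.ht r :=
    fun hr h0 x hx => by
      obtain ⟨e1, e2⟩ := C.orbS_pos (r := ⟨_, hr⟩) hx
      exact ⟨⟨e1, e2 ▸ h0⟩, e2⟩
  have hl := bracket_lev C C.hT.isLin_ht C.posSet_ok.closed (h := h) (A := C.orbS a) (B := C.orbS b)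
    (fun x hx => (hmem ha h1 x hx).1) (fun x hx => (hmem hb h2 x hx).1)
    (fun x hx y hy => by rw [(hmem ha h1 x hx).2, (hmem hb h2 y hy).2]; exact hh) hg.1 hk.1
  have hfix : ⁅g, k⁆ ∈ Fix C.hT C.φ := by
    rw [commutatorElement_def]
    exact mul_mem (mul_mem (mul_mem hg.2 hk.2) (inv_mem hg.2)) (inv_mem hk.2)
  refine C.Uo_le_span _ (f := C.T.ht) (S := {x | x ∈ C.posSet ∧ ((h + 1 : ℕ) : ℤ) ≤ C.T.ht x}) ⟨C.hT.isLin_ht,
    ⟨fun _ hx => hx.1.1, fun _ hx => hx.1.2, fun r hr s hs hsr τ hτ => ?_⟩, C.hT.ht_rho,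
    fun x hx => ⟨C.posSet_ok.stable x hx.1, by rw [C.hT.ht_rho x hx.1.1]; exact hx.2⟩⟩ (fun r hr => ?_) ⟨?_, hfix⟩
  · have hp1 : 0 < C.T.ht r := hr.1.2
    have hp2 : 0 < C.T.ht s := hs.1.2
    have hn : s ≠ chevD4.neg r := fun e => by
      rw [e, C.hT.ht_neg r hr.1.1] at hp2
      omega
    obtain ⟨e1, e4, e5, e6⟩ := C.hT.isLin_ht.commTerms C.hD hr.1.1 hs.1.1 hsr hn hτ
    have a1 : C.T.ht r ≤ (τ.2.2.1 : ℤ) * C.T.ht r := le_mul_of_one_le_left hp1.le (by exact_mod_cast e4)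
    have a2 : C.T.ht s ≤ (τ.2.2.2 : ℤ) * C.T.ht s := le_mul_of_one_le_left hp2.le (by exact_mod_cast e5)
    have a3 := hr.2
    exact ⟨⟨e1, by omega⟩, by omega⟩
  · have := hr.2; push_cast at this; exact this
  · exact hl

/-- Injectivity over the field with two elements. -/
theorem Y22_inj_of_two (h2 : ∀ t : K, φ t = t → t = 0 ∨ t = 1) : ∀ w ∈ Y hD φ σ 22, σ w = 1 → w = 1 := by
  obtain ⟨-, -, h22, h18, h17⟩ := tables22 E
  obtain ⟨t17, t2217, t2317, t2222, t2322, t2323, t2318, t2215, t2315, t2218, r17, r22, r23, r18, r15, hhigh⟩ :=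
    high_tables
  have hone : (-1 : K) = 1 := (h2 _ (by rw [map_neg, map_one])).resolve_left (neg_ne_zero.2 one_ne_zero)
  haveI : CharP K 2 := CharTwo.of_one_ne_zero_of_two_eq_zero one_ne_zero (by linear_combination -hone)
  have h3 : ∀ t, φ (φ (φ t)) = t := phi_three hD φ E.hyp
  classical
  set o : ℕ → K → GL chevD4.Idx K := orb hD d4Twist φ with ho
  have hoadd : ∀ {r}, r ∈ d4Twist.reps → ∀ t u, o r (t + u) = o r t * o r u := fun hr => (ctxD4 hD φ).orb_add hr
  have hosq : ∀ {r}, r ∈ d4Twist.reps → ∀ t, o r t * o r t = 1 := fun hr t => by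
    rw [← hoadd hr, CharTwo.add_self_eq_zero]; exact (ctxD4 hD φ).orb_zero _
  -- P3 is abelian with central squares
  have hU : ∀ {r}, r ∈ ([17, 22, 23] : List ℕ) → ∀ {r'}, r' ∈ ([17, 22, 23] : List ℕ) →
      ∀ x ∈ (ctxD4 hD φ).Uo r, ∀ y ∈ (ctxD4 hD φ).Uo r', x * y = y * x := by
    intro r hr r' hr' x hx y hy
    have hrr : r ∈ d4Twist.reps := (range_tables.1 r hr).1
    have hrr' : r' ∈ d4Twist.reps := (range_tables.1 r' hr').1
    have hc : CommOrb r r' ∨ CommOrb r' r := range_tables.2.1 r hr r' hr'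
    obtain ⟨t, -, rfl⟩ := (ctxD4 hD φ).mem_Uo hrr hx
    obtain ⟨u, -, rfl⟩ := (ctxD4 hD φ).mem_Uo hrr' hy
    rcases hc with hc | hc
    · exact commute_o hD φ hc hrr hrr' t u
    · exact (commute_o hD φ hc hrr' hrr u t).symm
  have hS3 : ∀ x ∈ (ctxD4 hD φ).Uo 17 ⊔ (ctxD4 hD φ).Uo 22 ⊔ (ctxD4 hD φ).Uo 23, x * x = 1 := by
    intro x hx
    let W := (ctxD4 hD φ).Uo 17 ⊔ (ctxD4 hD φ).Uo 22 ⊔ (ctxD4 hD φ).Uo 23
    have hW : W ≤ Subgroup.centralizer (W : Set (GL chevD4.Idx K)) := by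
      have hgen : ∀ r ∈ ([17, 22, 23] : List ℕ), (ctxD4 hD φ).Uo r ≤ Subgroup.centralizer (W : Set _) := by
        intro r hr x hx
        rw [Subgroup.mem_centralizer_iff]
        intro y hy
        have hle : W ≤ Subgroup.centralizer {x} := by
          refine sup_le (sup_le ?_ ?_) ?_ <;>
            exact fun y hy => Subgroup.mem_centralizer_singleton_iff.2 (hU (by simp) hr y hy x hx)
        exact Subgroup.mem_centralizer_singleton_iff.1 (hle hy)
      exact sup_le (sup_le (hgen 17 (by simp)) (hgen 22 (by simp))) (hgen 23 (by simp))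
    refine Subgroup.closure_induction (p := fun y _ => y * y = 1) ?_ (by simp) ?_ ?_
      (show x ∈ Subgroup.closure ((W : Set _) ∩ {y | y * y = 1}) from ?_)
    · exact fun y hy => hy.2
    · intro y z hy hz py pz
      have e : z * y = y * z := by
        have hy' : y ∈ W := Subgroup.closure_le W |>.2 (fun _ h => h.1) hy
        have hz' : z ∈ W := Subgroup.closure_le W |>.2 (fun _ h => h.1) hz
        exact Subgroup.mem_centralizer_iff.1 (hW hy') z hz'
      calc y * z * (y * z) = y * (z * y) * z := by group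
        _ = (y * y) * (z * z) := by rw [e]; group
        _ = 1 := by rw [py, pz, mul_one]
    · intro y _ py
      rw [← mul_inv_rev, py, inv_one]
    · refine (sup_le (sup_le ?_ ?_) ?_ : W ≤ _) hx
      · intro y hy
        obtain ⟨t, -, rfl⟩ := (ctxD4 hD φ).mem_Uo r17 hy
        exact Subgroup.subset_closure ⟨Subgroup.mem_sup_left (Subgroup.mem_sup_left hy), hosq r17 t⟩
      · intro y hy
        obtain ⟨t, -, rfl⟩ := (ctxD4 hD φ).mem_Uo r22 hy
        exact Subgroup.subset_closure ⟨Subgroup.mem_sup_left (Subgroup.mem_sup_right hy), hosq r22 t⟩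
      · intro y hy
        obtain ⟨t, -, rfl⟩ := (ctxD4 hD φ).mem_Uo r23 hy
        exact Subgroup.subset_closure ⟨Subgroup.mem_sup_right hy, hosq r23 t⟩
  -- the square of the commutator of α and α + β is an invariant pairing
  have hV : ∀ {a b : Γ}, a ∈ pre hD φ σ 18 → b ∈ pre hD φ σ 15 → σ ⁅a, b⁆ ∈ (ctxD4 hD φ).Uo 17 ⊔
      (ctxD4 hD φ).Uo 22 ⊔ (ctxD4 hD φ).Uo 23 := by
    intro a b ha hb
    have := bracket_high (h := 2) r18 r15 (by decide) (by decide) (by decide) ha hb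
    rw [← map_commutatorElement] at this
    refine SetLike.le_def.1 ?_ this
    refine iSup₂_le fun r hr => ?_
    rcases hhigh r.1 r.2 (by simpa using hr) with e | e | e <;> rw [e]
    · exact le_sup_of_le_left le_sup_left
    · exact le_sup_of_le_left le_sup_right
    · exact le_sup_right
  have hcen : ∀ {a b : Γ}, a ∈ pre hD φ σ 18 → b ∈ pre hD φ σ 15 → ⁅a, b⁆ * ⁅a, b⁆ ∈ Subgroup.center Γ :=
    fun ha hb => E.central (by rw [MonoidHom.mem_ker, map_mul]; exact hS3 _ (hV ha hb))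
  have hyz : ∀ {r}, r ∈ ([22, 23] : List ℕ) → ∀ {s}, s ∈ ([15, 17, 18] : List ℕ) →
      ∀ {x y : Γ}, x ∈ pre hD φ σ r → y ∈ pre hD φ σ s → x * y = y * x := by
    intro r hr s hs x y hx hy
    refine commute_long_short E ?_ ?_ ?_ hx hy
    · exact range_tables.2.2.1 r hr
    · exact range_tables.2.2.2.1 s hs
    · exact range_tables.2.2.2.2 r hr s hs
  -- an element of the preimage split into its three parts
  have hsplit : ∀ {v : Γ}, σ v ∈ (ctxD4 hD φ).Uo 17 ⊔ (ctxD4 hD φ).Uo 22 ⊔ (ctxD4 hD φ).Uo 23 →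
      v ∈ pre hD φ σ 17 ⊔ pre hD φ σ 22 ⊔ pre hD φ σ 23 := by
    intro v hv
    have hle : ∀ r ∈ ([17, 22, 23] : List ℕ),
        (ctxD4 hD φ).Uo r ≤ (pre hD φ σ 17 ⊔ pre hD φ σ 22 ⊔ pre hD φ σ 23).map σ := by
      intro r hr x hx
      have hrr : r ∈ d4Twist.reps := (range_tables.1 r hr).1
      obtain ⟨g, rfl⟩ := exists_of_mem E (Uo_le E hrr hx)
      refine ⟨g, ?_, rfl⟩
      simp only [List.mem_cons, List.not_mem_nil, or_false] at hr
      rcases hr with rfl | rfl | rfl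
      · exact Subgroup.mem_sup_left (Subgroup.mem_sup_left hx)
      · exact Subgroup.mem_sup_left (Subgroup.mem_sup_right hx)
      · exact Subgroup.mem_sup_right hx
    obtain ⟨w, hw, e⟩ := (sup_le (sup_le (hle 17 (by simp)) (hle 22 (by simp))) (hle 23 (by simp))) hv
    obtain ⟨k, hk, rfl⟩ := ChevSt.exists_ker_mul E.central e
    exact mul_mem hw (Subgroup.mem_sup_left (Subgroup.mem_sup_left (center_le_pre E.central hk 17)))
  have habel : ∀ {v w : Γ}, v ∈ pre hD φ σ 17 ⊔ pre hD φ σ 22 ⊔ pre hD φ σ 23 →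
      w ∈ pre hD φ σ 17 ⊔ pre hD φ σ 22 → v * w = w * v := by
    intro v w hv hw
    have h17' : ∀ x ∈ pre hD φ σ 17,
        pre hD φ σ 17 ⊔ pre hD φ σ 22 ⊔ pre hD φ σ 23 ≤ Subgroup.centralizer {x} := fun x hx =>
      sup_le (sup_le (fun y hy => Subgroup.mem_centralizer_singleton_iff.2 (pre_short_abel E h17 hy hx))
        (fun y hy => Subgroup.mem_centralizer_singleton_iff.2 (hyz (by simp) (by simp) hy hx)))
        (fun y hy => Subgroup.mem_centralizer_singleton_iff.2 (hyz (by simp) (by simp) hy hx))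
    have h22' : ∀ x ∈ pre hD φ σ 22,
        pre hD φ σ 17 ⊔ pre hD φ σ 22 ⊔ pre hD φ σ 23 ≤ Subgroup.centralizer {x} := by
      intro x hx
      refine sup_le (sup_le (fun y hy => Subgroup.mem_centralizer_singleton_iff.2 (hyz (by simp) (by simp) hx hy).symm)
        (fun y hy => Subgroup.mem_centralizer_singleton_iff.2 (pre22_abel E hy hx))) fun y hy => ?_
      refine Subgroup.mem_centralizer_singleton_iff.2 ?_
      obtain ⟨c, hc, e⟩ := (Y22_map E).ge (show σ x ∈ (ctxD4 hD φ).Uo 22 from hx)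
      obtain ⟨k, hk, rfl⟩ := ChevSt.exists_ker_mul E.central e
      have hyc : y * c = c * y := by
        have hle : Y hD φ σ 22 ≤ Subgroup.centralizer {y} := by
          rw [Y_long h22, Subgroup.commutator_le]
          intro a ha b hb
          have h1 : a ∈ Subgroup.centralizer {y} := Subgroup.mem_centralizer_singleton_iff.2
            (hyz (by simp) (by simp) hy (Ys_le_pre r18 ha)).symm
          have h2 : b ∈ Subgroup.centralizer {y} := Subgroup.mem_centralizer_singleton_iff.2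
            (hyz (by simp) (by simp) hy (Ys_le_pre r17 hb)).symm
          rw [commutatorElement_def]
          exact mul_mem (mul_mem (mul_mem h1 h2) (inv_mem h1)) (inv_mem h2)
        exact (Subgroup.mem_centralizer_singleton_iff.1 (hle hc)).symm
      rw [← mul_assoc, hyc, mul_assoc c y, ChevSt.ker_comm E.central hk y, mul_assoc]
    have hle : pre hD φ σ 17 ⊔ pre hD φ σ 22 ≤ Subgroup.centralizer {v} :=
      sup_le (fun x hx => Subgroup.mem_centralizer_singleton_iff.2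
          (Subgroup.mem_centralizer_singleton_iff.1 (h17' x hx hv)).symm)
        (fun x hx => Subgroup.mem_centralizer_singleton_iff.2
          (Subgroup.mem_centralizer_singleton_iff.1 (h22' x hx hv)).symm)
    exact (Subgroup.mem_centralizer_singleton_iff.1 (hle hw)).symm
  have h22' : ∀ {a v : Γ}, a ∈ pre hD φ σ 18 → v ∈ pre hD φ σ 17 ⊔ pre hD φ σ 22 ⊔ pre hD φ σ 23 →
      ⁅a, v⁆ ∈ pre hD φ σ 22 := by
    intro a v ha hv
    obtain ⟨t, -, et⟩ := eq_o r18 ha
    refine Subgroup.closure_induction (p := fun v _ => ⁅a, v⁆ ∈ pre hD φ σ 22)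
      ?_ (by rw [commutatorElement_one_right]; exact one_mem _) ?_ ?_
      (show v ∈ Subgroup.closure ((pre hD φ σ 17 : Set Γ) ∪ pre hD φ σ 22 ∪ pre hD φ σ 23) by
        rwa [Subgroup.closure_union, Subgroup.closure_union, Subgroup.closure_eq, Subgroup.closure_eq,
          Subgroup.closure_eq])
    · rintro y ((hy | hy) | hy)
      · exact bracket_mem22 E ha hy
      · rw [commutatorElement_eq_one_iff_mul_comm.2 (hyz (by simp) (by simp) hy ha).symm]; exact one_mem _
      · rw [commutatorElement_eq_one_iff_mul_comm.2 (hyz (by simp) (by simp) hy ha).symm]; exact one_mem _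
    · intro y z hy hz py pz
      have hy' : y ∈ pre hD φ σ 17 ⊔ pre hD φ σ 22 ⊔ pre hD φ σ 23 := by
        rwa [Subgroup.closure_union, Subgroup.closure_union, Subgroup.closure_eq, Subgroup.closure_eq,
          Subgroup.closure_eq] at hy
      rw [show ⁅a, y * z⁆ = ⁅a, y⁆ * (y * ⁅a, z⁆ * y⁻¹) by simp only [commutatorElement_def]; group,
        habel hy' (Subgroup.mem_sup_right pz), mul_inv_cancel_right]
      exact mul_mem py pz
    · intro y hy py
      have hy' : y ∈ pre hD φ σ 17 ⊔ pre hD φ σ 22 ⊔ pre hD φ σ 23 := by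
        rwa [Subgroup.closure_union, Subgroup.closure_union, Subgroup.closure_eq, Subgroup.closure_eq,
          Subgroup.closure_eq] at hy
      rw [show ⁅a, y⁻¹⁆ = y⁻¹ * ⁅a, y⁆⁻¹ * y by simp only [commutatorElement_def]; group,
        show y⁻¹ * ⁅a, y⁆⁻¹ = ⁅a, y⁆⁻¹ * y⁻¹ from habel (inv_mem hy') (Subgroup.mem_sup_right (inv_mem py)),
        inv_mul_cancel_right]
      exact inv_mem py
  have hz : ∀ {a b : Γ}, a ∈ pre hD φ σ 18 → b ∈ pre hD φ σ 15 → ⁅a, b⁆ * ⁅a, b⁆ = 1 := by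
    have hconj : ∀ {p : Γ} {v : Γ}, v * v ∈ Subgroup.center Γ → (p * v * p⁻¹) * (p * v * p⁻¹) = v * v := by
      intro p v hv
      calc (p * v * p⁻¹) * (p * v * p⁻¹) = p * (v * v) * p⁻¹ := by group
        _ = _ := by rw [Subgroup.mem_center_iff.1 hv p, mul_inv_cancel_right]
    have h7 : ∀ {v w : Γ}, σ v ∈ (ctxD4 hD φ).Uo 17 ⊔ (ctxD4 hD φ).Uo 22 ⊔ (ctxD4 hD φ).Uo 23 →
        σ w ∈ (ctxD4 hD φ).Uo 17 ⊔ (ctxD4 hD φ).Uo 22 ⊔ (ctxD4 hD φ).Uo 23 →
        v * w * (v * w) = v * v * (w * w) := by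
      intro v w hv hw
      have hw' := hsplit hw
      obtain ⟨u, hu, z, hz, rfl⟩ : ∃ u ∈ pre hD φ σ 17 ⊔ pre hD φ σ 22, ∃ z ∈ pre hD φ σ 23, w = u * z := by
        have hn : pre hD φ σ 23 ≤ Subgroup.normalizer ((pre hD φ σ 17 ⊔ pre hD φ σ 22 : Subgroup Γ) : Set Γ) := by
          intro z hz
          rw [Subgroup.mem_normalizer_iff]
          intro u
          have e : ∀ u' ∈ pre hD φ σ 17 ⊔ pre hD φ σ 22, z * u' = u' * z :=
            fun u' hu' => habel (Subgroup.mem_sup_right hz) hu'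
          refine ⟨fun hu => ?_, fun hu => ?_⟩
          · rwa [e u hu, mul_inv_cancel_right]
          · have e2 := e _ hu
            have : u = z * u * z⁻¹ := by
              calc u = z⁻¹ * (z * u * z⁻¹ * z) := by group
                _ = z⁻¹ * (z * (z * u * z⁻¹)) := by rw [e2]
                _ = _ := by group
            rw [this]; exact hu
        have hw2 : w ∈ ((pre hD φ σ 17 ⊔ pre hD φ σ 22 ⊔ pre hD φ σ 23 : Subgroup Γ) : Set Γ) := hw'
        rw [Subgroup.coe_mul_of_right_le_normalizer_left _ _ hn] at hw2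
        obtain ⟨u, hu, z, hz, e⟩ := hw2
        exact ⟨u, hu, z, hz, e.symm⟩
      have h23 : ∀ {s}, s ∈ pre hD φ σ 17 ⊔ pre hD φ σ 22 → z * s = s * z :=
        fun hs => habel (Subgroup.mem_sup_right hz) hs
      have hv' := hsplit hv
      have hvu : v * u = u * v := habel hv' hu
      have hvz : v * z = z * v := by
        have hle : pre hD φ σ 17 ⊔ pre hD φ σ 22 ⊔ pre hD φ σ 23 ≤ Subgroup.centralizer {z} := by
          refine sup_le (sup_le ?_ ?_) ?_
          · exact fun s hs => Subgroup.mem_centralizer_singleton_iff.2 (h23 (Subgroup.mem_sup_left hs)).symm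
          · exact fun s hs => Subgroup.mem_centralizer_singleton_iff.2 (h23 (Subgroup.mem_sup_right hs)).symm
          · intro s hs
            refine Subgroup.mem_centralizer_singleton_iff.2 ?_
            obtain ⟨g, hg⟩ := exists_ns E 1
            have e22 : wr 1 22 = 23 := by decide +kernel
            rw [← e22, ← map_pre_N hg r22] at hs hz
            obtain ⟨s, hs', rfl⟩ := hs
            obtain ⟨z, hz', rfl⟩ := hz
            rw [← map_mul, ← map_mul, pre22_abel E hs' hz']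
        exact Subgroup.mem_centralizer_singleton_iff.1 (hle hv')
      have : v * (u * z) = u * z * v := by rw [← mul_assoc, hvu, mul_assoc, hvz, mul_assoc]
      calc v * (u * z) * (v * (u * z)) = v * (u * z * v) * (u * z) := by group
        _ = v * (v * (u * z)) * (u * z) := by rw [this]
        _ = _ := by group
    intro a b ha hb
    obtain ⟨x, -, ex⟩ := eq_o r18 ha
    obtain ⟨y, -, ey⟩ := eq_o r15 hb
    choose la hla ela using fun t : K => exists_short E (r := 18) (by simp) t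
    choose lb hlb elb using fun t : K => exists_short E (r := 15) (by simp) t
    let β : K → K → Subgroup.center Γ := fun s t => ⟨_, hcen (hla s) (hlb t)⟩
    have h0 : β x y = 1 := by
      refine pairing_zero_diag (fun s t => β s (φ (φ t))) (fun s s' t => Subtype.ext ?_)
        (fun s t t' => Subtype.ext ?_) (fun c hc s t => Subtype.ext ?_) (exists_three hD φ E.hyp) x (φ y) |>
        (fun e => by simpa [h3] using e)
      · show ⁅la (s + s'), lb (φ (φ t))⁆ * ⁅la (s + s'), lb (φ (φ t))⁆ = _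
        have e : ⁅la (s + s'), lb (φ (φ t))⁆ = ⁅la s * la s', lb (φ (φ t))⁆ :=
          bracket_congr E.central (by rw [map_mul, ela, ela, ela]; exact hoadd r18 s s') rfl
        rw [e, show ⁅la s * la s', lb (φ (φ t))⁆ = la s * ⁅la s', lb (φ (φ t))⁆ * (la s)⁻¹ * ⁅la s, lb (φ (φ t))⁆ by
          simp only [commutatorElement_def]; group, h7 ?_ (hV (hla s) (hlb _)), hconj (hcen (hla s') (hlb _))]
        · exact Subgroup.mem_center_iff.1 (hcen (hla s) (hlb _)) _
        · have : la s * ⁅la s', lb (φ (φ t))⁆ * (la s)⁻¹ = ⁅la s, ⁅la s', lb (φ (φ t))⁆⁆ * ⁅la s', lb (φ (φ t))⁆ := by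
            simp only [commutatorElement_def]; group
          rw [this, map_mul]
          exact mul_mem (Subgroup.mem_sup_left (Subgroup.mem_sup_right (h22' (hla s) (hsplit (hV (hla s') (hlb _))))))
            (hV (hla s') (hlb _))
      · show ⁅la s, lb (φ (φ (t + t')))⁆ * ⁅la s, lb (φ (φ (t + t')))⁆ = _
        have e : ⁅la s, lb (φ (φ (t + t')))⁆ = ⁅la s, lb (φ (φ t)) * lb (φ (φ t'))⁆ :=
          bracket_congr E.central rfl (by rw [map_mul, elb, elb, elb, map_add, map_add]; exact hoadd r15 _ _)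
        rw [e, show ⁅la s, lb (φ (φ t)) * lb (φ (φ t'))⁆ =
          ⁅la s, lb (φ (φ t))⁆ * (lb (φ (φ t)) * ⁅la s, lb (φ (φ t'))⁆ * (lb (φ (φ t)))⁻¹) by
          simp only [commutatorElement_def]; group, h7 (hV (hla s) (hlb _)) ?_, hconj (hcen (hla s) (hlb _))]
        · rfl
        · rw [map_mul, map_mul, map_inv]
          refine (?_ : ∀ w ∈ _, σ (lb (φ (φ t))) * w * (σ (lb (φ (φ t))))⁻¹ ∈ _) _ (hV (hla s) (hlb (φ (φ t'))))
          intro w hw
          rw [show σ (lb (φ (φ t))) * w * (σ (lb (φ (φ t))))⁻¹ = ⁅σ (lb (φ (φ t))), w⁆ * w by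
            simp only [commutatorElement_def]; group]
          refine mul_mem ?_ hw
          refine Subgroup.closure_induction (p := fun w _ => ⁅σ (lb (φ (φ t))), w⁆ ∈
            (ctxD4 hD φ).Uo 17 ⊔ (ctxD4 hD φ).Uo 22 ⊔ (ctxD4 hD φ).Uo 23)
            ?_ (by rw [commutatorElement_one_right]; exact one_mem _) ?_ ?_
            (show w ∈ Subgroup.closure (((ctxD4 hD φ).Uo 17 : Set _) ∪ (ctxD4 hD φ).Uo 22 ∪ (ctxD4 hD φ).Uo 23) by
              rwa [Subgroup.closure_union, Subgroup.closure_union, Subgroup.closure_eq, Subgroup.closure_eq,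
                Subgroup.closure_eq])
          · rintro v hv
            have hall : ∀ r ∈ ([17, 22, 23] : List ℕ), v ∈ (ctxD4 hD φ).Uo r → ⁅σ (lb (φ (φ t))), v⁆ ∈
                (ctxD4 hD φ).Uo 17 ⊔ (ctxD4 hD φ).Uo 22 ⊔ (ctxD4 hD φ).Uo 23 := by
              intro r hr hv
              have hrr : r ∈ d4Twist.reps ∧ 3 ≤ d4Twist.ht r := range_tables.1 r hr
              have := bracket_high (hD := hD) (φ := φ) (h := 4) r15 hrr.1 (by decide) (by omega)
                (by have : d4Twist.ht 15 = 2 := by decide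
                    omega) (hlb (φ (φ t))) hv
              refine SetLike.le_def.1 ?_ this
              refine iSup₂_le fun r hr => ?_
              have : r.1 = 17 ∨ r.1 = 22 ∨ r.1 = 23 := hhigh r.1 r.2 (by
                have : ((4 : ℕ) : ℤ) + 1 ≤ d4Twist.ht r.1 := hr
                omega)
              rcases this with e | e | e <;> rw [e]
              · exact le_sup_of_le_left le_sup_left
              · exact le_sup_of_le_left le_sup_right
              · exact le_sup_right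
            rcases hv with (hv | hv) | hv
            · exact hall 17 (by simp) hv
            · exact hall 22 (by simp) hv
            · exact hall 23 (by simp) hv
          · intro v v' hv _ pv pv'
            rw [show ⁅σ (lb (φ (φ t))), v * v'⁆ = ⁅σ (lb (φ (φ t))), v⁆ * (v * ⁅σ (lb (φ (φ t))), v'⁆ * v⁻¹) by
              simp only [commutatorElement_def]; group]
            have hv' : v ∈ (ctxD4 hD φ).Uo 17 ⊔ (ctxD4 hD φ).Uo 22 ⊔ (ctxD4 hD φ).Uo 23 := by
              rwa [Subgroup.closure_union, Subgroup.closure_union, Subgroup.closure_eq, Subgroup.closure_eq,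
                Subgroup.closure_eq] at hv
            exact mul_mem pv (mul_mem (mul_mem hv' pv') (inv_mem hv'))
          · intro v hv pv
            rw [show ⁅σ (lb (φ (φ t))), v⁻¹⁆ = v⁻¹ * ⁅σ (lb (φ (φ t))), v⁆⁻¹ * v by
              simp only [commutatorElement_def]; group]
            have hv' : v ∈ (ctxD4 hD φ).Uo 17 ⊔ (ctxD4 hD φ).Uo 22 ⊔ (ctxD4 hD φ).Uo 23 := by
              rwa [Subgroup.closure_union, Subgroup.closure_union, Subgroup.closure_eq, Subgroup.closure_eq,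
                Subgroup.closure_eq] at hv
            exact mul_mem (mul_mem (inv_mem hv') (inv_mem pv)) hv'
      · show ⁅la (c * s), lb (φ (φ (c * t)))⁆ * ⁅la (c * s), lb (φ (φ (c * t)))⁆ =
          ⁅la s, lb (φ (φ t))⁆ * ⁅la s, lb (φ (φ t))⁆
        obtain ⟨X, hX, e1, -, e2⟩ := exists_diag hD φ E.hyp (Units.mk0 c hc)
        obtain ⟨g, -, eg⟩ := exists_theta E hX
        rw [← hconj (p := g) (hcen (hla s) (hlb (φ (φ t)))),
          show g * ⁅la s, lb (φ (φ t))⁆ * g⁻¹ = ⁅g * la s * g⁻¹, g * lb (φ (φ t)) * g⁻¹⁆ by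
            simp only [commutatorElement_def]; group]
        have ec : ⁅g * la s * g⁻¹, g * lb (φ (φ t)) * g⁻¹⁆ = ⁅la (c * s), lb (φ (φ (c * t)))⁆ := by
          refine bracket_congr E.central ?_ ?_
          · rw [map_mul, map_mul, map_inv, ela, ela, eg, theta_conj_orb (ctxD4 hD φ) hX r18, e1]; rfl
          · rw [map_mul, map_mul, map_inv, elb, elb, eg, theta_conj_orb (ctxD4 hD φ) hX r15, e2]
            congr 1
            simp
        rw [ec]
    have e : ⁅a, b⁆ = ⁅la x, lb y⁆ := bracket_congr E.central (ex.trans (ela x).symm) (ey.trans (elb y).symm)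
    rw [e]
    exact congrArg Subtype.val h0
  -- commutators with one element of the root subgroup of α
  obtain ⟨A, hA, eA⟩ := exists_Ys E h18 (1 : K)
  have hA' := Ys_le_pre r18 hA
  have hkill : ∀ z : K, ∀ b ∈ pre hD φ σ 17, σ b = o 17 (z + φ (φ z)) → ⁅A, b⁆ = 1 := by
    intro z b hb eb
    obtain ⟨Q, hQ, eQ⟩ := exists_short E (r := 15) (by simp) z
    obtain ⟨cC, cE, hC, hE, e⟩ := bracket_two hD φ h3 z
    set V := ⁅A, Q⁆ with hVd
    have hA2 : σ (A * A) = 1 := by rw [map_mul, eA]; exact hosq r18 1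
    have hVA : A * V = V * A := by
      have h1 : V * V = 1 := hz hA' hQ
      have h2 : V⁻¹ = V := inv_eq_of_mul_eq_one_right h1
      have h3' : A * V * A⁻¹ = V⁻¹ := by
        have h4 := Subgroup.mem_center_iff.1 (E.central hA2) Q
        calc A * V * A⁻¹ = A * A * Q * A⁻¹ * (Q⁻¹ * A⁻¹) := by simp only [hVd, commutatorElement_def]; group
          _ = Q * (A * A) * A⁻¹ * (Q⁻¹ * A⁻¹) := by rw [h4]
          _ = _ := by simp only [hVd, commutatorElement_def]; group
      rw [h2] at h3'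
      calc A * V = A * V * A⁻¹ * A := by group
        _ = V * A := by rw [h3']
    have hσV : σ (b⁻¹ * V) ∈ (ctxD4 hD φ).Uo 22 ⊔ (ctxD4 hD φ).Uo 23 := by
      rw [map_mul, map_inv, eb, hVd, map_commutatorElement, eA, eQ, commutatorElement_def,
        inv_eq_of_mul_eq_one_right (hosq r18 1), inv_eq_of_mul_eq_one_right (hosq r15 z),
        inv_eq_of_mul_eq_one_right (hosq r17 _), e]
      have hW1 : o 22 cC ∈ (ctxD4 hD φ).Uo 22 := (ctxD4 hD φ).orb_mem_Uo r22 (by
        rw [show (ctxD4 hD φ).T.len 22 = 1 from (len_eq.1 22 (by simp)).2]; exact hC)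
      have hW2 : o 23 cE ∈ (ctxD4 hD φ).Uo 23 := (ctxD4 hD φ).orb_mem_Uo r23 (by
        rw [show (ctxD4 hD φ).T.len 23 = 1 from (len_eq.1 23 (by simp)).2]; exact hE)
      have c1 : o 15 z * o 22 cC = o 22 cC * o 15 z := (commute_o hD φ t2215 r22 r15 cC z).symm
      have c2 : o 15 z * o 23 cE = o 23 cE * o 15 z := (commute_o hD φ t2315 r23 r15 cE z).symm
      set m := z + φ (φ z)
      have hm : ⁅o 17 m, o 15 z⁆ ∈ (ctxD4 hD φ).Uo 23 := by
        have := bracket_high (hD := hD) (φ := φ) (h := 4) r17 r15 (by decide) (by decide) (by decide)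
          ((ctxD4 hD φ).orb_mem_Uo r17 (iter_len hD φ E.hyp h17 m))
          ((ctxD4 hD φ).orb_mem_Uo r15 (iter_len hD φ E.hyp (by simp) z))
        refine SetLike.le_def.1 ?_ this
        refine iSup₂_le fun r hr => ?_
        have : r.1 = 23 := by
          have h5 : ((4 : ℕ) : ℤ) + 1 ≤ d4Twist.ht r.1 := hr
          have : ∀ p ∈ d4Twist.reps, 5 ≤ d4Twist.ht p → p = 23 := by decide +kernel
          exact this r.1 r.2 (by omega)
        rw [this]
      have e2 : o 17 m * (o 15 z * o 17 m * o 22 cC * o 23 cE * o 15 z) =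
          ⁅o 17 m, o 15 z⁆ * (o 22 cC * o 23 cE) := by
        rw [commutatorElement_def, inv_eq_of_mul_eq_one_right (hosq r17 m), inv_eq_of_mul_eq_one_right (hosq r15 z)]
        calc o 17 m * (o 15 z * o 17 m * o 22 cC * o 23 cE * o 15 z)
            = o 17 m * o 15 z * o 17 m * o 22 cC * (o 23 cE * o 15 z) := by group
          _ = o 17 m * o 15 z * o 17 m * (o 22 cC * o 15 z) * o 23 cE := by rw [← c2]; group
          _ = _ := by rw [← c1]; group
      rw [e2]
      exact mul_mem (Subgroup.mem_sup_right hm) (mul_mem (Subgroup.mem_sup_left hW1) (Subgroup.mem_sup_right hW2))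
    obtain ⟨w, hw, ew⟩ : ∃ w ∈ pre hD φ σ 22 ⊔ pre hD φ σ 23, σ w = σ (b⁻¹ * V) := by
      have hle : (ctxD4 hD φ).Uo 22 ⊔ (ctxD4 hD φ).Uo 23 ≤ (pre hD φ σ 22 ⊔ pre hD φ σ 23).map σ := by
        rw [Subgroup.map_sup]
        refine sup_le_sup (fun x hx => ?_) (fun x hx => ?_)
        · obtain ⟨g, rfl⟩ := exists_of_mem E (Uo_le E r22 hx); exact ⟨g, hx, rfl⟩
        · obtain ⟨g, rfl⟩ := exists_of_mem E (Uo_le E r23 hx); exact ⟨g, hx, rfl⟩
      obtain ⟨w, hw, ew⟩ := hle hσV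
      exact ⟨w, hw, ew⟩
    have hwA : A * w = w * A := by
      have hle : pre hD φ σ 22 ⊔ pre hD φ σ 23 ≤ Subgroup.centralizer {A} :=
        sup_le (fun x hx => Subgroup.mem_centralizer_singleton_iff.2 (hyz (by simp) (by simp) hx hA'))
          (fun x hx => Subgroup.mem_centralizer_singleton_iff.2 (hyz (by simp) (by simp) hx hA'))
      exact (Subgroup.mem_centralizer_singleton_iff.1 (hle hw)).symm
    have e4 : ⁅A, b⁆ = ⁅A, V * w⁻¹⁆ := bracket_congr E.central rfl (by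
      have hcm : σ (b⁻¹ * V) * σ b = σ b * σ (b⁻¹ * V) := by
        have hle : (ctxD4 hD φ).Uo 22 ⊔ (ctxD4 hD φ).Uo 23 ≤ Subgroup.centralizer {σ b} := by
          rw [eb]
          refine sup_le (fun x hx => ?_) (fun x hx => ?_)
          · obtain ⟨t, -, rfl⟩ := (ctxD4 hD φ).mem_Uo r22 hx
            exact Subgroup.mem_centralizer_singleton_iff.2 (commute_o hD φ t2217 r22 r17 t _)
          · obtain ⟨t, -, rfl⟩ := (ctxD4 hD φ).mem_Uo r23 hx
            exact Subgroup.mem_centralizer_singleton_iff.2 (commute_o hD φ t2317 r23 r17 t _)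
        exact Subgroup.mem_centralizer_singleton_iff.1 (hle hσV)
      rw [map_mul, map_inv, ew, map_mul σ b⁻¹ V, map_inv]
      group)
    rw [e4, commutatorElement_eq_one_iff_mul_comm]
    calc A * (V * w⁻¹) = V * (A * w⁻¹) := by rw [← mul_assoc, hVA, mul_assoc]
      _ = _ := by rw [(Commute.inv_right hwA).eq, ← mul_assoc]
  obtain ⟨w0, hw0⟩ := exists_trace hD φ E.hyp
  obtain ⟨B0, hB0, eB0⟩ := exists_short E (r := 17) h17 w0
  set f0 := ⁅A, B0⁆ with hf0
  have hf : ∀ b ∈ pre hD φ σ 17, ⁅A, b⁆ = 1 ∨ ⁅A, b⁆ = f0 := by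
    intro b hb
    obtain ⟨y, -, ey⟩ := eq_o r17 hb
    have hT : φ (y + φ y + φ (φ y)) = y + φ y + φ (φ y) := by simp only [map_add, h3]; ring
    have hT0 : φ (w0 + φ w0 + φ (φ w0)) = w0 + φ w0 + φ (φ w0) := by simp only [map_add, h3]; ring
    have hsol : ∀ y : K, y + φ y + φ (φ y) = 0 → ∃ z, y = z + φ (φ z) := fun y hy => by
      refine ⟨φ (φ y), ?_⟩
      rw [h3]
      calc y = y + 0 := (add_zero y).symm
        _ = y + (y + φ y + φ (φ y)) := by rw [hy]
        _ = φ (φ y) + φ y + (y + y) := by ring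
        _ = _ := by rw [CharTwo.add_self_eq_zero, add_zero]
    rcases h2 _ hT with h | h
    · obtain ⟨z, hz'⟩ := hsol y h
      exact Or.inl (hkill z b hb (by rw [ey, hz']))
    · right
      have h' := (h2 _ hT0).resolve_left hw0
      obtain ⟨z, hz'⟩ := hsol (y + w0) (by
        simp only [map_add]
        calc y + w0 + (φ y + φ w0) + (φ (φ y) + φ (φ w0)) = (y + φ y + φ (φ y)) + (w0 + φ w0 + φ (φ w0)) := by ring
          _ = 0 := by rw [h, h', CharTwo.add_self_eq_zero])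
      obtain ⟨b1, hb1, eb1⟩ := exists_short E (r := 17) h17 (y + w0)
      have : ⁅A, b⁆ = ⁅A, b1 * B0⁆ := bracket_congr E.central rfl (by
        rw [map_mul, ey, eb1, eB0, ← hoadd r17, add_assoc, CharTwo.add_self_eq_zero, add_zero])
      rw [this, bracket22_mul E hA' hb1 hB0, hkill z b1 hb1 (by rw [eb1, hz']), one_mul]
  have hf0sq : f0 * f0 = 1 := by
    rw [hf0, ← bracket22_mul E hA' hB0 hB0]
    refine (bracket_congr E.central rfl (b' := (1 : Γ)) ?_).trans (commutatorElement_one_right A)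
    rw [map_mul, eB0, map_one]
    exact hosq r17 w0
  have hgen : Y hD φ σ 22 ≤ Subgroup.zpowers f0 := by
    rw [Y_long h22, Subgroup.commutator_le]
    intro a ha b hb
    obtain ⟨x, -, ex⟩ := eq_o r18 (Ys_le_pre r18 ha)
    by_cases hx : x = 0
    · have ha1 : a = 1 := Ys_inj E h18 a ha (by
        rw [ex, hx]; exact (ctxD4 hD φ).orb_zero 18)
      rw [ha1, commutatorElement_one_left]; exact one_mem _
    -- a dilation is a square
    set d := x ^ 4 with hd
    have hd2 : d * d = x := by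
      rw [hd, ← pow_add]
      have hcard : Fintype.card K = 8 := by
        have hq2 : q = 2 := by
          have hle : Nat.card {t : K // t ^ q = t} ≤ Nat.card (Fin 2) := by
            refine Nat.card_le_card_of_injective (fun t => if t.1 = 0 then (0 : Fin 2) else 1) ?_
            intro s t hst
            have hs := h2 s.1 (by rw [phi_pow hD φ E.hyp]; exact s.2)
            have ht := h2 t.1 (by rw [phi_pow hD φ E.hyp]; exact t.2)
            apply Subtype.ext
            rcases hs with hs | hs <;> rcases ht with ht | ht <;> simp [hs, ht] at hst ⊢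
          rw [card_powFixed K E.hyp.card, Nat.card_fin] at hle
          have := E.hyp.one_lt
          omega
        rw [E.hyp.card, hq2]; norm_num
      rw [show 4 + 4 = Fintype.card K by rw [hcard], FiniteField.pow_card]
    have hd0 : d ≠ 0 := pow_ne_zero _ hx
    obtain ⟨X, hX, e1, -⟩ := exists_diag hD φ E.hyp (Units.mk0 d hd0)
    obtain ⟨g, hg, eg⟩ := exists_theta E hX
    set g2 := g * g with hg2d
    have hg2 : g2 ∈ preH hD φ σ := mul_mem hg hg
    have hXX : X * X ∈ TorSym d4Twist φ := mul_mem hX hX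
    have eg2 : σ g2 = theta chevD4 K (X * X) := by rw [map_mul, eg, map_mul]
    set b' := g2⁻¹ * b * g2 with hb'd
    have hb' : b' ∈ pre hD φ σ 17 := by
      have h5 := (map_pre_H (inv_mem hg2) r17).le ⟨b, Ys_le_pre r17 hb, rfl⟩
      simpa [MulAut.conj_apply] using h5
    have e3 : ⁅a, b⁆ = g2 * ⁅A, b'⁆ * g2⁻¹ := by
      rw [show g2 * ⁅A, b'⁆ * g2⁻¹ = ⁅g2 * A * g2⁻¹, b⁆ by simp only [hb'd, commutatorElement_def]; group]
      refine bracket_congr E.central ?_ rfl
      rw [map_mul, map_mul, map_inv, eg2, eA, theta_conj_orb (ctxD4 hD φ) hXX r18, ex, chiX_mul, e1,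
        Units.val_mul, Units.val_mk0, hd2, mul_one]
    have hfc : g2 * f0 = f0 * g2 := by
      obtain ⟨t, ht, et⟩ := eq_o r22 (bracket_mem22 E hA' hB0)
      rw [(len_eq.1 22 h22).2] at ht
      have hk : σ ⁅g, f0⁆ = 1 := by
        rw [map_commutatorElement, et, eg, commutatorElement_def, theta_conj_orb (ctxD4 hD φ) hX r22,
          mul_inv_eq_one]
        congr 1
        by_cases ht0 : t = 0
        · rw [ht0, mul_zero]
        · have hχ : φ (chiX X 22 : K) = (chiX X 22 : K) := by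
            have h22r : d4Twist.rho 22 = 22 := by decide +kernel
            have h := congrArg Units.val (chiX_rho d4Twist_ok hX (show 22 < chevD4.nroots by decide))
            rw [h22r] at h
            exact h.symm
          rw [(h2 _ hχ).resolve_left (Units.ne_zero _), one_mul]
      have hkc := Subgroup.mem_center_iff.1 (E.central hk)
      set k := ⁅g, f0⁆ with hkd
      have e5 : g * f0 * g⁻¹ = k * f0 := by simp only [hkd, commutatorElement_def]; group
      have hk2 : k * k = 1 := by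
        have e6 : g * (f0 * f0) * g⁻¹ = k * f0 * (k * f0) := by
          rw [← e5]; group
        rw [hf0sq, mul_one, mul_inv_cancel, mul_assoc k f0, ← mul_assoc f0 k f0, hkc f0, mul_assoc k f0 f0,
          hf0sq, mul_one] at e6
        exact e6.symm
      calc g2 * f0 = g * (g * f0 * g⁻¹) * g := by simp only [hg2d]; group
        _ = g * (k * f0) * g := by rw [e5]
        _ = k * (g * f0 * g⁻¹) * g * g := by rw [show g * (k * f0) = k * (g * f0) by
              rw [← mul_assoc, hkc g, mul_assoc]]; group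
        _ = k * k * f0 * g * g := by rw [e5]; group
        _ = _ := by rw [hk2, one_mul, hg2d]; group
    rw [e3]
    rcases hf b' hb' with h | h <;> rw [h]
    · rw [mul_one, mul_inv_cancel]; exact one_mem _
    · rw [hfc, mul_inv_cancel_right]; exact Subgroup.mem_zpowers f0
  intro w hw h1
  obtain ⟨n, rfl⟩ := Subgroup.mem_zpowers_iff.1 (hgen hw)
  have hne : σ f0 ≠ 1 := by
    rw [hf0, map_commutatorElement, eA, eB0, bracket_o hD φ, ← o22]
    intro e
    have h0 := (ctxD4 hD φ).orb_eq_one_iff r22 e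
    simp only [one_mul, neg_eq_zero] at h0
    exact hw0 h0
  rcases Int.even_or_odd' n with ⟨j, rfl | rfl⟩
  · rw [_root_.zpow_mul, show f0 ^ (2 : ℤ) = 1 by rw [zpow_two, hf0sq], one_zpow]
  · rw [zpow_add, _root_.zpow_mul, show f0 ^ (2 : ℤ) = 1 by rw [zpow_two, hf0sq], one_zpow, one_mul,
      zpow_one] at h1
    exact absurd h1 hne

theorem Y22_inj : ∀ w ∈ Y hD φ σ 22, σ w = 1 → w = 1 := by
  by_cases h : ∀ t : K, φ t = t → t = 0 ∨ t = 1
  · exact Y22_inj_of_two E h
  · push Not at h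
    obtain ⟨t, ht, t0, t1⟩ := h
    exact Y22_inj_of_unit E (c := Units.mk0 t t0) (Units.ext ht) (fun e => t1 (congrArg Units.val e))

/-! ### All roots -/

theorem Y_map {r : ℕ} (hr : r ∈ d4Twist.reps) : (Y hD φ σ r).map σ = (ctxD4 hD φ).Uo r := by
  rcases len_eq.2.2 r hr with h | h
  · obtain ⟨l, -, rfl⟩ := long_orbit r h
    refine (transport E (P := fun r => (Y hD φ σ r).map σ = (ctxD4 hD φ).Uo r) ?_
      (len_eq.1 22 (by simp)).1 (Y22_map E) l).2
    intro a r hr ih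
    obtain ⟨g, hg⟩ := exists_ns E a
    have hc : σ.comp (MulAut.conj g).toMonoidHom = (MulAut.conj (σ g)).toMonoidHom.comp σ :=
      MonoidHom.ext fun x => by simp
    rw [← map_Y_N hg hr, Subgroup.map_map, hc, ← Subgroup.map_map, ih, hg]
    exact (ctxD4 hD φ).rgd.map_conj_n a ⟨r, hr⟩
  · rw [Y_short h]; exact Ys_map E h

theorem Y_inj {r : ℕ} (hr : r ∈ d4Twist.reps) : ∀ w ∈ Y hD φ σ r, σ w = 1 → w = 1 := by
  rcases len_eq.2.2 r hr with h | h
  · obtain ⟨l, -, rfl⟩ := long_orbit r h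
    refine (transport E (P := fun r => ∀ w ∈ Y hD φ σ r, σ w = 1 → w = 1) ?_
      (len_eq.1 22 (by simp)).1 (Y22_inj E) l).2
    intro a r hr ih w hw h1
    obtain ⟨g, hg⟩ := exists_ns E a
    rw [← map_Y_N hg hr] at hw
    obtain ⟨v, hv, rfl⟩ := hw
    rw [ih v hv (by simpa using h1), map_one]
  · rw [Y_short h]; exact Ys_inj E h

theorem Y_le_pre {r : ℕ} (hr : r ∈ d4Twist.reps) : Y hD φ σ r ≤ pre hD φ σ r :=
  Subgroup.map_le_iff_le_comap.1 (Y_map E hr).le

theorem pre_abel {r : ℕ} (hr : r ∈ d4Twist.reps) {x y : Γ} (hx : x ∈ pre hD φ σ r) (hy : y ∈ pre hD φ σ r) :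
    x * y = y * x := by
  rcases len_eq.2.2 r hr with h | h
  · obtain ⟨l, -, rfl⟩ := long_orbit r h
    refine (transport E (P := fun r => ∀ x ∈ pre hD φ σ r, ∀ y ∈ pre hD φ σ r, x * y = y * x) ?_
      (len_eq.1 22 (by simp)).1 (fun x hx y hy => pre22_abel E hx hy) l).2 x hx y hy
    intro a r hr ih x hx y hy
    obtain ⟨g, hg⟩ := exists_ns E a
    rw [← map_pre_N hg hr] at hx hy
    obtain ⟨x, hx', rfl⟩ := hx
    obtain ⟨y, hy', rfl⟩ := hy
    rw [← map_mul, ← map_mul, ih x hx' y hy']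
  · exact pre_short_abel E h hx hy

end Ext

end Cfsg.Agent.TwistMult.D4
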