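/-
Central extensions of ³D₄(q): the lifted positive unipotent subgroup.

* `Vall`, `Vall_inj` : the product of the lifts of the positive root subgroups meets the kernel trivially;
* `conj_simple` : each simple lift normalises the product of the other positive ones.
-/
import Cfsg.Agent.Lib.TwistMult.D4Long

set_option autoImplicit false
set_option maxRecDepth 100000

namespace Cfsg.Agent.TwistMult.D4

open Cfsg.Lie Cfsg.Lie.ChevalleyDatum Cfsg.Agent.Chev Cfsg.Agent.TwistE6D4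
open scoped commutatorElement

universe u

/-- The orbits of height at least one, in the order of the filtration. -/
abbrev posReps : List ℕ := [14, 18, 15, 17, 23, 22]

/-- Words separating a root from the roots after it. -/
abbrev Sep (r : ℕ) (L : List ℕ) : Prop :=
  ∃ l ∈ ([[], [1], [0], [0, 1], [1, 0], [1, 0, 1], [0, 1, 0], [0, 1, 0, 1],
    [1, 0, 1, 0], [1, 0, 1, 0, 1], [0, 1, 0, 1, 0], [0, 1, 0, 1, 0, 1]] : List (List (Fin 2))),
    ¬ 0 < d4Twist.ht (wW d4Twist d4Node l r) ∧ ∀ s ∈ L, 0 < d4Twist.ht (wW d4Twist d4Node l s)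

theorem sep_tables : Sep 23 [17] ∧ Sep 22 [23, 17] ∧ Sep 15 [22, 23, 17] ∧ Sep 18 [15, 22, 23, 17] ∧
    Sep 14 [15, 22, 23, 17] ∧ Sep 14 [18, 15, 22, 23, 17] := by
  refine ⟨?_, ?_, ?_, ?_, ?_, ?_⟩ <;> decide +kernel

theorem comm_tables : CommOrb 14 15 ∧ CommOrb 14 17 ∧ CommOrb 22 15 ∧ CommOrb 22 17 ∧ CommOrb 22 18 ∧
    CommOrb 23 15 ∧ CommOrb 23 17 ∧ CommOrb 23 18 ∧ (∀ r ∈ posReps, r ∈ d4Twist.reps) := by
  refine ⟨?_, ?_, ?_, ?_, ?_, ?_, ?_, ?_, ?_⟩ <;> decide +kernel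

variable {K : Type u} [Field K] [Fintype K] {hD : Good chevD4} {φ : K →+* K} {q : ℕ}
  {Γ : Type u} [Group Γ] [Finite Γ] {σ : Γ →* GL chevD4.Idx K}

variable (hD φ σ)

/-- The lift of the roots of height at least three. -/
def V3 : Subgroup Γ := Y hD φ σ 22 ⊔ (Y hD φ σ 23 ⊔ Y hD φ σ 17)

/-- The lift of the roots of height at least two. -/
def V2 : Subgroup Γ := Y hD φ σ 15 ⊔ V3 hD φ σ

/-- The lift of the positive roots other than β. -/
def V1 : Subgroup Γ := Y hD φ σ 18 ⊔ V2 hD φ σ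

/-- The lift of the positive roots other than α. -/
def Vb : Subgroup Γ := Y hD φ σ 14 ⊔ V2 hD φ σ

/-- The lift of the positive roots. -/
def Vall : Subgroup Γ := Y hD φ σ 14 ⊔ V1 hD φ σ

variable {hD φ σ}

section Ext

variable (E : Ext hD φ q σ)
include E

omit E in
theorem Y_le_V {r : ℕ} :
    (r ∈ ([22, 23, 17] : List ℕ) → Y hD φ σ r ≤ V3 hD φ σ) ∧
    (r ∈ ([15, 22, 23, 17] : List ℕ) → Y hD φ σ r ≤ V2 hD φ σ) := by
  have h : r ∈ ([22, 23, 17] : List ℕ) → Y hD φ σ r ≤ V3 hD φ σ := fun hr => by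
    simp only [List.mem_cons, List.not_mem_nil, or_false] at hr
    rcases hr with rfl | rfl | rfl
    · exact le_sup_left
    · exact le_sup_of_le_right le_sup_left
    · exact le_sup_of_le_right le_sup_right
  refine ⟨h, fun hr => ?_⟩
  rcases List.mem_cons.1 hr with rfl | hr
  · exact le_sup_left
  · exact (h hr).trans le_sup_right

/-- Preimages of two long root subgroups commute. -/
theorem commute_long_long {l l' : ℕ} (hl : l ∈ longs) (hl' : l' ∈ longs) (h1 : CommOrb l (sp l').1)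
    (h2 : CommOrb l (sp l').2) {x y : Γ} (hx : x ∈ pre hD φ σ l) (hy : y ∈ pre hD φ σ l') : x * y = y * x := by
  obtain ⟨-, s1, s2, -⟩ := sp_table 0 l' hl'
  obtain ⟨c, hc, e⟩ := (Y_map E (len_eq.1 l' hl').1).ge (show σ y ∈ (ctxD4 hD φ).Uo l' from hy)
  obtain ⟨k, hk, rfl⟩ := ChevSt.exists_ker_mul E.central e
  have hle : Y hD φ σ l' ≤ Subgroup.centralizer {x} := by
    rw [Y_long hl', Subgroup.commutator_le]
    intro a ha b hb
    have ha' : a ∈ Subgroup.centralizer {x} := Subgroup.mem_centralizer_singleton_iff.2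
      (commute_long_short E hl s1 h1 hx (Ys_le_pre (len_eq.2.1 _ s1).1 ha)).symm
    have hb' : b ∈ Subgroup.centralizer {x} := Subgroup.mem_centralizer_singleton_iff.2
      (commute_long_short E hl s2 h2 hx (Ys_le_pre (len_eq.2.1 _ s2).1 hb)).symm
    rw [commutatorElement_def]
    exact mul_mem (mul_mem (mul_mem ha' hb') (inv_mem ha')) (inv_mem hb')
  rw [← mul_assoc, (Subgroup.mem_centralizer_singleton_iff.1 (hle hc)).symm, mul_assoc c x,
    ChevSt.ker_comm E.central hk x, mul_assoc]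

/-- Lifts of the roots in the filtration commute, except for the stated pairs. -/
theorem Y_commute {r s : ℕ}
    (h : (r, s) ∈ ([(22, 23), (23, 22), (17, 17), (17, 22), (17, 23), (22, 17), (23, 17), (22, 22), (23, 23),
      (15, 15), (15, 22), (15, 23), (22, 15), (23, 15), (18, 18), (18, 22), (18, 23), (22, 18), (23, 18),
      (14, 14), (14, 15), (15, 14), (14, 17), (17, 14), (14, 23), (23, 14)] : List (ℕ × ℕ)))
    {x y : Γ} (hx : x ∈ Y hD φ σ r) (hy : y ∈ Y hD φ σ s) : x * y = y * x := by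
  obtain ⟨t1415, t1417, t2215, t2217, t2218, t2315, t2317, t2318, hpos⟩ := comm_tables
  have hrs : r ∈ posReps ∧ s ∈ posReps := by
    revert h
    simp only [List.mem_cons, List.not_mem_nil, or_false, Prod.mk.injEq]
    rintro (h | h | h | h | h | h | h | h | h | h | h | h | h | h | h | h | h | h | h | h | h | h | h | h | h | h) <;>
      obtain ⟨rfl, rfl⟩ := h <;> simp
  have hx' := Y_le_pre E (hpos r hrs.1) hx
  have hy' := Y_le_pre E (hpos s hrs.2) hy
  have l14 : (14 : ℕ) ∈ longs := by simp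
  have l22 : (22 : ℕ) ∈ longs := by simp
  have l23 : (23 : ℕ) ∈ longs := by simp
  have s15 : (15 : ℕ) ∈ shorts := by simp
  have s17 : (17 : ℕ) ∈ shorts := by simp
  have s18 : (18 : ℕ) ∈ shorts := by simp
  simp only [List.mem_cons, List.not_mem_nil, or_false, Prod.mk.injEq] at h
  rcases h with h | h | h | h | h | h | h | h | h | h | h | h | h | h | h | h | h | h | h | h | h | h | h | h | h | h <;>
    obtain ⟨rfl, rfl⟩ := h
  · exact commute_long_long E l22 l23 t2215 t2217 hx' hy'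
  · exact (commute_long_long E l22 l23 t2215 t2217 hy' hx').symm
  · exact pre_abel E (hpos _ hrs.1) hx' hy'
  · exact (commute_long_short E l22 s17 t2217 hy' hx').symm
  · exact (commute_long_short E l23 s17 t2317 hy' hx').symm
  · exact commute_long_short E l22 s17 t2217 hx' hy'
  · exact commute_long_short E l23 s17 t2317 hx' hy'
  · exact pre_abel E (hpos _ hrs.1) hx' hy'
  · exact pre_abel E (hpos _ hrs.1) hx' hy'
  · exact pre_abel E (hpos _ hrs.1) hx' hy'
  · exact (commute_long_short E l22 s15 t2215 hy' hx').symm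
  · exact (commute_long_short E l23 s15 t2315 hy' hx').symm
  · exact commute_long_short E l22 s15 t2215 hx' hy'
  · exact commute_long_short E l23 s15 t2315 hx' hy'
  · exact pre_abel E (hpos _ hrs.1) hx' hy'
  · exact (commute_long_short E l22 s18 t2218 hy' hx').symm
  · exact (commute_long_short E l23 s18 t2318 hy' hx').symm
  · exact commute_long_short E l22 s18 t2218 hx' hy'
  · exact commute_long_short E l23 s18 t2318 hx' hy'
  · exact pre_abel E (hpos _ hrs.1) hx' hy'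
  · exact commute_long_short E l14 s15 t1415 hx' hy'
  · exact (commute_long_short E l14 s15 t1415 hy' hx').symm
  · exact commute_long_short E l14 s17 t1417 hx' hy'
  · exact (commute_long_short E l14 s17 t1417 hy' hx').symm
  · exact commute_long_long E l14 l23 t1415 t1417 hx' hy'
  · exact (commute_long_long E l14 l23 t1415 t1417 hy' hx').symm

omit E in
/-- A subgroup is normalised when its generators are moved into it. -/
theorem conj_sup {A B : Subgroup Γ} {g : Γ} {V : Subgroup Γ} (hA : ∀ v ∈ A, g * v * g⁻¹ ∈ V)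
    (hB : ∀ v ∈ B, g * v * g⁻¹ ∈ V) : ∀ v ∈ A ⊔ B, g * v * g⁻¹ ∈ V := by
  intro v hv
  exact (sup_le (fun w hw => hA w hw) (fun w hw => hB w hw) :
    A ⊔ B ≤ V.comap (MulAut.conj g).toMonoidHom) hv

omit E in
theorem H_normal_V {g : Γ} (hg : g ∈ preH hD φ σ) :
    (∀ v ∈ V3 hD φ σ, g * v * g⁻¹ ∈ V3 hD φ σ) ∧ (∀ v ∈ V2 hD φ σ, g * v * g⁻¹ ∈ V2 hD φ σ) := by
  have h : ∀ {r}, r ∈ posReps → ∀ v ∈ Y hD φ σ r, g * v * g⁻¹ ∈ Y hD φ σ r := fun hr v hv =>
    (map_Y_H hg (comm_tables.2.2.2.2.2.2.2.2 _ hr)).le ⟨v, hv, rfl⟩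
  have h3 : ∀ v ∈ V3 hD φ σ, g * v * g⁻¹ ∈ V3 hD φ σ :=
    conj_sup (fun v hv => Y_le_V.1 (by simp) (h (by simp) v hv))
      (conj_sup (fun v hv => Y_le_V.1 (by simp) (h (by simp) v hv))
        (fun v hv => Y_le_V.1 (by simp) (h (by simp) v hv)))
  exact ⟨h3, conj_sup (fun v hv => Y_le_V.2 (by simp) (h (by simp) v hv))
    (fun v hv => Subgroup.mem_sup_right (h3 v hv))⟩

omit E in
theorem mem_of_commute {V : Subgroup Γ} {g v : Γ} (h : g * v = v * g) (hv : v ∈ V) : g * v * g⁻¹ ∈ V := by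
  rwa [h, mul_inv_cancel_right]

omit E in
theorem bracket22 {a b : Γ} (ha : a ∈ Y hD φ σ 18) (hb : b ∈ Y hD φ σ 17) : ⁅a, b⁆ ∈ Y hD φ σ 22 := by
  rw [Y_short (by simp)] at ha hb
  rw [Y_long (by simp)]
  exact Subgroup.commutator_mem_commutator ha hb

omit E in
theorem bracket23 {a b : Γ} (ha : a ∈ Y hD φ σ 15) (hb : b ∈ Y hD φ σ 17) : ⁅a, b⁆ ∈ Y hD φ σ 23 := by
  rw [Y_short (by simp)] at ha hb
  rw [Y_long (by simp)]
  exact Subgroup.commutator_mem_commutator ha hb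

theorem conj18_V3 {x : Γ} (hx : x ∈ Y hD φ σ 18) : ∀ v ∈ V3 hD φ σ, x * v * x⁻¹ ∈ V3 hD φ σ :=
  conj_sup (fun v hv => mem_of_commute (Y_commute E (by simp) hx hv) (Y_le_V.1 (by simp) hv))
    (conj_sup (fun v hv => mem_of_commute (Y_commute E (by simp) hx hv) (Y_le_V.1 (by simp) hv))
      (fun v hv => by
        rw [show x * v * x⁻¹ = ⁅x, v⁆ * v by simp only [commutatorElement_def]; group]
        exact mul_mem (Y_le_V.1 (by simp) (bracket22 hx hv)) (Y_le_V.1 (by simp) hv)))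

theorem conj15_V3 {x : Γ} (hx : x ∈ Y hD φ σ 15) : ∀ v ∈ V3 hD φ σ, x * v * x⁻¹ ∈ V3 hD φ σ :=
  conj_sup (fun v hv => mem_of_commute (Y_commute E (by simp) hx hv) (Y_le_V.1 (by simp) hv))
    (conj_sup (fun v hv => mem_of_commute (Y_commute E (by simp) hx hv) (Y_le_V.1 (by simp) hv))
      (fun v hv => by
        rw [show x * v * x⁻¹ = ⁅x, v⁆ * v by simp only [commutatorElement_def]; group]
        exact mul_mem (Y_le_V.1 (by simp) (bracket23 hx hv)) (Y_le_V.1 (by simp) hv)))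

/-- Injectivity is extended by one root. -/
theorem inj_step {r : ℕ} (hr : r ∈ posReps) {L : List ℕ} (hL : ∀ s ∈ L, s ∈ posReps) (hsep : Sep r L)
    {V : Subgroup Γ} (hVL : V.map σ ≤ ⨆ s ∈ {s | s ∈ L}, (ctxD4 hD φ).Uo s) (hV : ∀ v ∈ V, σ v = 1 → v = 1)
    (hn : ∀ y ∈ Y hD φ σ r, ∀ v ∈ V, y * v * y⁻¹ ∈ V) : ∀ w ∈ Y hD φ σ r ⊔ V, σ w = 1 → w = 1 := by
  have hrr := comm_tables.2.2.2.2.2.2.2.2 r hr
  refine injOn_sup (Y_inj E hrr) hV hn ?_
  obtain ⟨l, -, h1, h2⟩ := hsep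
  let C := ctxD4 hD φ
  have h := span_inf C.rgd (A := {s : C.Orb | s.1 ∈ L}) (r := ⟨r, hrr⟩) l
    (fun hh => h1 ((C.pos_ww l _).1 hh)) (fun s hs => (C.pos_ww l s).2 (h2 s.1 hs))
  rw [eq_bot_iff, Y_map E hrr, ← h]
  refine inf_le_inf_left _ (hVL.trans (iSup₂_le fun s hs => ?_))
  exact C.rgd.U_le_span (A := {s : C.Orb | s.1 ∈ L}) (r := ⟨s, comm_tables.2.2.2.2.2.2.2.2 s (hL s hs)⟩) hs

theorem map_Y_le {r : ℕ} (hr : r ∈ posReps) {L : List ℕ} (h : r ∈ L) :
    (Y hD φ σ r).map σ ≤ ⨆ s ∈ {s | s ∈ L}, (ctxD4 hD φ).Uo s := by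
  rw [Y_map E (comm_tables.2.2.2.2.2.2.2.2 r hr)]
  exact le_biSup (fun s => (ctxD4 hD φ).Uo s) (show r ∈ {s | s ∈ L} from h)

theorem V3_inj : ∀ v ∈ V3 hD φ σ, σ v = 1 → v = 1 := by
  refine inj_step E (r := 22) (by simp) (L := [23, 17]) (by simp) sep_tables.2.1 ?_ ?_ ?_
  · rw [Subgroup.map_sup]
    exact sup_le (map_Y_le E (by simp) (by simp)) (map_Y_le E (by simp) (by simp))
  · refine inj_step E (r := 23) (by simp) (L := [17]) (by simp) sep_tables.1
      (map_Y_le E (by simp) (by simp)) (Y_inj E (len_eq.2.1 17 (by simp)).1) ?_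
    exact fun y hy v hv => mem_of_commute (Y_commute E (by simp) hy hv) hv
  · exact fun y hy => conj_sup (fun v hv => mem_of_commute (Y_commute E (by simp) hy hv) (Subgroup.mem_sup_left hv))
      (fun v hv => mem_of_commute (Y_commute E (by simp) hy hv) (Subgroup.mem_sup_right hv))

theorem map_V3 : (V3 hD φ σ).map σ ≤ ⨆ s ∈ {s | s ∈ ([22, 23, 17] : List ℕ)}, (ctxD4 hD φ).Uo s := by
  rw [V3, Subgroup.map_sup, Subgroup.map_sup]
  exact sup_le (map_Y_le E (by simp) (by simp)) (sup_le (map_Y_le E (by simp) (by simp)) (map_Y_le E (by simp) (by simp)))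

theorem V2_inj : ∀ v ∈ V2 hD φ σ, σ v = 1 → v = 1 :=
  inj_step E (by simp) (by simp) sep_tables.2.2.1 (map_V3 E) (V3_inj E) fun _ hy => conj15_V3 E hy

theorem map_V2 : (V2 hD φ σ).map σ ≤ ⨆ s ∈ {s | s ∈ ([15, 22, 23, 17] : List ℕ)}, (ctxD4 hD φ).Uo s := by
  rw [V2, Subgroup.map_sup]
  refine sup_le (map_Y_le E (by simp) (by simp)) ((map_V3 E).trans (iSup₂_le fun s hs => ?_))
  exact le_biSup (fun s => (ctxD4 hD φ).Uo s)
    (show s ∈ {s | s ∈ ([15, 22, 23, 17] : List ℕ)} from List.mem_cons_of_mem _ hs)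

theorem Uo_le_map {r : ℕ} (hr : r ∈ posReps) {V : Subgroup Γ} (h : Y hD φ σ r ≤ V) :
    (ctxD4 hD φ).Uo r ≤ V.map σ := by
  rw [← Y_map E (comm_tables.2.2.2.2.2.2.2.2 r hr)]
  exact Subgroup.map_mono h

/-- The commutators of α and α + β lie in the lift of the higher roots. -/
theorem bracket18_15 {x y : Γ} (hx : x ∈ Y hD φ σ 18) (hy : y ∈ Y hD φ σ 15) : ⁅x, y⁆ ∈ V3 hD φ σ := by
  obtain ⟨-, -, -, -, -, -, -, -, -, -, -, -, -, r18, r15, hhigh⟩ := high_tables
  choose la hla ela using fun t : K => exists_Ys E (r := 18) (by simp) t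
  choose lb hlb elb using fun t : K => exists_Ys E (r := 15) (by simp) (φ (φ t))
  have hlaY : ∀ t, la t ∈ Y hD φ σ 18 := fun t => by rw [Y_short (by simp)]; exact hla t
  have hlbY : ∀ t, lb t ∈ Y hD φ σ 15 := fun t => by rw [Y_short (by simp)]; exact hlb t
  have h3 : ∀ t, φ (φ (φ t)) = t := phi_three hD φ E.hyp
  obtain ⟨a, -, ea⟩ := eq_o r18 (Y_le_pre E r18 hx)
  obtain ⟨b, -, eb⟩ := eq_o r15 (Y_le_pre E r15 hy)
  rw [show x = la a from mul_inv_eq_one.1 (Y_inj E r18 _ (mul_mem hx (inv_mem (hlaY a)))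
      (by rw [map_mul, map_inv, ea, ela, mul_inv_cancel])),
    show y = lb (φ b) from mul_inv_eq_one.1 (Y_inj E r15 _ (mul_mem hy (inv_mem (hlbY (φ b))))
      (by rw [map_mul, map_inv, eb, elb, h3, mul_inv_cancel]))]
  refine bracket_mem_of_vanish E.central la lb (V3_inj E)
    (fun t t' => by rw [ela, ela, ela]; exact (ctxD4 hD φ).orb_add r18 t t')
    (fun t t' => by rw [elb, elb, elb, map_add, map_add]; exact (ctxD4 hD φ).orb_add r15 _ _)
    (fun t => conj18_V3 E (hlaY t)) (fun t => conj15_V3 E (hlbY t)) (fun s t => ?_) (fun β hl hr hinv => ?_) a (φ b)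
  · have h := bracket_high (hD := hD) (φ := φ) (h := 2) r18 r15 (by decide) (by decide) (by decide)
      (Y_le_pre E r18 (hlaY s)) (Y_le_pre E r15 (hlbY t))
    rw [← map_commutatorElement] at h
    refine SetLike.le_def.1 (iSup₂_le fun r hr => ?_) h
    rcases hhigh r.1 r.2 (by simpa using hr) with e | e | e <;> rw [e] <;>
      exact Uo_le_map E (by simp) (Y_le_V.1 (by simp))
  · refine pairing_zero_diag β hl hr (fun c hc => ?_) (exists_three hD φ E.hyp)
    obtain ⟨X, hX, e18, -, e15⟩ := exists_diag hD φ E.hyp (Units.mk0 c hc)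
    obtain ⟨g, hg, eg⟩ := exists_theta E hX
    refine hinv g _ _ (H_normal_V hg).1 (fun t => ?_) (fun t => ?_)
    · rw [map_mul, map_mul, map_inv, eg, ela, ela, theta_conj_orb (ctxD4 hD φ) hX r18, e18]; rfl
    · rw [map_mul, map_mul, map_inv, eg, elb, elb, theta_conj_orb (ctxD4 hD φ) hX r15, e15]
      simp

theorem conj18_V2 {x : Γ} (hx : x ∈ Y hD φ σ 18) : ∀ v ∈ V2 hD φ σ, x * v * x⁻¹ ∈ V2 hD φ σ :=
  conj_sup (fun v hv => by
      rw [show x * v * x⁻¹ = ⁅x, v⁆ * v by simp only [commutatorElement_def]; group]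
      exact mul_mem (Subgroup.mem_sup_right (bracket18_15 E hx hv)) (Subgroup.mem_sup_left hv))
    (fun v hv => Subgroup.mem_sup_right (conj18_V3 E hx v hv))

theorem V1_inj : ∀ v ∈ V1 hD φ σ, σ v = 1 → v = 1 :=
  inj_step E (by simp) (by simp) sep_tables.2.2.2.1 (map_V2 E) (V2_inj E) fun _ hy => conj18_V2 E hy

theorem bracket14_image {a b : Γ} (ha : a ∈ Y hD φ σ 14) (hb : b ∈ Y hD φ σ 18) :
    σ ⁅a, b⁆ ∈ (V2 hD φ σ).map σ := by
  have r14 : (14 : ℕ) ∈ d4Twist.reps := (len_eq.1 14 (by simp)).1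
  have r18 : (18 : ℕ) ∈ d4Twist.reps := (len_eq.2.1 18 (by simp)).1
  have h := bracket_high (hD := hD) (φ := φ) (h := 1) r14 r18 (by decide) (by decide) (by decide)
    (Y_le_pre E r14 ha) (Y_le_pre E r18 hb)
  rw [← map_commutatorElement] at h
  refine SetLike.le_def.1 (iSup₂_le fun r hr => ?_) h
  have ht : ∀ p ∈ d4Twist.reps, 2 ≤ d4Twist.ht p → p = 15 ∨ p = 17 ∨ p = 22 ∨ p = 23 := by decide +kernel
  rcases ht r.1 r.2 (by simpa using hr) with e | e | e | e <;> rw [e] <;>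
    exact Uo_le_map E (by simp) (Y_le_V.2 (by simp))

theorem conj14_V2 {x : Γ} (hx : x ∈ Y hD φ σ 14) : ∀ v ∈ V2 hD φ σ, x * v * x⁻¹ ∈ V2 hD φ σ := by
  have hs : ∀ {r : ℕ}, r ∈ ([15, 23, 17] : List ℕ) → ∀ v ∈ Y hD φ σ r, x * v * x⁻¹ ∈ V2 hD φ σ := by
    intro r hr v hv
    simp only [List.mem_cons, List.not_mem_nil, or_false] at hr
    rcases hr with rfl | rfl | rfl <;>
      exact mem_of_commute (Y_commute E (by simp) hx hv) (Y_le_V.2 (by simp) hv)
  refine conj_sup (fun v hv => hs (by simp) v hv) (conj_sup ?_ (conj_sup (fun v hv => hs (by simp) v hv)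
    (fun v hv => hs (by simp) v hv)))
  intro v hv
  refine (?_ : Y hD φ σ 22 ≤ (V2 hD φ σ).comap (MulAut.conj x).toMonoidHom) hv
  rw [Y_long (by simp), Subgroup.commutator_le]
  intro a ha b hb
  have haY : a ∈ Y hD φ σ 18 := by rw [Y_short (by simp)]; exact ha
  have hbY : b ∈ Y hD φ σ 17 := by rw [Y_short (by simp)]; exact hb
  show x * ⁅a, b⁆ * x⁻¹ ∈ V2 hD φ σ
  obtain ⟨w, hw, ew⟩ := bracket14_image E hx haY
  rw [show x * ⁅a, b⁆ * x⁻¹ = ⁅⁅x, a⁆ * a, x * b * x⁻¹⁆ by simp only [commutatorElement_def]; group,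
    Y_commute E (r := 14) (s := 17) (by simp) hx hbY, mul_inv_cancel_right,
    bracket_congr E.central (show σ (⁅x, a⁆ * a) = σ (w * a) by rw [map_mul, map_mul, ew]) rfl,
    show ⁅w * a, b⁆ = w * ⁅a, b⁆ * w⁻¹ * (w * b * w⁻¹ * b⁻¹) by simp only [commutatorElement_def]; group]
  have h1 : ⁅a, b⁆ ∈ V2 hD φ σ := Y_le_V.2 (by simp) (bracket22 haY hbY)
  have h2 : b ∈ V2 hD φ σ := Y_le_V.2 (by simp) hbY
  exact mul_mem (mul_mem (mul_mem hw h1) (inv_mem hw)) (mul_mem (mul_mem (mul_mem hw h2) (inv_mem hw)) (inv_mem h2))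

/-- The commutators of β and α lie in the lift of the higher roots. -/
theorem bracket14_18 {x y : Γ} (hx : x ∈ Y hD φ σ 14) (hy : y ∈ Y hD φ σ 18) : ⁅x, y⁆ ∈ V2 hD φ σ := by
  have r14 : (14 : ℕ) ∈ d4Twist.reps := (len_eq.1 14 (by simp)).1
  have r18 : (18 : ℕ) ∈ d4Twist.reps := (len_eq.2.1 18 (by simp)).1
  have l14 : d4Twist.len 14 = 1 := (len_eq.1 14 (by simp)).2
  have hex : ∀ t : fixA φ, ∃ g ∈ Y hD φ σ 14, σ g = orb hD d4Twist φ 14 t.1 := fun t =>
    (Y_map E r14).ge ((ctxD4 hD φ).orb_mem_Uo r14 (by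
      rw [show (ctxD4 hD φ).T.len 14 = 1 from l14]; exact t.2))
  choose la hla ela using hex
  choose lb hlb elb using fun t : K => exists_Ys E (r := 18) (by simp) t
  have hlbY : ∀ t, lb t ∈ Y hD φ σ 18 := fun t => by rw [Y_short (by simp)]; exact hlb t
  obtain ⟨a, ha, ea⟩ := eq_o r14 (Y_le_pre E r14 hx)
  obtain ⟨b, -, eb⟩ := eq_o r18 (Y_le_pre E r18 hy)
  rw [l14] at ha
  rw [show x = la ⟨a, ha⟩ from mul_inv_eq_one.1 (Y_inj E r14 _ (mul_mem hx (inv_mem (hla _)))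
      (by rw [map_mul, map_inv, ea, ela, mul_inv_cancel])),
    show y = lb b from mul_inv_eq_one.1 (Y_inj E r18 _ (mul_mem hy (inv_mem (hlbY b)))
      (by rw [map_mul, map_inv, eb, elb, mul_inv_cancel]))]
  refine bracket_mem_of_vanish E.central la lb (V2_inj E)
    (fun t t' => by rw [ela, ela, ela]; exact (ctxD4 hD φ).orb_add r14 t.1 t'.1)
    (fun t t' => by rw [elb, elb, elb]; exact (ctxD4 hD φ).orb_add r18 t t')
    (fun t => conj14_V2 E (hla t)) (fun t => conj18_V2 E (hlbY t))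
    (fun s t => bracket14_image E (hla s) (hlbY t)) (fun β _ hr hinv => ?_) ⟨a, ha⟩ b
  obtain ⟨X, hX, hlong, hshort⟩ := exists_fix_long hD φ E.hyp
  obtain ⟨g, hg, eg⟩ := exists_theta E hX
  refine pairing_zero_of_fix β hr (m := fun t => (chiX X 18 : K) * t) (fun t => ?_) (fun t u => ?_)
  · have hne : (chiX X 18 : K) - 1 ≠ 0 := sub_ne_zero.2 fun e => hshort 18 (by simp) (Units.ext e)
    exact ⟨t / ((chiX X 18 : K) - 1), by field_simp; ring⟩
  · refine hinv g id _ (H_normal_V hg).2 (fun t => ?_) (fun t => ?_) t u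
    · rw [map_mul, map_mul, map_inv, eg, ela, theta_conj_orb (ctxD4 hD φ) hX r14, hlong 14 (by simp),
        Units.val_one, one_mul]
      exact (ela t).symm
    · rw [map_mul, map_mul, map_inv, eg, elb, elb, theta_conj_orb (ctxD4 hD φ) hX r18]

/-- The lift of β normalises the lift of the other positive roots. -/
theorem conj14_V1 {x : Γ} (hx : x ∈ Y hD φ σ 14) : ∀ v ∈ V1 hD φ σ, x * v * x⁻¹ ∈ V1 hD φ σ :=
  conj_sup (fun v hv => by
      rw [show x * v * x⁻¹ = ⁅x, v⁆ * v by simp only [commutatorElement_def]; group]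
      exact mul_mem (Subgroup.mem_sup_right (bracket14_18 E hx hv)) (Subgroup.mem_sup_left hv))
    (fun v hv => Subgroup.mem_sup_right (conj14_V2 E hx v hv))

/-- The lift of α normalises the lift of the other positive roots. -/
theorem conj18_Vb {x : Γ} (hx : x ∈ Y hD φ σ 18) : ∀ v ∈ Vb hD φ σ, x * v * x⁻¹ ∈ Vb hD φ σ :=
  conj_sup (fun v hv => by
      rw [show x * v * x⁻¹ = ⁅v, x⁆⁻¹ * v by simp only [commutatorElement_def]; group]
      exact mul_mem (Subgroup.mem_sup_right (inv_mem (bracket14_18 E hv hx))) (Subgroup.mem_sup_left hv))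
    (fun v hv => Subgroup.mem_sup_right (conj18_V2 E hx v hv))

theorem Vall_inj : ∀ v ∈ Vall hD φ σ, σ v = 1 → v = 1 := by
  refine inj_step E (by simp) (by simp) sep_tables.2.2.2.2.2 ?_ (V1_inj E) fun _ hy => conj14_V1 E hy
  rw [V1, Subgroup.map_sup]
  refine sup_le (map_Y_le E (by simp) (by simp)) ((map_V2 E).trans (iSup₂_le fun s hs => ?_))
  exact le_biSup (fun s => (ctxD4 hD φ).Uo s)
    (show s ∈ {s | s ∈ ([18, 15, 22, 23, 17] : List ℕ)} from List.mem_cons_of_mem _ hs)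

end Ext

end Cfsg.Agent.TwistMult.D4
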