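/-
Central extensions of ³D₄(q): lifted root group data, and triviality of the kernel.

* `psi` : the lift of the rank one group of α; `hh` : the lifted torus;
* `liftData` : the lifted root group data; `ker_eq_bot`.
-/
import Cfsg.Agent.Lib.TwistMult.D4Pos
import Cfsg.Agent.Lib.TwistMult.Kernel
import Cfsg.Agent.Lib.Chev.SL2Hom

set_option autoImplicit false
set_option maxRecDepth 100000

namespace Cfsg.Agent.TwistMult.D4

open Cfsg.Lie Cfsg.Lie.ChevalleyDatum Cfsg.Agent.Chev Cfsg.Agent.TwistE6D4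
open Cfsg.Agent.ChevBN (mem_rootSubgroup)
open Cfsg.Agent.Chev.RankOne
open scoped commutatorElement MatrixGroups

universe u

/-- The simple orbit representatives. -/
def pr (a : Fin 2) : ℕ := chevD4.simple (d4Node a).val

/-- The negative simple orbit representatives. -/
def mr (a : Fin 2) : ℕ := chevD4.neg (chevD4.simple (d4Node a).val)

theorem simple_tables : pr 0 = 18 ∧ pr 1 = 14 ∧ mr 0 = 5 ∧ mr 1 = 9 ∧
    (∀ a, pr a ∈ d4Twist.reps ∧ mr a ∈ d4Twist.reps ∧ rOf (mr a) = mr a ∧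
      d4Twist.len (mr a) = d4Twist.len (pr a)) := by decide +kernel

theorem orbit_tables :
    (d4Twist.rho 18 = 13 ∧ d4Twist.rho 13 = 12 ∧ d4Twist.eps 18 = 1 ∧ d4Twist.eps 13 = 1) ∧
    (d4Twist.rho 5 = 10 ∧ d4Twist.rho 10 = 11 ∧ d4Twist.eps 5 = 1 ∧ d4Twist.eps 10 = 1) ∧
    chevD4.neg 18 = 5 ∧ chevD4.neg 13 = 10 ∧ chevD4.neg 12 = 11 ∧
    (∀ p ∈ ([18, 13, 12, 5, 10, 11] : List ℕ), p < chevD4.nroots) ∧
    (∀ p ∈ ([(18, 13), (18, 10), (5, 13), (5, 10), (18, 12), (18, 11), (5, 12), (5, 11), (13, 12), (13, 11), (10, 12),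
      (10, 11)] : List (ℕ × ℕ)), p.2 ≠ chevD4.neg p.1 ∧ chevD4.commTerms p.1 p.2 = []) := by
  decide +kernel

/-- A word making every positive orbit negative and every negative one positive. -/
def longWord : List (Fin 2) := [0, 1, 0, 1, 0, 1]

theorem long_tables : ∀ r ∈ d4Twist.reps,
    (¬ 0 < d4Twist.ht r → 0 < d4Twist.ht (wrL longWord r)) ∧ wrL longWord r ∈ d4Twist.reps ∧
    (0 < d4Twist.ht r → r ∈ posReps) := by decide +kernel

theorem pos_tables : (∀ s ∈ posReps, 0 < d4Twist.ht s) ∧ (∀ a, pr a ∉ ([22, 23, 17, 15] : List ℕ)) ∧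
    (∀ s ∈ ([22, 23, 17, 15] : List ℕ), s ∈ posReps) := by decide +kernel

variable {K : Type u} [Field K] (hD : Good chevD4) (φ : K →+* K)

local notation "o" => orb hD d4Twist φ

/-- The field automorphism on SL₂. -/
def slMap : SL(2, K) →* SL(2, K) := Matrix.SpecialLinearGroup.map φ

theorem slMap_X (t : K) : slMap φ (slX t) = slX (φ t) := by
  apply Subtype.ext
  ext i j
  fin_cases i <;> fin_cases j <;> first | exact map_one φ | exact map_zero φ | rfl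

theorem slMap_Y (t : K) : slMap φ (slY t) = slY (φ t) := by
  apply Subtype.ext
  ext i j
  fin_cases i <;> fin_cases j <;> first | exact map_one φ | exact map_zero φ | rfl

theorem part_commute {r s : ℕ} (hr : r < chevD4.nroots) (hs : s < chevD4.nroots)
    (hc : ∀ a ∈ ([r, chevD4.neg r] : List ℕ), ∀ b ∈ ([s, chevD4.neg s] : List ℕ),
      a < chevD4.nroots ∧ b < chevD4.nroots ∧ b ≠ chevD4.neg a ∧ chevD4.commTerms a b = [])
    (g h : SL(2, K)) : Commute (sl2Hom (F := K) hD hr g) (sl2Hom (F := K) hD hs h) := by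
  have hg : sl2Hom (F := K) hD hr g ∈ chevD4.rootSubgroup K r ⊔ chevD4.rootSubgroup K (chevD4.neg r) := by
    rw [← sl2Hom_range hD hr]; exact ⟨g, rfl⟩
  have hh : sl2Hom (F := K) hD hs h ∈ chevD4.rootSubgroup K s ⊔ chevD4.rootSubgroup K (chevD4.neg s) := by
    rw [← sl2Hom_range hD hs]; exact ⟨h, rfl⟩
  have key : ∀ a ∈ ([r, chevD4.neg r] : List ℕ), ∀ b ∈ ([s, chevD4.neg s] : List ℕ),
      ∀ x ∈ chevD4.rootSubgroup K a, ∀ y ∈ chevD4.rootSubgroup K b, x * y = y * x := by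
    intro a ha b hb x hx y hy
    obtain ⟨t, rfl⟩ := (mem_rootSubgroup hD a).1 hx
    obtain ⟨u, rfl⟩ := (mem_rootSubgroup hD b).1 hy
    obtain ⟨e1, e2, e3, e4⟩ := hc a ha b hb
    rw [xg_eq hD, xg_eq hD]
    exact commute_gx hD e1 e2 e3 e4 t u
  have hle : chevD4.rootSubgroup K r ⊔ chevD4.rootSubgroup K (chevD4.neg r) ≤
      Subgroup.centralizer {sl2Hom (F := K) hD hs h} := by
    refine sup_le ?_ ?_ <;>
    · intro x hx
      refine Subgroup.mem_centralizer_singleton_iff.2 ?_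
      have hle' : chevD4.rootSubgroup K s ⊔ chevD4.rootSubgroup K (chevD4.neg s) ≤ Subgroup.centralizer {x} :=
        sup_le (fun y hy => Subgroup.mem_centralizer_singleton_iff.2 (key _ (by simp) s (by simp) x hx y hy).symm)
          (fun y hy => Subgroup.mem_centralizer_singleton_iff.2 (key _ (by simp) _ (by simp) x hx y hy).symm)
      exact (Subgroup.mem_centralizer_singleton_iff.1 (hle' hh)).symm
  exact Subgroup.mem_centralizer_singleton_iff.1 (hle hg)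

/-- The rank one group of α. -/
noncomputable def phiA : SL(2, K) →* GL chevD4.Idx K :=
  MonoidHom.mk' (fun g =>
    sl2Hom hD (orbit_tables.2.2.2.2.2.1 18 (by simp)) g *
      sl2Hom hD (orbit_tables.2.2.2.2.2.1 13 (by simp)) (slMap φ g) *
      sl2Hom hD (orbit_tables.2.2.2.2.2.1 12 (by simp)) (slMap φ (slMap φ g)))
    (fun g h => by
      obtain ⟨-, -, n18, n13, n12, hlt, hc⟩ := orbit_tables
      have c : ∀ {r s r' s' : ℕ} (hr : r < chevD4.nroots) (hs : s < chevD4.nroots), chevD4.neg r = r' →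
          chevD4.neg s = s' → (∀ a ∈ ([r, r'] : List ℕ), a < chevD4.nroots) →
          (∀ b ∈ ([s, s'] : List ℕ), b < chevD4.nroots) →
          (∀ a ∈ ([r, r'] : List ℕ), ∀ b ∈ ([s, s'] : List ℕ), b ≠ chevD4.neg a ∧ chevD4.commTerms a b = []) →
          ∀ x y, Commute (sl2Hom (F := K) hD hr x) (sl2Hom (F := K) hD hs y) := by
        rintro r s r' s' hr hs rfl rfl hla hlb h x y
        exact part_commute hD hr hs (fun a ha b hb => ⟨hla a ha, hlb b hb, h a ha b hb⟩) x y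
      have c01 := c (hlt 18 (by simp)) (hlt 13 (by simp)) n18 n13
        (fun a ha => hlt a (by revert a; decide)) (fun a ha => hlt a (by revert a; decide))
        (fun a ha b hb => hc (a, b) (by revert a b; decide))
      have c02 := c (hlt 18 (by simp)) (hlt 12 (by simp)) n18 n12
        (fun a ha => hlt a (by revert a; decide)) (fun a ha => hlt a (by revert a; decide))
        (fun a ha b hb => hc (a, b) (by revert a b; decide))
      have c12 := c (hlt 13 (by simp)) (hlt 12 (by simp)) n13 n12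
        (fun a ha => hlt a (by revert a; decide)) (fun a ha => hlt a (by revert a; decide))
        (fun a ha b hb => hc (a, b) (by revert a b; decide))
      simp only [map_mul]
      have key : ∀ A A' B B' C C' : GL chevD4.Idx K, A' * B = B * A' → B' * C = C * B' → A' * C = C * A' →
          A * A' * (B * B') * (C * C') = A * B * C * (A' * B' * C') := by
        intro A A' B B' C C' e1 e2 e3
        calc A * A' * (B * B') * (C * C') = A * (A' * B) * (B' * C) * C' := by group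
          _ = A * B * (A' * C) * B' * C' := by rw [e1, e2]; group
          _ = _ := by rw [e3]; group
      exact key _ _ _ _ _ _ (c01 h (slMap φ g)).eq (c12 (slMap φ h) (slMap φ (slMap φ g))).eq
        (c02 h (slMap φ (slMap φ g))).eq)

theorem phiA_X (t : K) : phiA hD φ (slX t) = o 18 t := by
  obtain ⟨⟨a1, a2, b1, b2⟩, -⟩ := orbit_tables
  simp only [phiA, MonoidHom.mk'_apply]
  rw [slMap_X, slMap_X, sl2Hom_slX, sl2Hom_slX, sl2Hom_slX, xg_eq hD, xg_eq hD, xg_eq hD, orb,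
    (len_eq.2.1 18 (by simp)).2]
  simp [List.range_succ, cf, esgn, a1, a2, b1, b2, mul_assoc]

theorem phiA_Y (t : K) : phiA hD φ (slY t) = o 5 t := by
  obtain ⟨-, ⟨a1, a2, b1, b2⟩, n18, n13, n12, -⟩ := orbit_tables
  simp only [phiA, MonoidHom.mk'_apply]
  rw [slMap_Y, slMap_Y, sl2Hom_slY, sl2Hom_slY, sl2Hom_slY, n18, n13, n12, xg_eq hD, xg_eq hD, xg_eq hD, orb,
    (len_eq.2.1 5 (by simp)).2]
  simp [List.range_succ, cf, esgn, a1, a2, b1, b2, mul_assoc]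

variable [Fintype K] {q : ℕ} {Γ : Type u} [Group Γ] [Finite Γ] (σ : Γ →* GL chevD4.Idx K)

open Classical in
/-- The chosen lift of a root element. -/
noncomputable def yl (r : ℕ) (t : K) : Γ :=
  if h : ∃ g ∈ Y hD φ σ r, σ g = o r t then Classical.choose h else 1

/-- The lift of a representative of a simple reflection. -/
noncomputable def nh (a : Fin 2) (t : K) : Γ :=
  yl hD φ σ (pr a) t * yl hD φ σ (mr a) (-t⁻¹) * yl hD φ σ (pr a) t

/-- The lifted torus elements. -/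
noncomputable def hh (a : Fin 2) (t : Kˣ) : Γ := nh hD φ σ a (t : K) * (nh hD φ σ a 1)⁻¹

variable {hD φ σ} (E : Ext hD φ q σ)
include E

theorem exists_yl {r : ℕ} (hr : r ∈ d4Twist.reps) {t : K} (ht : (⇑φ)^[d4Twist.len r] t = t) :
    ∃ g ∈ Y hD φ σ r, σ g = o r t :=
  (Y_map E hr).ge ((ctxD4 hD φ).orb_mem_Uo hr ht)

theorem yl_spec {r : ℕ} (hr : r ∈ d4Twist.reps) {t : K} (ht : (⇑φ)^[d4Twist.len r] t = t) :
    yl hD φ σ r t ∈ Y hD φ σ r ∧ σ (yl hD φ σ r t) = o r t := by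
  unfold yl
  rw [dif_pos (exists_yl E hr ht)]
  exact Classical.choose_spec (exists_yl E hr ht)

theorem yl_unique {r : ℕ} (hr : r ∈ d4Twist.reps) {t : K} (ht : (⇑φ)^[d4Twist.len r] t = t) {g : Γ}
    (hg : g ∈ Y hD φ σ r) (e : σ g = o r t) : g = yl hD φ σ r t :=
  mul_inv_eq_one.1 (Y_inj E hr _ (mul_mem hg (inv_mem (yl_spec E hr ht).1))
    (by rw [map_mul, map_inv, e, (yl_spec E hr ht).2, mul_inv_cancel]))

theorem iter_simple (a : Fin 2) (t : K) : ((ctxD4 hD φ).Pm a t ↔ (⇑φ)^[d4Twist.len (pr a)] t = t) ∧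
    ((⇑φ)^[d4Twist.len (mr a)] t = t ↔ (⇑φ)^[d4Twist.len (pr a)] t = t) :=
  ⟨Iff.rfl, by rw [(simple_tables.2.2.2.2 a).2.2.2]⟩

theorem pm_negInv {a : Fin 2} {t : K} (ht : (ctxD4 hD φ).Pm a t) :
    (⇑φ)^[d4Twist.len (mr a)] (-t⁻¹) = -t⁻¹ :=
  (iter_simple E a _).2.2 ((ctxD4 hD φ).Pm_negInv ht)

theorem map_nh {a : Fin 2} {t : K} (ht : (ctxD4 hD φ).Pm a t) :
    σ (nh hD φ σ a t) = (ctxD4 hD φ).ns a t := by
  obtain ⟨h1, h2, -⟩ := simple_tables.2.2.2.2 a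
  rw [nh, map_mul, map_mul, (yl_spec E h1 (show _ = _ from ht)).2, (yl_spec E h2 (pm_negInv E ht)).2,
    (ctxD4 hD φ).ns_eq, (ctxD4 hD φ).op_eq, (ctxD4 hD φ).om_eq]
  rfl

omit [Fintype K] [Group Γ] [Finite Γ] E in
theorem chiX_mr {x : Fin chevD4.rank → Kˣ} (a : Fin 2) (hD : Good chevD4) :
    chiX x (mr a) = (chiX x (pr a))⁻¹ := by
  rw [chiX, chiX, ← Finset.prod_inv_distrib]
  refine Finset.prod_congr rfl fun i _ => ?_
  rw [mr, hD.cartan_neg _ (hD.simple_lt _ (d4Node a).isLt) i.val i.isLt, zpow_neg]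
  rfl

theorem conj_yl {g : Γ} {x : Fin chevD4.rank → Kˣ} (hx : x ∈ TorSym d4Twist φ)
    (eg : σ g = theta chevD4 K x) {r : ℕ} (hr : r ∈ d4Twist.reps) {t : K} (ht : (⇑φ)^[d4Twist.len r] t = t) :
    g * yl hD φ σ r t * g⁻¹ = yl hD φ σ r ((chiX x r : K) * t) := by
  have hg : g ∈ preH hD φ σ := show σ g ∈ (ctxD4 hD φ).H0 by rw [eg]; exact ⟨x, hx, rfl⟩
  obtain ⟨h1, h2⟩ := yl_spec E hr ht
  have hmem : g * yl hD φ σ r t * g⁻¹ ∈ Y hD φ σ r := (map_Y_H hg hr).le ⟨_, h1, rfl⟩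
  have e : σ (g * yl hD φ σ r t * g⁻¹) = o r ((chiX x r : K) * t) := by
    rw [map_mul, map_mul, map_inv, eg, h2]
    exact theta_conj_orb (ctxD4 hD φ) hx hr t
  obtain ⟨u, hu, eu⟩ := eq_o hr (Y_le_pre E hr hmem)
  have : u = (chiX x r : K) * t := (ctxD4 hD φ).orb_inj hr (eu.symm.trans e)
  rw [this] at hu
  exact yl_unique E hr hu hmem e

theorem conj_nh {g : Γ} {x : Fin chevD4.rank → Kˣ} (hx : x ∈ TorSym d4Twist φ)
    (eg : σ g = theta chevD4 K x) {a : Fin 2} {t : K} (ht : (ctxD4 hD φ).Pm a t) :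
    g * nh hD φ σ a t * g⁻¹ = nh hD φ σ a ((chiX x (pr a) : K) * t) := by
  obtain ⟨h1, h2, -⟩ := simple_tables.2.2.2.2 a
  rw [nh, nh, show g * (yl hD φ σ (pr a) t * yl hD φ σ (mr a) (-t⁻¹) * yl hD φ σ (pr a) t) * g⁻¹ =
    g * yl hD φ σ (pr a) t * g⁻¹ * (g * yl hD φ σ (mr a) (-t⁻¹) * g⁻¹) * (g * yl hD φ σ (pr a) t * g⁻¹) by group,
    conj_yl E hx eg h1 (show _ = _ from ht), conj_yl E hx eg h2 (pm_negInv E ht), chiX_mr a hD,
    Units.val_inv_eq_inv_val, mul_inv, mul_neg]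

theorem pm_chi {x : Fin chevD4.rank → Kˣ} (hx : x ∈ TorSym d4Twist φ) (a : Fin 2) :
    (ctxD4 hD φ).Pm a (chiX x (pr a) : K) := by
  show (⇑φ)^[(ctxD4 hD φ).L a] ((chiX x ((ctxD4 hD φ).p a) : Kˣ) : K) = (chiX x ((ctxD4 hD φ).p a) : K)
  rw [← (ctxD4 hD φ).coe_itU, ← (ctxD4 hD φ).chiX_rk hx a, (ctxD4 hD φ).rk_len a]

theorem nh_one_inv (a : Fin 2) : nh hD φ σ a (-1) = (nh hD φ σ a 1)⁻¹ := by
  obtain ⟨h1, h2, -⟩ := simple_tables.2.2.2.2 a
  have p1 : (⇑φ)^[d4Twist.len (pr a)] (1 : K) = 1 := (ctxD4 hD φ).Pm_one a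
  have n1 : (⇑φ)^[d4Twist.len (pr a)] (-1 : K) = -1 := (ctxD4 hD φ).Pm_neg ((ctxD4 hD φ).Pm_one a)
  have p2 : (⇑φ)^[d4Twist.len (mr a)] (1 : K) = 1 := (iter_simple E a 1).2.2 p1
  have n2 : (⇑φ)^[d4Twist.len (mr a)] (-1 : K) = -1 := (iter_simple E a _).2.2 n1
  have hinv : ∀ {r}, r ∈ d4Twist.reps → (⇑φ)^[d4Twist.len r] (1 : K) = 1 → (⇑φ)^[d4Twist.len r] (-1 : K) = -1 →
      (yl hD φ σ r (1 : K))⁻¹ = yl hD φ σ r (-1) := by
    intro r hr e1 e2
    refine yl_unique E hr e2 (inv_mem (yl_spec E hr e1).1) ?_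
    rw [map_inv, (yl_spec E hr e1).2]
    refine inv_eq_of_mul_eq_one_right ?_
    rw [← (ctxD4 hD φ).orb_add hr, add_neg_cancel]
    exact (ctxD4 hD φ).orb_zero r
  rw [nh, nh, mul_inv_rev, mul_inv_rev, hinv h1 p1 n1]
  simp only [inv_neg, inv_one, _root_.neg_neg, ← hinv h2 p2 n2, inv_inv, mul_assoc]

theorem map_hh {a : Fin 2} {t : Kˣ} (ht : (ctxD4 hD φ).Pm a (t : K)) :
    σ (hh hD φ σ a t) = theta chevD4 K ((ctxD4 hD φ).torVec a t) := by
  rw [hh, map_mul, map_inv, map_nh E ht, map_nh E ((ctxD4 hD φ).Pm_one a)]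
  have e := (ctxD4 hD φ).ns_inv a 1
  rw [Units.val_one] at e
  rw [e, (ctxD4 hD φ).ns_mul_ns]
  simp

theorem hh_mem_preH {a : Fin 2} {t : Kˣ} (ht : (ctxD4 hD φ).Pm a (t : K)) : hh hD φ σ a t ∈ preH hD φ σ := by
  show σ _ ∈ (ctxD4 hD φ).H0
  rw [map_hh E ht]
  exact ⟨_, (ctxD4 hD φ).torVec_mem a ht, rfl⟩

/-- The lift of the rank one group of α. -/
theorem exists_psi : ∃ ψ : SL(2, K) →* Γ, (∀ t, ψ (slX t) = yl hD φ σ 18 t) ∧ (∀ t, ψ (slY t) = yl hD φ σ 5 t) := by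
  have h8 : 8 ≤ Fintype.card K := by
    rw [E.hyp.card]
    exact le_trans (by norm_num) (Nat.pow_le_pow_left (show 2 ≤ q from E.hyp.one_lt) 3)
  have h9 : Fintype.card K ≠ 9 := by
    rw [E.hyp.card]
    intro e
    have := E.hyp.one_lt
    rcases Nat.lt_or_ge q 3 with h | h
    · interval_cases q; norm_num at e
    · have := Nat.pow_le_pow_left h 3
      omega
  have r18 : (18 : ℕ) ∈ d4Twist.reps := (len_eq.2.1 18 (by simp)).1
  have r5 : (5 : ℕ) ∈ d4Twist.reps := (len_eq.2.1 5 (by simp)).1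
  have hrange : ∀ g, ∃ x, σ x = phiA hD φ g := by
    intro g
    have hx : ∀ t, phiA hD φ (slX t) ∈ σ.range := fun t => by
      rw [phiA_X]; obtain ⟨x, -, e⟩ := exists_short E (r := 18) (by simp) t; exact ⟨x, e⟩
    have hy : ∀ t, phiA hD φ (slY t) ∈ σ.range := fun t => by
      rw [phiA_Y]; obtain ⟨x, -, e⟩ := exists_short E (r := 5) (by simp) t; exact ⟨x, e⟩
    have hne : ∀ g : SL(2, K), g.1 1 0 ≠ 0 → phiA hD φ g ∈ σ.range := fun g hc => by
      rw [eq_xyx g hc, map_mul, map_mul]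
      exact mul_mem (mul_mem (hx _) (hy _)) (hx _)
    by_cases hc : g.1 1 0 = 0
    · have h1 : (g * slY 1).1 1 0 ≠ 0 := by rw [mul_slY_c g hc]; exact (ne_zero_of_c g hc).2
      have h2 := hne _ h1
      rw [map_mul] at h2
      exact (Subgroup.mul_mem_cancel_right _ (hy 1)).1 h2
    · exact hne g hc
  obtain ⟨ψ, hψ⟩ := exists_sl2_lift (F := K) (by omega) h9 E.central (phiA hD φ) hrange
  have hσ : ∀ g, σ (ψ g) = phiA hD φ g := fun g => DFunLike.congr_fun hψ g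
  obtain ⟨d, hd⟩ := exists_unit_sq_ne_one K (by omega)
  let Dg : SL(2, K) := slX (d : K) * slY (-(d : K)⁻¹) * slX (d : K) * (slX (1 : K) * slY (-1) * slX 1)⁻¹
  have hns : ∀ t : Kˣ, phiA hD φ (slX (t : K) * slY (-(t : K)⁻¹) * slX (t : K)) = (ctxD4 hD φ).ns (0 : Fin 2) (t : K) := by
    intro t
    rw [map_mul, map_mul, phiA_X, phiA_Y, (ctxD4 hD φ).ns_eq, (ctxD4 hD φ).op_eq, (ctxD4 hD φ).om_eq]
    rw [show (ctxD4 hD φ).p (0 : Fin 2) = 18 from simple_tables.1,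
      show chevD4.neg 18 = 5 from orbit_tables.2.2.1]
  have hPm : ∀ t : K, (ctxD4 hD φ).Pm (0 : Fin 2) t := fun t => hyp_Pm E.hyp (a := (0 : Fin 2)) (d4_len 0) t
  have hDg : ψ Dg ∈ preH hD φ σ := by
    show σ (ψ Dg) ∈ (ctxD4 hD φ).H0
    have h1 := hns 1
    rw [Units.val_one, inv_one] at h1
    rw [hσ, map_mul, hns, map_inv, h1, ← map_nh E (hPm _), ← map_nh E (hPm 1), ← map_inv, ← map_mul]
    exact hh_mem_preH E (a := (0 : Fin 2)) (t := d) (hPm _)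
  have hXeq : ∀ (t' : K), Dg * slX t' * Dg⁻¹ = slX ((d : K) * d * t') ∧
      Dg * slY t' * Dg⁻¹ = slY (((d : K) * d)⁻¹ * t') := by
    intro t'
    have hd0 : (d : K) ≠ 0 := d.ne_zero
    constructor <;> rw [mul_inv_eq_iff_eq_mul] <;> apply Subtype.ext <;>
      simp only [Dg, Matrix.SpecialLinearGroup.coe_mul, Matrix.SpecialLinearGroup.coe_inv] <;>
      ext i j <;> fin_cases i <;> fin_cases j <;>
      simp [slX, slY, Matrix.mul_apply, Fin.sum_univ_two, Matrix.adjugate_fin_two] <;> field_simp <;> ring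
  have hd1 : (d : K) * d - 1 ≠ 0 := sub_ne_zero.2 fun e => hd (Units.ext e)
  have hd2 : ((d : K) * d)⁻¹ - 1 ≠ 0 := sub_ne_zero.2 fun e => hd (Units.ext (inv_eq_one.1 e))
  refine ⟨ψ, fun t => yl_unique E r18 (iter_len hD φ E.hyp (by simp) t) ?_ (by rw [hσ, phiA_X]),
    fun t => yl_unique E r5 (iter_len hD φ E.hyp (by simp) t) ?_ (by rw [hσ, phiA_Y])⟩
  · rw [Y_short (by simp)]
    have e : slX t = ⁅Dg, slX (t / ((d : K) * d - 1))⁆ := by
      have hkey : ((d : K) * d - 1) * (t / ((d : K) * d - 1)) = t := mul_div_cancel₀ t hd1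
      rw [commutatorElement_def, (hXeq _).1, eq_mul_inv_iff_mul_eq]
      apply Subtype.ext
      simp only [Matrix.SpecialLinearGroup.coe_mul]
      ext i j
      fin_cases i <;> fin_cases j <;> simp [slX, Matrix.mul_apply, Fin.sum_univ_two]
      linear_combination -hkey
    rw [e, map_commutatorElement]
    refine Subgroup.commutator_mem_commutator hDg ?_
    show σ (ψ _) ∈ (ctxD4 hD φ).Uo 18
    rw [hσ, phiA_X]
    exact (ctxD4 hD φ).orb_mem_Uo r18 (iter_len hD φ E.hyp (by simp) _)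
  · rw [Y_short (by simp)]
    have e : slY t = ⁅Dg, slY (t / (((d : K) * d)⁻¹ - 1))⁆ := by
      have hkey : (((d : K) * d)⁻¹ - 1) * (t / (((d : K) * d)⁻¹ - 1)) = t := mul_div_cancel₀ t hd2
      rw [commutatorElement_def, (hXeq _).2, eq_mul_inv_iff_mul_eq]
      apply Subtype.ext
      simp only [Matrix.SpecialLinearGroup.coe_mul]
      ext i j
      fin_cases i <;> fin_cases j <;> simp [slY, Matrix.mul_apply, Fin.sum_univ_two]
      simp only [mul_inv] at hkey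
      linear_combination -hkey
    rw [e, map_commutatorElement]
    refine Subgroup.commutator_mem_commutator hDg ?_
    show σ (ψ _) ∈ (ctxD4 hD φ).Uo 5
    rw [hσ, phiA_Y]
    exact (ctxD4 hD φ).orb_mem_Uo r5 (iter_len hD φ E.hyp (by simp) _)

theorem hh0_mul (s t : Kˣ) : hh hD φ σ 0 (s * t) = hh hD φ σ 0 s * hh hD φ σ 0 t := by
  obtain ⟨ψ, hX, hY⟩ := exists_psi E
  let n : K → SL(2, K) := fun s => slX s * slY (-s⁻¹) * slX s
  have hn : ∀ s : K, nh hD φ σ 0 s = ψ (n s) := fun s => by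
    rw [nh, simple_tables.1, simple_tables.2.2.1, ← hX, ← hY, ← map_mul, ← map_mul]
  have hmul : n ((s * t : Kˣ) : K) * (n 1)⁻¹ = n (s : K) * (n 1)⁻¹ * (n (t : K) * (n 1)⁻¹) := by
    have e : ∀ u : Kˣ, (n (u : K) * (n 1)⁻¹ : SL(2, K)).1 = !![(u : K), 0; 0, (u : K)⁻¹] := fun u => by
      have hu : (u : K) ≠ 0 := u.ne_zero
      simp only [n, Matrix.SpecialLinearGroup.coe_mul, Matrix.SpecialLinearGroup.coe_inv]
      ext i j
      fin_cases i <;> fin_cases j <;>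
        simp [slX, slY, Matrix.mul_apply, Fin.sum_univ_two, Matrix.adjugate_fin_two, hu]
    apply Subtype.ext
    rw [Matrix.SpecialLinearGroup.coe_mul (n (s : K) * (n 1)⁻¹), e, e, e]
    ext i j
    fin_cases i <;> fin_cases j <;> simp [Matrix.mul_apply, Fin.sum_univ_two, mul_comm]
  rw [hh, hh, hh, hn, hn, hn, hn, ← map_inv, ← map_mul, ← map_mul, ← map_mul, ← map_mul, hmul]

theorem pm0 (t : K) : (ctxD4 hD φ).Pm (0 : Fin 2) t := hyp_Pm E.hyp (a := (0 : Fin 2)) (d4_len 0) t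

theorem pm1 {t : K} : (ctxD4 hD φ).Pm (1 : Fin 2) t ↔ φ t = t := by
  show (⇑φ)^[d4Twist.len (pr 1)] t = t ↔ _
  rw [simple_tables.2.1, (len_eq.1 14 (by simp)).2]
  rfl

/-- The torus centralises the lifted elements of α. -/
theorem centralize_hh0 {g : Γ} (hg : g ∈ preH hD φ σ) (t : Kˣ) : g * hh hD φ σ 0 t = hh hD φ σ 0 t * g := by
  obtain ⟨x, hx, eg⟩ := theta_of_preH hg
  have e : g * hh hD φ σ 0 t * g⁻¹ = hh hD φ σ 0 t := by
    rw [hh, show g * (nh hD φ σ 0 (t : K) * (nh hD φ σ 0 1)⁻¹) * g⁻¹ =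
      g * nh hD φ σ 0 (t : K) * g⁻¹ * (g * nh hD φ σ 0 1 * g⁻¹)⁻¹ by group, conj_nh E hx eg (pm0 E _),
      conj_nh E hx eg (pm0 E _), mul_one, ← Units.val_mul]
    have e1 := hh0_mul E (chiX x (pr 0)) t
    simp only [hh] at e1
    have e2 : nh hD φ σ 0 ((chiX x (pr 0) * t : Kˣ) : K) * (nh hD φ σ 0 (chiX x (pr 0) : K))⁻¹ =
        nh hD φ σ 0 ((chiX x (pr 0) * t : Kˣ) : K) * (nh hD φ σ 0 1)⁻¹ *
          (nh hD φ σ 0 (chiX x (pr 0) : K) * (nh hD φ σ 0 1)⁻¹)⁻¹ := by group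
    rw [e2, mul_comm (chiX x (pr 0)) t] at *
    have e3 := hh0_mul E t (chiX x (pr 0))
    simp only [hh] at e3
    rw [e3, mul_inv_cancel_right]
  conv_rhs => rw [← e]
  group

/-- Conjugating a lifted torus element of α by the representative of β. -/
theorem twist_mem (u : Kˣ) :
    nh hD φ σ 1 1 * hh hD φ σ 0 u * (nh hD φ σ 1 1)⁻¹ ∈ preH hD φ σ := by
  have h := (map_H_N (g := nh hD φ σ 1 1) (a := (1 : Fin 2)) (map_nh E ((ctxD4 hD φ).Pm_one _))).le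
    ⟨_, hh_mem_preH E (a := (0 : Fin 2)) (t := u) (pm0 E _), rfl⟩
  exact h

theorem hh1_eq (u : Kˣ) : hh hD φ σ 1 (chiX ((ctxD4 hD φ).torVec (0 : Fin 2) u) 14) =
    hh hD φ σ 0 u * (nh hD φ σ 1 1 * hh hD φ σ 0 u * (nh hD φ σ 1 1)⁻¹)⁻¹ := by
  have hx := (ctxD4 hD φ).torVec_mem (0 : Fin 2) (t := u) (pm0 E _)
  have e := conj_nh E hx (map_hh E (pm0 E (u : K))) (a := (1 : Fin 2)) (t := 1) ((ctxD4 hD φ).Pm_one _)
  rw [mul_one, simple_tables.2.1] at e
  rw [hh, ← e]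
  group

theorem chi14_torVec (u : Kˣ) : chiX ((ctxD4 hD φ).torVec (0 : Fin 2) u) 14 =
    (u * Units.map (φ : K →* K) u * Units.map (φ : K →* K) (Units.map (φ : K →* K) u))⁻¹ := by
  have hx := (ctxD4 hD φ).torVec_mem (0 : Fin 2) (t := u) (pm0 E _)
  have h0 : four ((ctxD4 hD φ).torVec (0 : Fin 2) u) 0 = u := by
    have := (ctxD4 hD φ).torVec_apply (0 : Fin 2) (0 : Fin 2) u (l := 0) ((ctxD4 hD φ).L_pos _)
    rw [if_pos rfl, (ctxD4 hD φ).itU_zero] at this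
    exact this
  have h1 : four ((ctxD4 hD φ).torVec (0 : Fin 2) u) 1 = 1 := by
    have := (ctxD4 hD φ).torVec_apply (0 : Fin 2) (1 : Fin 2) u (l := 0) ((ctxD4 hD φ).L_pos _)
    rw [if_neg (fun h => absurd (congrArg Fin.val h) (Nat.zero_ne_one))] at this
    exact this
  rw [chi_rep φ hx, h0, h1, chi_eval φ (L := [-1, 2, -1, -1]) (by simp)]
  simp [mul_comm, mul_left_comm, mul_assoc]

theorem hh1_mul {s t : Kˣ} (hs : φ (s : K) = s) (ht : φ (t : K) = t) :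
    hh hD φ σ 1 (s * t) = hh hD φ σ 1 s * hh hD φ σ 1 t := by
  have hfix : ∀ {c : Kˣ}, φ (c : K) = c → ∃ u, chiX ((ctxD4 hD φ).torVec (0 : Fin 2) u) 14 = c := fun {c} hc => by
    obtain ⟨u, hu⟩ := exists_norm hD φ E.hyp (c := c⁻¹) (Units.ext (by
      show φ ((c⁻¹ : Kˣ) : K) = _
      rw [Units.val_inv_eq_inv_val, map_inv₀, hc]))
    exact ⟨u, by rw [chi14_torVec E, hu, inv_inv]⟩
  obtain ⟨u, rfl⟩ := hfix hs
  obtain ⟨v, rfl⟩ := hfix ht
  have hm : chiX ((ctxD4 hD φ).torVec (0 : Fin 2) u) 14 * chiX ((ctxD4 hD φ).torVec (0 : Fin 2) v) 14 =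
      chiX ((ctxD4 hD φ).torVec (0 : Fin 2) (u * v)) 14 := by
    rw [chi14_torVec E, chi14_torVec E, chi14_torVec E, map_mul, map_mul, ← mul_inv]
    congr 1
    ac_rfl
  rw [hm, hh1_eq E, hh1_eq E, hh1_eq E, hh0_mul E]
  set N := nh hD φ σ 1 1
  set a := hh hD φ σ 0 u
  set b := hh hD φ σ 0 v
  have hab : (N * a * N⁻¹) * (N * b * N⁻¹) = (N * b * N⁻¹) * (N * a * N⁻¹) := by
    have := centralize_hh0 E (hh_mem_preH E (a := (0 : Fin 2)) (t := v) (pm0 E _)) u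
    calc (N * a * N⁻¹) * (N * b * N⁻¹) = N * (a * b) * N⁻¹ := by group
      _ = N * (b * a) * N⁻¹ := by rw [this]
      _ = _ := by group
  have hb : (N * a * N⁻¹)⁻¹ * b = b * (N * a * N⁻¹)⁻¹ := centralize_hh0 E (inv_mem (twist_mem E u)) v
  calc a * b * (N * (a * b) * N⁻¹)⁻¹ = a * b * ((N * a * N⁻¹) * (N * b * N⁻¹))⁻¹ := by group
    _ = a * (b * (N * a * N⁻¹)⁻¹) * (N * b * N⁻¹)⁻¹ := by rw [hab]; group
    _ = _ := by rw [← hb]; group

theorem centralize_hh1 {g : Γ} (hg : g ∈ preH hD φ σ) {t : Kˣ} (ht : φ (t : K) = t) :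
    g * hh hD φ σ 1 t = hh hD φ σ 1 t * g := by
  obtain ⟨x, hx, eg⟩ := theta_of_preH hg
  have hc : φ (chiX x (pr 1) : K) = (chiX x (pr 1) : K) := (pm1 E).1 (pm_chi E hx 1)
  have e : g * hh hD φ σ 1 t * g⁻¹ = hh hD φ σ 1 t := by
    rw [hh, show g * (nh hD φ σ 1 (t : K) * (nh hD φ σ 1 1)⁻¹) * g⁻¹ =
      g * nh hD φ σ 1 (t : K) * g⁻¹ * (g * nh hD φ σ 1 1 * g⁻¹)⁻¹ by group,
      conj_nh E hx eg ((pm1 E).2 ht), conj_nh E hx eg ((ctxD4 hD φ).Pm_one _), mul_one, ← Units.val_mul,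
      mul_comm (chiX x (pr 1)) t]
    have e3 := hh1_mul E ht hc
    simp only [hh] at e3
    calc nh hD φ σ 1 ((t * chiX x (pr 1) : Kˣ) : K) * (nh hD φ σ 1 (chiX x (pr 1) : K))⁻¹
        = nh hD φ σ 1 ((t * chiX x (pr 1) : Kˣ) : K) * (nh hD φ σ 1 1)⁻¹ *
          (nh hD φ σ 1 (chiX x (pr 1) : K) * (nh hD φ σ 1 1)⁻¹)⁻¹ := by group
      _ = _ := by rw [e3, mul_inv_cancel_right]
  conv_rhs => rw [← e]
  group

/-- The lifted torus. -/
noncomputable def torLift : ↥(TorSym d4Twist φ) →* Γ :=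
  MonoidHom.mk' (fun x => hh hD φ σ 0 (four x.1 0) * hh hD φ σ 1 (four x.1 1)) (fun x y => by
    have hy : φ ((four y.1 1 : Kˣ) : K) = _ := congrArg Units.val (torSym_coords φ y.2).2.2
    have hx : φ ((four x.1 1 : Kˣ) : K) = _ := congrArg Units.val (torSym_coords φ x.2).2.2
    show hh hD φ σ 0 (four x.1 0 * four y.1 0) * hh hD φ σ 1 (four x.1 1 * four y.1 1) = _
    rw [hh0_mul E, hh1_mul E hx hy]
    have := centralize_hh0 E (hh_mem_preH E (a := (1 : Fin 2)) (t := four x.1 1) ((pm1 E).2 hx)) (four y.1 0)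
    calc hh hD φ σ 0 (four x.1 0) * hh hD φ σ 0 (four y.1 0) *
        (hh hD φ σ 1 (four x.1 1) * hh hD φ σ 1 (four y.1 1))
        = hh hD φ σ 0 (four x.1 0) * (hh hD φ σ 0 (four y.1 0) * hh hD φ σ 1 (four x.1 1)) *
          hh hD φ σ 1 (four y.1 1) := by group
      _ = _ := by rw [← this]; group)

theorem four_torVec (a : Fin 2) (t : Kˣ) :
    four ((ctxD4 hD φ).torVec a t) 0 = (if a = 0 then t else 1) ∧
    four ((ctxD4 hD φ).torVec a t) 1 = (if a = 1 then t else 1) := by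
  constructor
  · have := (ctxD4 hD φ).torVec_apply a (0 : Fin 2) t (l := 0) ((ctxD4 hD φ).L_pos _)
    rw [(ctxD4 hD φ).itU_zero] at this
    exact this
  · have := (ctxD4 hD φ).torVec_apply a (1 : Fin 2) t (l := 0) ((ctxD4 hD φ).L_pos _)
    rw [(ctxD4 hD φ).itU_zero] at this
    exact this

theorem map_torLift (x : ↥(TorSym d4Twist φ)) : σ (torLift E x) = theta chevD4 K x.1 := by
  obtain ⟨h2, h3, h1⟩ := torSym_coords φ x.2
  show σ (_ * _) = _
  rw [map_mul, map_hh E (a := (0 : Fin 2)) (pm0 E _), map_hh E (a := (1 : Fin 2)) ((pm1 E).2 (congrArg Units.val h1)),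
    ← map_mul]
  congr 1
  funext i
  obtain ⟨b, l, hl, rfl⟩ := (ctxD4 hD φ).nd_surj i
  rw [Pi.mul_apply, (ctxD4 hD φ).torVec_apply (0 : Fin 2) b _ hl, (ctxD4 hD φ).torVec_apply (1 : Fin 2) b _ hl]
  have hit : ∀ l, x.1 ((ctxD4 hD φ).nd b l) = (ctxD4 hD φ).itU l (x.1 ((ctxD4 hD φ).node b)) := fun l => by
    induction l with
    | zero => exact ((ctxD4 hD φ).itU_zero _).symm
    | succ l ih =>
      rw [show (ctxD4 hD φ).nd b (l + 1) = (ctxD4 hD φ).T.pi ((ctxD4 hD φ).nd b l) by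
        simp only [Ctx.nd, Function.iterate_succ_apply'], x.2 _, ih, (ctxD4 hD φ).itU_succ]
  rw [hit]
  revert b
  show ∀ b : Fin 2, _
  refine Fin.forall_fin_two.2 ⟨fun _ _ => ?_, fun _ _ => ?_⟩
  · rw [if_pos rfl, if_neg (fun h => absurd (congrArg Fin.val h) Nat.one_ne_zero), mul_one]; rfl
  · rw [if_neg (fun h => absurd (congrArg Fin.val h) Nat.zero_ne_one), if_pos rfl, one_mul]; rfl

theorem hh_mem_range {a : Fin 2} {t : Kˣ} (ht : (ctxD4 hD φ).Pm a (t : K)) :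
    hh hD φ σ a t ∈ (torLift E).range := by
  refine ⟨⟨_, (ctxD4 hD φ).torVec_mem a ht⟩, ?_⟩
  show hh hD φ σ 0 (four ((ctxD4 hD φ).torVec a t) 0) * hh hD φ σ 1 (four ((ctxD4 hD φ).torVec a t) 1) = _
  obtain ⟨e0, e1⟩ := four_torVec E a t
  rw [e0, e1]
  have h1 : ∀ b : Fin 2, hh hD φ σ b (1 : Kˣ) = 1 := fun b => by simp [hh]
  fin_cases a <;> simp [h1]

theorem range_le_preH : (torLift E).range ≤ preH hD φ σ := by
  rintro _ ⟨x, rfl⟩
  show σ _ ∈ (ctxD4 hD φ).H0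
  rw [map_torLift E]
  exact ⟨_, x.2, rfl⟩

theorem torLift_inj : ∀ g ∈ (torLift E).range, σ g = 1 → g = 1 := by
  rintro _ ⟨x, rfl⟩ h1
  rw [map_torLift E] at h1
  have hq : IsPrimePow q := by
    obtain ⟨p, hp⟩ := CharP.exists K
    obtain ⟨n, hpp, hn⟩ := FiniteField.card K p
    rw [E.hyp.card] at hn
    exact (isPrimePow_pow_iff three_ne_zero).1 (hn ▸ ⟨p, n, Nat.prime_iff.1 hpp, n.pos, rfl⟩)
  have hc := Ctx.card_TorSym_eq E.hyp
  have hd := card_diag_D4 hD hq E.hyp.card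
  rw [twistedD4_eq hD E.hyp.pow E.hyp.card, (ctxD4 hD φ).diagonal_inf_G0 ChevBN.rootsD4] at hd
  rw [Ctx.card_TorSym E.hyp] at hc
  have hprod : ∏ a : Fin (ctxD4 hD φ).m, (q ^ (ctxD4 hD φ).L a - 1) = (q - 1) ^ 2 * (q ^ 2 + q + 1) := by
    show ∏ a : Fin 2, (q ^ d4Twist.len (chevD4.simple (d4Node a).val) - 1) = _
    simp only [d4_len, Fin.prod_univ_two]
    norm_num
    obtain ⟨k, rfl⟩ : ∃ k, q = k + 1 := ⟨q - 1, by have := E.hyp.one_lt; omega⟩
    rw [show (k + 1) ^ 3 = (1 + (k + 1) + (k + 1) * (k + 1)) * k + 1 by ring, Nat.add_sub_cancel, Nat.add_sub_cancel]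
    ring
  rw [hprod] at hc
  have hH : Nat.card (ctxD4 hD φ).rgd.H = (q - 1) ^ 2 * (q ^ 2 + q + 1) := hd
  rw [hH] at hc
  have hpos : 0 < (q - 1) ^ 2 * (q ^ 2 + q + 1) := by
    have := E.hyp.one_lt
    exact Nat.mul_pos (pow_pos (by omega) 2) (by positivity)
  have hk1 := Nat.eq_of_mul_eq_mul_right hpos ((one_mul _).trans hc)
  have hbot : ((theta chevD4 K).comp (TorSym d4Twist φ).subtype).ker = ⊥ := Subgroup.card_eq_one.1 hk1.symm
  have hx : x ∈ ((theta chevD4 K).comp (TorSym d4Twist φ).subtype).ker := h1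
  rw [hbot, Subgroup.mem_bot] at hx
  rw [hx, map_one]

theorem pos_le {r : (ctxD4 hD φ).Orb} (hr : (ctxD4 hD φ).rgd.pos r) : Y hD φ σ r.1 ≤ Vall hD φ σ := by
  have h : r.1 ∈ posReps := (long_tables r.1 r.2).2.2 hr
  simp only [List.mem_cons, List.not_mem_nil, or_false] at h
  rcases h with h | h | h | h | h | h <;> rw [h]
  · exact le_sup_left
  · exact le_sup_of_le_right le_sup_left
  · exact le_sup_of_le_right (le_sup_of_le_right ((Y_le_V).2 (by simp)))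
  · exact le_sup_of_le_right (le_sup_of_le_right ((Y_le_V).2 (by simp)))
  · exact le_sup_of_le_right (le_sup_of_le_right ((Y_le_V).2 (by simp)))
  · exact le_sup_of_le_right (le_sup_of_le_right ((Y_le_V).2 (by simp)))

theorem neg_span_inj :
    ∀ w ∈ ⨆ r ∈ {r : (ctxD4 hD φ).Orb | ¬ (ctxD4 hD φ).rgd.pos r}, Y hD φ σ r.1, σ w = 1 → w = 1 := by
  have hex : ∀ l : List (Fin 2), ∃ g : Γ, ∀ r ∈ d4Twist.reps,
      (Y hD φ σ r).map (MulAut.conj g).toMonoidHom = Y hD φ σ (wrL l r) ∧ wrL l r ∈ d4Twist.reps := by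
    intro l
    induction l with
    | nil => exact ⟨1, fun r hr => ⟨RGD.RootData.map_conj_one _, hr⟩⟩
    | cons a l ih =>
      obtain ⟨g, hg⟩ := ih
      obtain ⟨n, hn⟩ := exists_ns E a
      refine ⟨n * g, fun r hr => ?_⟩
      obtain ⟨e1, e2⟩ := hg r hr
      rw [RGD.RootData.map_conj_mul, e1, map_Y_N hn e2]
      exact ⟨rfl, (wr_table a _ e2).1⟩
  obtain ⟨g, hg⟩ := hex longWord
  intro w hw h1
  have hle : (⨆ r ∈ {r : (ctxD4 hD φ).Orb | ¬ (ctxD4 hD φ).rgd.pos r}, Y hD φ σ r.1) ≤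
      (Vall hD φ σ).comap (MulAut.conj g).toMonoidHom := by
    refine iSup₂_le fun r hr x hx => ?_
    obtain ⟨e1, e2⟩ := hg r.1 r.2
    have hp : 0 < d4Twist.ht (wrL longWord r.1) := (long_tables r.1 r.2).1 hr
    generalize wrL longWord r.1 = s at e1 e2 hp
    have hs : (ctxD4 hD φ).rgd.pos ⟨s, e2⟩ := hp
    have hm : (MulAut.conj g).toMonoidHom x ∈ Y hD φ σ s := e1 ▸ Subgroup.mem_map_of_mem _ hx
    exact Subgroup.mem_comap.2 (pos_le E hs hm)
  have h2 := Vall_inj E _ (hle hw) (by simp [h1])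
  simpa using h2

/-- The lifted root group data. -/
noncomputable def liftData : RGD.RootData Γ (ctxD4 hD φ).Orb (Fin 2) where
  U r := Y hD φ σ r.1
  H := (torLift E).range
  n a := nh hD φ σ a 1
  simple := (ctxD4 hD φ).rgd.simple
  pos := (ctxD4 hD φ).rgd.pos
  neg := (ctxD4 hD φ).rgd.neg
  w := (ctxD4 hD φ).rgd.w
  neg_neg := (ctxD4 hD φ).rgd.neg_neg
  pos_neg := (ctxD4 hD φ).rgd.pos_neg
  pos_simple := (ctxD4 hD φ).rgd.pos_simple
  simple_inj := (ctxD4 hD φ).rgd.simple_inj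
  w_simple := (ctxD4 hD φ).rgd.w_simple
  w_pos := (ctxD4 hD φ).rgd.w_pos
  w_neg := (ctxD4 hD φ).rgd.w_neg
  w_w := (ctxD4 hD φ).rgd.w_w
  H_conj_U g hg r x hx := (map_Y_H (range_le_preH E hg) r.2).le ⟨x, hx, rfl⟩
  n_conj_U a r x hx := (map_Y_N (map_nh E ((ctxD4 hD φ).Pm_one a)) r.2).le ⟨x, hx, rfl⟩
  n_conj_H a g hg := by
    obtain ⟨X, hX, eX⟩ := theta_of_preH (range_le_preH E hg)
    have hX' : X⁻¹ ∈ TorSym d4Twist φ := inv_mem hX
    have e := conj_nh E hX' (g := g⁻¹) (by rw [map_inv, eX, map_inv]) (a := a) (t := 1) ((ctxD4 hD φ).Pm_one a)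
    rw [mul_one, inv_inv] at e
    have hc : nh hD φ σ a (chiX X⁻¹ (pr a) : K) = hh hD φ σ a (chiX X⁻¹ (pr a)) * nh hD φ σ a 1 := by
      rw [hh, inv_mul_cancel_right]
    rw [hc] at e
    have e' : nh hD φ σ a 1 * g * (nh hD φ σ a 1)⁻¹ = g * hh hD φ σ a (chiX X⁻¹ (pr a)) := by
      calc nh hD φ σ a 1 * g * (nh hD φ σ a 1)⁻¹
          = g * (g⁻¹ * nh hD φ σ a 1 * g) * (nh hD φ σ a 1)⁻¹ := by group
        _ = _ := by rw [e]; group
    rw [e']
    exact mul_mem hg (hh_mem_range E (pm_chi E hX' a))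
  n_sq a := by
    have hm : (ctxD4 hD φ).Pm a ((-1 : Kˣ) : K) := by
      rw [Units.val_neg, Units.val_one]; exact (ctxD4 hD φ).Pm_neg ((ctxD4 hD φ).Pm_one a)
    have h := inv_mem (hh_mem_range E (t := (-1 : Kˣ)) hm)
    rwa [hh, Units.val_neg, Units.val_one, nh_one_inv E, mul_inv_rev, inv_inv] at h
  n_mem a := by
    obtain ⟨h1, h2, h3, -⟩ := simple_tables.2.2.2.2 a
    have hp : yl hD φ σ (pr a) (1 : K) ∈ Y hD φ σ (pr a) := (yl_spec E h1 ((ctxD4 hD φ).Pm_one a)).1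
    have hm : yl hD φ σ (mr a) (-(1 : K)⁻¹) ∈ Y hD φ σ (rOf (mr a)) := by
      rw [h3]; exact (yl_spec E h2 (pm_negInv E ((ctxD4 hD φ).Pm_one a))).1
    exact mul_mem (mul_mem (Subgroup.mem_sup_left (Subgroup.mem_sup_left hp))
      (Subgroup.mem_sup_left (Subgroup.mem_sup_right hm))) (Subgroup.mem_sup_left (Subgroup.mem_sup_left hp))
  U_conj a x hx r hr hne y hy := by
    let S := {s : (ctxD4 hD φ).Orb | (ctxD4 hD φ).rgd.pos s ∧ s ≠ (ctxD4 hD φ).rgd.simple a}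
    have hpos : r.1 ∈ posReps := (long_tables r.1 r.2).2.2 hr
    have hne' : r.1 ≠ pr a := fun e => hne (Subtype.ext e)
    have hS : ∀ s ∈ posReps, s ≠ pr a → Y hD φ σ s ≤ ⨆ t ∈ S, Y hD φ σ t.1 := fun s hs hsa => by
      refine le_biSup (fun t : (ctxD4 hD φ).Orb => Y hD φ σ t.1)
        (show (⟨s, comm_tables.2.2.2.2.2.2.2.2 s hs⟩ : (ctxD4 hD φ).Orb) ∈ S from ⟨?_, fun e => hsa (congrArg Subtype.val e)⟩)
      exact pos_tables.1 s hs
    have hV3 : pr a ∉ ([22, 23, 17, 15] : List ℕ) := pos_tables.2.1 a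
    have h15 : ∀ s ∈ ([22, 23, 17, 15] : List ℕ), Y hD φ σ s ≤ ⨆ t ∈ S, Y hD φ σ t.1 := fun s hs =>
      hS s (pos_tables.2.2 s hs) fun e => hV3 (e ▸ hs)
    have hV2 : V2 hD φ σ ≤ ⨆ t ∈ S, Y hD φ σ t.1 :=
      sup_le (h15 15 (by simp)) (sup_le (h15 22 (by simp)) (sup_le (h15 23 (by simp)) (h15 17 (by simp))))
    simp only [List.mem_cons, List.not_mem_nil, or_false] at hpos
    fin_cases a
    · have hx' : x ∈ Y hD φ σ 18 := hx
      have hle : Vb hD φ σ ≤ ⨆ t ∈ S, Y hD φ σ t.1 := sup_le (hS 14 (by simp) (by decide +kernel)) hV2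
      refine hle (conj18_Vb E hx' y ?_)
      rcases hpos with h | h | h | h | h | h <;> rw [h] at hy
      · exact Subgroup.mem_sup_left hy
      · exact absurd h (by simpa [simple_tables.1] using hne')
      all_goals exact Subgroup.mem_sup_right ((Y_le_V).2 (by simp) hy)
    · have hx' : x ∈ Y hD φ σ 14 := hx
      have hle : V1 hD φ σ ≤ ⨆ t ∈ S, Y hD φ σ t.1 := sup_le (hS 18 (by simp) (by decide +kernel)) hV2
      refine hle (conj14_V1 E hx' y ?_)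
      rcases hpos with h | h | h | h | h | h <;> rw [h] at hy
      · exact absurd h (by simpa [simple_tables.2.1] using hne')
      · exact Subgroup.mem_sup_left hy
      all_goals exact Subgroup.mem_sup_right ((Y_le_V).2 (by simp) hy)
  rank_one a y hy hy1 := by
    obtain ⟨h1, h2, h3, h4⟩ := simple_tables.2.2.2.2 a
    have hy' : y ∈ Y hD φ σ (mr a) := by rw [← h3]; exact hy
    obtain ⟨t, ht, et⟩ := eq_o h2 (Y_le_pre E h2 hy')
    obtain rfl := yl_unique E h2 ht hy' et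
    have ht0 : t ≠ 0 := fun e => hy1 (Y_inj E h2 _ hy' (by
      rw [et, e]; exact (ctxD4 hD φ).orb_zero _))
    rw [h4] at ht
    have hm : (ctxD4 hD φ).Pm a (-t⁻¹) := (ctxD4 hD φ).Pm_negInv ht
    have hi : (⇑φ)^[d4Twist.len (pr a)] t⁻¹ = t⁻¹ := by
      have := (ctxD4 hD φ).Pm_neg hm
      rw [_root_.neg_neg] at this
      exact this
    have hinv : yl hD φ σ (pr a) (-t⁻¹) = (yl hD φ σ (pr a) t⁻¹)⁻¹ := by
      refine (yl_unique E h1 hm (inv_mem (yl_spec E h1 hi).1) ?_).symm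
      rw [map_inv, (yl_spec E h1 hi).2]
      refine inv_eq_of_mul_eq_one_right ?_
      rw [← (ctxD4 hD φ).orb_add h1, add_neg_cancel]
      exact (ctxD4 hD φ).orb_zero _
    refine ⟨_, (yl_spec E h1 hi).1, hh hD φ σ a (Units.mk0 (-t⁻¹) (by simpa using ht0)),
      hh_mem_range E (by simpa using hm), _, (yl_spec E h1 hi).1, ?_⟩
    rw [hh, Units.val_mk0, mul_assoc (yl hD φ σ (pr a) t⁻¹), inv_mul_cancel_right, nh, inv_neg, inv_inv,
      _root_.neg_neg, hinv]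
    group
  U_ne_bot r h := by
    refine (ctxD4 hD φ).rgd.U_ne_bot r ?_
    show (ctxD4 hD φ).Uo r.1 = ⊥
    rw [← Y_map E r.2, h, Subgroup.map_bot]
  B_inf_V := by
    rw [eq_bot_iff]
    rintro g ⟨h1, h2⟩
    refine Subgroup.mem_bot.2 (neg_span_inj E g h2 ?_)
    rw [← Subgroup.mem_bot, ← (ctxD4 hD φ).rgd.B_inf_V]
    constructor
    · have hle : ((⨆ s ∈ {s | (ctxD4 hD φ).rgd.pos s}, Y hD φ σ s.1) ⊔ (torLift E).range) ≤
          ((⨆ s ∈ {s | (ctxD4 hD φ).rgd.pos s}, (ctxD4 hD φ).rgd.U s) ⊔ (ctxD4 hD φ).rgd.H).comap σ := by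
        refine sup_le (iSup₂_le fun s hs x hx => ?_) (fun x hx => Subgroup.mem_sup_right (range_le_preH E hx))
        exact Subgroup.mem_sup_left ((ctxD4 hD φ).rgd.U_le_span (A := {s | (ctxD4 hD φ).rgd.pos s}) hs
          (Y_le_pre E s.2 hx))
      exact hle h1
    · have hle : (⨆ s ∈ {s | ¬ (ctxD4 hD φ).rgd.pos s}, Y hD φ σ s.1) ≤
          (⨆ s ∈ {s | ¬ (ctxD4 hD φ).rgd.pos s}, (ctxD4 hD φ).rgd.U s).comap σ :=
        iSup₂_le fun s hs x hx => (ctxD4 hD φ).rgd.U_le_span (A := {s | ¬ (ctxD4 hD φ).rgd.pos s}) hs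
          (Y_le_pre E s.2 hx)
      exact hle h2
  U_inf_H := by
    rw [eq_bot_iff]
    rintro g ⟨h1, h2⟩
    refine Subgroup.mem_bot.2 (torLift_inj E g h2 ?_)
    rw [← Subgroup.mem_bot, ← (ctxD4 hD φ).rgd.U_inf_H]
    refine ⟨?_, range_le_preH E h2⟩
    have hle : (⨆ s ∈ {s | (ctxD4 hD φ).rgd.pos s}, Y hD φ σ s.1) ≤
        (⨆ s ∈ {s | (ctxD4 hD φ).rgd.pos s}, (ctxD4 hD φ).rgd.U s).comap σ :=
      iSup₂_le fun s hs x hx => (ctxD4 hD φ).rgd.U_le_span (A := {s | (ctxD4 hD φ).rgd.pos s}) hs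
        (Y_le_pre E s.2 hx)
    exact hle h1

/-- Perfect central extensions of ³D₄(q) are isomorphisms. -/
theorem ker_eq_bot : σ.ker = ⊥ := by
  refine ker_eq_bot_of_lift (ctxD4 hD φ).rgd E.central E.perfect ?_ (liftData E) rfl rfl
    (fun r => Y_map E r.2) ?_ (fun a => map_nh E ((ctxD4 hD φ).Pm_one a)) ?_ (torLift_inj E)
  · rw [(ctxD4 hD φ).rgd_G, E.range_eq]
  · show (torLift E).range.map σ = (ctxD4 hD φ).H0
    refine le_antisymm (Subgroup.map_le_iff_le_comap.2 (range_le_preH E)) ?_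
    rintro _ ⟨x, hx, rfl⟩
    exact ⟨_, ⟨⟨x, hx⟩, rfl⟩, map_torLift E ⟨x, hx⟩⟩
  · intro x hx h1
    have hle : (liftData E).Upos ≤ Vall hD φ σ := (liftData E).span_le fun r hr => pos_le E hr
    exact Vall_inj E x (hle hx) h1

end Cfsg.Agent.TwistMult.D4
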