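/-
Tables on the orbits of ²E₆(q) used for its Schur multiplier; they are checked by kernel evaluation.

* `longs`, `shorts`, `posReps`; `wr`, `wrL` : the reflections on representatives;
* `ev`, `Crit` : one parameter subgroups of the torus separating two roots;
* `chk` : the conditions on an ordering of the positive roots.
-/
import Cfsg.Agent.Lib.TwistE6D4.Facts
import Cfsg.Agent.EqLemmas

set_option autoImplicit false
set_option maxRecDepth 100000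

namespace Cfsg.Agent.TwistMult.E6

open Cfsg.Lie Cfsg.Lie.ChevalleyDatum Cfsg.Agent.TwistE6D4

/-- The long roots among the representatives. -/
abbrev longs : List ℕ :=
  [46, 39, 25, 32, 0, 1, 2, 6, 8, 11, 18, 20, 24, 27, 44, 47, 51, 53, 60, 63, 65, 69, 70, 71]

/-- The short roots among the representatives. -/
abbrev shorts : List ℕ :=
  [56, 42, 15, 29, 3, 4, 7, 9, 10, 12, 13, 14, 21, 28, 38, 40, 41, 45, 48, 49, 52, 54, 55, 66]

/-- The positive roots among the representatives, by height. -/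
abbrev posReps : List ℕ :=
  [46, 39, 42, 56, 38, 40, 47, 41, 44, 48, 45, 49, 51, 52, 53, 60, 54, 63, 55, 65, 66, 69, 70, 71]

/-- The simple root of a node. -/
abbrev pn (a : Fin 4) : ℕ := chevE6.simple (e6Node a).val

/-- The negative simple root of a node. -/
abbrev mn (a : Fin 4) : ℕ := chevE6.neg (chevE6.simple (e6Node a).val)

/-- The representative of an orbit. -/
def rOf (q : ℕ) : ℕ :=
  (e6Twist.reps.find? fun r => decide (∃ i < e6Twist.len r, e6Twist.rho^[i] r = q)).getD 0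

/-- The reflections on representatives. -/
def wr (a : Fin 4) (r : ℕ) : ℕ := rOf (wF e6Twist (e6Node a) r)

/-- A word on representatives. -/
def wrL (l : List (Fin 4)) (r : ℕ) : ℕ := l.foldr wr r

/-- The exponent vectors of the one parameter subgroups used. -/
abbrev KS : List (List ℤ) :=
  [[0, -1, 0, -1, 0, 0], [-1, 0, -1, -1, -1, -1], [0, -1, 0, 0, 0, 0], [0, -1, -1, -1, -1, 0],
    [0, 0, 0, -1, 0, 0], [-1, -1, 0, 0, 0, -1]]

/-- The exponent of a root on a one parameter subgroup. -/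
def ev (k : List ℤ) (r : ℕ) : ℤ := ((List.range 6).map fun i => k.getD i 0 * chevE6.cartan i r).sum

/-- A unit exponent. -/
abbrev PM (n : ℤ) : Prop := n = 1 ∨ n = -1

/-- A one parameter subgroup fixing one of two roots and moving the other one. -/
abbrev Crit (r s : ℕ) : Prop :=
  ∃ k ∈ KS, (ev k r = 0 ∧ PM (ev k s)) ∨ (ev k s = 0 ∧ PM (ev k r))

/-- Commutation of two orbit subgroups is decided on their members. -/
abbrev CommOrb (a b : ℕ) : Prop :=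
  ∀ i < 2, ∀ j < 2, e6Twist.rho^[i] a = e6Twist.rho^[j] b ∨
    (e6Twist.rho^[j] b ≠ chevE6.neg (e6Twist.rho^[i] a) ∧
      chevE6.commTerms (e6Twist.rho^[i] a) (e6Twist.rho^[j] b) = [])

/-- Long roots as sums of two long roots. -/
abbrev dec : List (ℕ × ℕ × ℕ × ℤ) :=
  [(46, 1, 71, -1), (39, 2, 70, -1), (25, 0, 70, -1), (32, 1, 69, -1), (0, 1, 25, 1), (1, 0, 46, 1),
    (2, 0, 47, -1), (6, 0, 51, -1), (8, 0, 53, 1), (11, 1, 53, 1), (18, 0, 63, -1), (20, 0, 65, 1),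
    (24, 0, 69, 1), (27, 1, 65, 1), (44, 6, 70, 1), (47, 39, 46, 1), (51, 44, 46, -1), (53, 39, 51, 1),
    (60, 18, 70, 1), (63, 46, 60, 1), (65, 39, 63, 1), (69, 44, 63, -1), (70, 39, 69, 1), (71, 46, 70, 1)]

/-- The words moving the pair 51, 63 to the pairs not separated by the torus. -/
abbrev pairWords : List (List (Fin 4)) :=
  [[], [0], [1], [2], [1, 2], [2, 0], [2, 1], [3, 2], [1, 2, 1], [2, 1, 2], [3, 1, 2], [3, 2, 0], [3, 2, 1],
    [0, 1, 2, 1], [2, 1, 2, 1], [3, 1, 2, 1], [2, 0, 1, 2, 1], [3, 0, 1, 2, 1]]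

/-- The words separating a root from the higher ones. -/
abbrev sepWords : List (List (Fin 4)) :=
  [[0], [1], [2], [3], [3, 2], [2, 1], [1, 0], [3, 2, 1], [1, 2], [2, 1, 0], [3, 2, 1, 2], [3, 2, 1, 0],
    [1, 2, 0], [3, 2, 1, 2, 0], [1, 2, 0, 1], [1, 2, 3], [3, 2, 1, 2, 0, 1], [1, 2, 3, 0],
    [3, 2, 1, 2, 0, 1, 2], [1, 2, 3, 0, 1], [3, 2, 1, 2, 0, 1, 2, 3], [1, 2, 3, 0, 1, 2],
    [1, 2, 3, 0, 1, 2, 1], [1, 2, 3, 0, 1, 2, 1, 0]]

/-- A word separating a root from the roots after it. -/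
abbrev Sep (r : ℕ) (L : List ℕ) : Prop :=
  ∃ l ∈ sepWords, ¬ 0 < e6Twist.ht (wW e6Twist e6Node l r) ∧ ∀ s ∈ L, 0 < e6Twist.ht (wW e6Twist e6Node l s)

/-- The conditions on an ordering. -/
def chk : List ℕ → Bool
  | [] => true
  | r :: L => chk L && decide (r ∈ posReps ∧ r ∉ L ∧ Sep r L ∧
      (∀ t ∈ posReps, e6Twist.ht r < e6Twist.ht t → t ∈ L) ∧ ∀ s ∈ L, e6Twist.ht r ≤ e6Twist.ht s)

theorem chk_cons {r : ℕ} {L : List ℕ} (h : chk (r :: L) = true) :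
    chk L = true ∧ r ∈ posReps ∧ r ∉ L ∧ Sep r L ∧
      (∀ t ∈ posReps, e6Twist.ht r < e6Twist.ht t → t ∈ L) ∧ ∀ s ∈ L, e6Twist.ht r ≤ e6Twist.ht s := by
  simp only [chk, Bool.and_eq_true, decide_eq_true_eq] at h
  exact h

theorem len_eq : (∀ r ∈ longs, r ∈ e6Twist.reps ∧ e6Twist.len r = 1) ∧
    (∀ r ∈ shorts, r ∈ e6Twist.reps ∧ e6Twist.len r = 2) ∧ (∀ r ∈ e6Twist.reps, r ∈ longs ∨ r ∈ shorts) := by
  decide +kernel

theorem len_le : ∀ r ∈ e6Twist.reps, e6Twist.len r ≤ 2 := by decide +kernel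

theorem pos_iff : (∀ r ∈ posReps, r ∈ e6Twist.reps ∧ 0 < e6Twist.ht r) ∧
    (∀ r ∈ e6Twist.reps, 0 < e6Twist.ht r → r ∈ posReps) := by decide +kernel

theorem node_values : pn 0 = 46 ∧ pn 1 = 39 ∧ pn 2 = 42 ∧ pn 3 = 56 ∧
    mn 0 = 25 ∧ mn 1 = 32 ∧ mn 2 = 29 ∧ mn 3 = 15 := by decide +kernel

theorem node_table : ∀ a : Fin 4, pn a ∈ e6Twist.reps ∧ mn a ∈ e6Twist.reps ∧ rOf (mn a) = mn a ∧
    e6Twist.len (mn a) = e6Twist.len (pn a) ∧ wr a (pn a) = mn a ∧ wr a (mn a) = pn a ∧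
    pn a ∈ posReps := by decide +kernel

theorem wr_table : ∀ a : Fin 4, ∀ r ∈ e6Twist.reps,
    wr a r ∈ e6Twist.reps ∧ e6Twist.len (wr a r) = e6Twist.len r := by decide +kernel

theorem ks_sym : ∀ k ∈ KS, ∀ i : Fin 6, k.getD ((![5, 1, 4, 3, 2, 0] : Fin 6 → Fin 6) i).val 0 = k.getD i.val 0 := by
  decide +kernel

theorem fpf_table : ∀ r ∈ e6Twist.reps, ∃ k ∈ KS, PM (ev k r) := by decide +kernel

theorem pair_table : ∀ r ∈ posReps, ∀ s ∈ posReps, r ≠ s → Crit r s ∨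
    ∃ l ∈ pairWords, (wrL l 51 = r ∧ wrL l 63 = s) ∨ (wrL l 51 = s ∧ wrL l 63 = r) := by decide +kernel

theorem pair_comm : CommOrb 63 42 ∧ CommOrb 63 48 ∧ CommOrb 51 63 := by decide +kernel

theorem pair_crit : Crit 63 42 ∧ Crit 63 48 := by decide +kernel

theorem pair_base : chevE6.commTerms 42 48 = [(51, 1, 1, 1)] ∧ chevE6.commTerms 37 50 = [(51, 1, 1, 1)] ∧
    (e6Twist.rho 42 = 37 ∧ e6Twist.eps 42 = 1) ∧ (e6Twist.rho 48 = 50 ∧ e6Twist.eps 48 = 1) ∧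
    (∀ p ∈ ([(42, 50), (37, 48), (42, 51), (37, 51), (48, 51), (50, 51)] : List (ℕ × ℕ)),
      p.2 ≠ chevE6.neg p.1 ∧ chevE6.commTerms p.1 p.2 = []) ∧
    48 ≠ chevE6.neg 42 ∧ 50 ≠ chevE6.neg 37 ∧
    ∀ p ∈ ([42, 37, 48, 50, 51, 63] : List ℕ), p < chevE6.nroots := by
  refine ⟨?_, ?_, ?_, ?_, ?_, ?_, ?_, ?_⟩ <;> decide +kernel

theorem dec_table : ∀ d ∈ dec, d.1 ∈ longs ∧ d.2.1 ∈ longs ∧ d.2.2.1 ∈ longs ∧
    chevE6.commTerms d.2.1 d.2.2.1 = [(d.1, d.2.2.2, 1, 1)] ∧ d.2.2.1 ≠ chevE6.neg d.2.1 ∧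
    d.2.2.1 ≠ d.2.1 ∧ d.2.2.2 * d.2.2.2 = 1 ∧
    d.1 < chevE6.nroots := by decide +kernel

theorem dec_comm : ∀ d ∈ dec, CommOrb d.1 d.2.1 ∧ CommOrb d.1 d.2.2.1 := by decide +kernel

theorem dec_crit : ∀ d ∈ dec, Crit d.1 d.2.1 ∧ Crit d.1 d.2.2.1 := by decide +kernel

theorem dec_cover : ∀ r ∈ longs, ∃ d ∈ dec, d.1 = r := by decide +kernel

theorem diag_table : ∀ r ∈ shorts, CommOrb r r ∧
    (((chevE6.cartan 2 r = 1 ∨ chevE6.cartan 2 r = -1) ∧ chevE6.cartan 4 r = 0) ∨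
    ((chevE6.cartan 4 r = 1 ∨ chevE6.cartan 4 r = -1) ∧ chevE6.cartan 2 r = 0) ∨
    ((chevE6.cartan 0 r = 1 ∨ chevE6.cartan 0 r = -1) ∧ chevE6.cartan 5 r = 0) ∨
    ((chevE6.cartan 5 r = 1 ∨ chevE6.cartan 5 r = -1) ∧ chevE6.cartan 0 r = 0)) := by decide +kernel

theorem long_self : ∀ r ∈ longs, CommOrb r r := by decide +kernel

theorem chk_orders : ∀ a : Fin 4, chk (pn a :: posReps.filter (fun r => decide (r ≠ pn a))) = true := by
  decide +kernel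

theorem chk_pos : chk posReps = true := by decide +kernel

/-- The word making every positive root negative. -/
abbrev longWord : List (Fin 4) := (List.replicate 6 ([0, 1, 2, 3] : List (Fin 4))).flatten

theorem long_word : ∀ r ∈ e6Twist.reps, ¬ 0 < e6Twist.ht r → wrL longWord r ∈ posReps := by decide +kernel

theorem cartan_nodes : ∀ i : Fin 6, chevE6.cartan i.val 46 = [0, 2, 0, -1, 0, 0].getD i.val 0 ∧
    chevE6.cartan i.val 39 = [0, -1, -1, 2, -1, 0].getD i.val 0 ∧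
    chevE6.cartan i.val 42 = [-1, 0, 2, -1, 0, 0].getD i.val 0 ∧
    chevE6.cartan i.val 56 = [2, 0, -1, 0, 0, 0].getD i.val 0 := by decide +kernel

end Cfsg.Agent.TwistMult.E6
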