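/-
Central extensions of ²E₆(q), q ≥ 3: preimages of the root subgroups.

* `exists_torK`, `exists_dil` : the torus elements used; `pairing_crit` : vanishing of pairings;
* `Ext` : a perfect central extension; `pre`, `preH`, `Y` and their equivariance;
* `pre_abel`, `commute_pos` : preimages commute; `Y_inj`, `Y_map` : the lifts of the root subgroups.
-/
import Cfsg.Agent.Lib.TwistMult.E6Tables
import Cfsg.Agent.Lib.TwistMult.D4Short

set_option autoImplicit false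
set_option maxRecDepth 100000
set_option linter.unusedSectionVars false

namespace Cfsg.Agent.TwistMult.E6

open Cfsg.Lie Cfsg.Lie.ChevalleyDatum Cfsg.Agent.Chev Cfsg.Agent.TwistE6D4
open Cfsg.Agent.TwistMult.D4 (theta_conj_orb span_inf bracket_lev)
open scoped commutatorElement

universe u

variable {K : Type u} [Field K] (hD : Good chevE6) (φ : K →+* K)

local notation "o" => orb hD e6Twist φ

/-- The parameters of an orbit. -/
def fixS (r : ℕ) : AddSubgroup K where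
  carrier := {t | (⇑φ)^[e6Twist.len r] t = t}
  zero_mem' := by show (⇑φ)^[e6Twist.len r] (0 : K) = 0; rw [← RingHom.coe_pow, map_zero]
  add_mem' {a b} ha hb := by
    show (⇑φ)^[e6Twist.len r] (a + b) = a + b
    simp only [Set.mem_ofPred_eq, ← RingHom.coe_pow] at ha hb ⊢
    rw [map_add, ha, hb]
  neg_mem' {a} ha := by
    show (⇑φ)^[e6Twist.len r] (-a) = -a
    simp only [Set.mem_ofPred_eq, ← RingHom.coe_pow] at ha ⊢
    rw [map_neg, ha]

theorem fixS_mul {r : ℕ} {c t : K} (hc : φ c = c) (ht : t ∈ fixS φ r) : c * t ∈ fixS φ r := by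
  show (⇑φ)^[e6Twist.len r] (c * t) = c * t
  have e : (⇑φ)^[e6Twist.len r] c = c := Function.iterate_fixed hc _
  have ht' : (⇑φ)^[e6Twist.len r] t = t := ht
  rw [← RingHom.coe_pow] at e ht' ⊢
  rw [map_mul, e, ht']

/-- A parameter family on the nodes as a family indexed by `Fin 6`. -/
@[reducible] def six {G : Type*} (x : Fin chevE6.rank → G) : Fin 6 → G := x

theorem chi_six (x : Fin chevE6.rank → Kˣ) (r : ℕ) :
    chiX x r = ∏ i : Fin 6, six x i ^ chevE6.cartan i.val r := rfl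

theorem torSym_of {y : Fin 6 → Kˣ}
    (h : ∀ i : Fin 6, y ((![5, 1, 4, 3, 2, 0] : Fin 6 → Fin 6) i) = Units.map (φ : K →* K) (y i)) :
    (y : Fin chevE6.rank → Kˣ) ∈ TorSym e6Twist φ :=
  fun i => h i

/-- The one parameter subgroups of the torus. -/
theorem exists_torK {u : Kˣ} (hu : Units.map (φ : K →* K) u = u) {k : List ℤ} (hk : k ∈ KS) :
    ∃ x ∈ TorSym e6Twist φ, ∀ r, chiX x r = u ^ ev k r := by
  refine ⟨fun i => u ^ k.getD i.val 0, torSym_of φ (y := fun i => u ^ k.getD i.val 0) fun i => ?_, fun r => ?_⟩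
  · rw [ks_sym k hk i, map_zpow, hu]
  · show ∏ i : Fin 6, (u ^ k.getD i.val 0) ^ chevE6.cartan i.val r = _
    simp only [← zpow_mul, ev, Fin.prod_univ_six, ← zpow_add]
    simp [List.range_succ, add_assoc]

variable [Fintype K] {q : ℕ} (h : Hyp (ctxE6 hD φ) q 2)

section WithHyp

include hD h

theorem phi_pow (t : K) : φ t = t ^ q := h.pow t

theorem phi_two (t : K) : φ (φ t) = t := by
  rw [phi_pow hD φ h, phi_pow hD φ h, ← pow_mul, show q * q = q ^ 2 by ring, ← h.card, FiniteField.pow_card]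

theorem iter_len {r : ℕ} (hr : r ∈ shorts) (t : K) : (⇑φ)^[e6Twist.len r] t = t := by
  rw [(len_eq.2.1 r hr).2]
  exact phi_two hD φ h t

theorem chi_real {x : Fin chevE6.rank → Kˣ} (hx : x ∈ TorSym e6Twist φ) {r : ℕ} (hr : r ∈ e6Twist.reps) :
    (⇑φ)^[e6Twist.len r] (chiX x r : K) = (chiX x r : K) := by
  have e : ∀ k, (chiX x (e6Twist.rho^[k] r) : K) = (⇑φ)^[k] (chiX x r : K) := fun k => by
    induction k with
    | zero => rfl
    | succ k ih =>
      rw [Function.iterate_succ_apply', chiX_rho e6Twist_ok hx (e6Twist_ok.iter_lt (e6Twist_ok.rep_lt r hr).1 k),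
        Units.coe_map, MonoidHom.coe_coe, ih, Function.iterate_succ_apply']
  rw [← e, (e6Twist_ok.rep_lt r hr).2.2.1]

/-- A fixed unit different from one. -/
theorem exists_unit (h3 : 3 ≤ q) : ∃ u : Kˣ, Units.map (φ : K →* K) u = u ∧ u ≠ 1 := by
  by_contra hne
  push Not at hne
  have h1 : Nat.card {t : Kˣ // t ^ (q - 1) = 1} ≤ 1 := by
    have : Subsingleton {t : Kˣ // t ^ (q - 1) = 1} := ⟨fun a b => by
      have e : ∀ a : {t : Kˣ // t ^ (q - 1) = 1}, a.1 = 1 := fun a => hne a.1 (Units.ext (by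
        have h2 : a.1 ^ q = a.1 := by
          calc a.1 ^ q = a.1 ^ (q - 1) * a.1 := by rw [← pow_succ, Nat.sub_add_cancel h.one_lt.le]
            _ = a.1 := by rw [a.2, one_mul]
        rw [Units.coe_map, MonoidHom.coe_coe, phi_pow hD φ h, ← Units.val_pow_eq_pow_val, h2]))
      exact Subtype.ext ((e a).trans (e b).symm)⟩
    exact Finite.card_le_one_iff_subsingleton.2 inferInstance
  rw [card_units_fixed K h.card] at h1
  omega

/-- A torus element realising a given dilation of a short root. -/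
theorem exists_dil {r : ℕ} (hr : r ∈ shorts) (c : Kˣ) : ∃ x ∈ TorSym e6Twist φ, chiX x r = c := by
  set P := Units.map (φ : K →* K) with hP
  have h2 : ∀ t, P (P t) = t := fun t => Units.ext (phi_two hD φ h t)
  have hA : ∀ u : Kˣ, ∃ x ∈ TorSym e6Twist φ,
      chiX x r = u ^ chevE6.cartan 2 r * P u ^ chevE6.cartan 4 r := fun u => by
    refine ⟨(![1, 1, u, 1, P u, 1] : Fin 6 → Kˣ), torSym_of φ fun i => ?_, ?_⟩
    · fin_cases i <;> simp [← hP, h2]
    · show ∏ i : Fin 6, (![1, 1, u, 1, P u, 1] : Fin 6 → Kˣ) i ^ chevE6.cartan i.val r = _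
      simp [Fin.prod_univ_six]
  have hB : ∀ u : Kˣ, ∃ x ∈ TorSym e6Twist φ,
      chiX x r = u ^ chevE6.cartan 0 r * P u ^ chevE6.cartan 5 r := fun u => by
    refine ⟨(![u, 1, 1, 1, 1, P u] : Fin 6 → Kˣ), torSym_of φ fun i => ?_, ?_⟩
    · fin_cases i <;> simp [← hP, h2]
    · show ∏ i : Fin 6, (![u, 1, 1, 1, 1, P u] : Fin 6 → Kˣ) i ^ chevE6.cartan i.val r = _
      simp [Fin.prod_univ_six]
  have sel : ∀ a b : ℤ, (∀ u : Kˣ, ∃ x ∈ TorSym e6Twist φ, chiX x r = u ^ a * P u ^ b) →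
      ((a = 1 ∨ a = -1) ∧ b = 0 ∨ (b = 1 ∨ b = -1) ∧ a = 0) → ∃ x ∈ TorSym e6Twist φ, chiX x r = c := by
    intro a b hab hc
    rcases hc with ⟨ha | ha, hb⟩ | ⟨hb | hb, ha⟩ <;> subst a b
    · obtain ⟨x, hx, e⟩ := hab c; exact ⟨x, hx, by simp [e]⟩
    · obtain ⟨x, hx, e⟩ := hab c⁻¹; exact ⟨x, hx, by simp [e]⟩
    · obtain ⟨x, hx, e⟩ := hab (P c); exact ⟨x, hx, by simp [e, h2]⟩
    · obtain ⟨x, hx, e⟩ := hab (P c)⁻¹; exact ⟨x, hx, by simp [e, h2]⟩
  rcases (diag_table r hr).2 with hc | hc | hc | hc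
  · exact sel _ _ hA (Or.inl hc)
  · exact sel _ _ hA (Or.inr hc)
  · exact sel _ _ hB (Or.inl hc)
  · exact sel _ _ hB (Or.inr hc)

/-- An element with nonzero trace. -/
theorem exists_trace : ∃ w : K, w + φ w ≠ 0 := by
  by_cases h2 : (1 : K) + 1 = 0
  · by_contra hne
    push Not at hne
    have hfix : ∀ t : K, t ^ q = t := fun t => by
      rw [← phi_pow hD φ h]
      exact add_left_cancel ((hne t).trans (by rw [← two_mul, show (2 : K) = 1 + 1 by norm_num, h2, zero_mul]))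
    have h1 : Nat.card {t : K // t ^ q = t} = Nat.card K := Nat.card_congr (Equiv.subtypeUnivEquiv hfix)
    rw [card_powFixed K h.card, Nat.card_eq_fintype_card, h.card] at h1
    have := h.one_lt
    nlinarith
  · exact ⟨1, by rwa [map_one]⟩

/-- The field elements used by the diagonal criterion. -/
theorem exists_three (h3 : 3 ≤ q) : ∃ t : K, t ≠ 0 ∧ t + 1 ≠ 0 ∧ t * t + t + 1 ≠ 0 := by
  classical
  by_contra hne
  push Not at hne
  set P : Polynomial K := Polynomial.X * ((Polynomial.X + 1) * (Polynomial.X ^ 2 + Polynomial.X + 1)) with hP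
  have hdeg : P.natDegree ≤ 4 := by rw [hP]; compute_degree
  have h0 : P = 0 := Polynomial.eq_zero_of_natDegree_lt_card_of_eval_eq_zero P (ι := K) Function.injective_id
    (fun t => by
      by_cases h0 : t = 0
      · simp [hP, h0]
      by_cases h1 : t + 1 = 0
      · simp [hP, h1]
      · have := hne t h0 h1
        simp [hP, pow_two, this])
    (lt_of_le_of_lt hdeg (by
      rw [h.card]
      exact lt_of_lt_of_le (by norm_num) (Nat.pow_le_pow_left h3 2)))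
  have := congrArg (fun Q : Polynomial K => Q.coeff 1) h0
  simp [hP, Polynomial.coeff_X_mul, Polynomial.coeff_zero_eq_eval_zero] at this

/-- Invariant pairings of two root subgroups separated by the torus vanish. -/
theorem pairing_crit {Z : Type*} [Group Z] (h3 : 3 ≤ q) {r s : ℕ} (hc : Crit r s)
    (β : fixS φ r → fixS φ s → Z) (hl : ∀ a a' b, β (a + a') b = β a b * β a' b)
    (hr' : ∀ a b b', β a (b + b') = β a b * β a b')
    (hinv : ∀ x ∈ TorSym e6Twist φ, ∀ (l : fixS φ r → fixS φ r) (m : fixS φ s → fixS φ s),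
      (∀ a, (l a : K) = (chiX x r : K) * a) → (∀ b, (m b : K) = (chiX x s : K) * b) →
      ∀ a b, β (l a) (m b) = β a b) :
    ∀ a b, β a b = 1 := by
  obtain ⟨u, hu, hu1⟩ := exists_unit hD φ h h3
  obtain ⟨k, hk, hkk⟩ := hc
  obtain ⟨x, hx, hχ⟩ := exists_torK φ hu hk
  have hf : φ (u : K) = u := congrArg Units.val hu
  have hfi : φ (u⁻¹ : Kˣ) = ((u⁻¹ : Kˣ) : K) := by rw [Units.val_inv_eq_inv_val, map_inv₀, hf]
  have main : ∀ {r' : ℕ}, PM (ev k r') → (chiX x r' : K) ≠ 1 ∧ φ (chiX x r' : K) = chiX x r' := by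
    intro r' hp
    rw [hχ]
    rcases hp with e | e <;> rw [e]
    · exact ⟨by simpa using hu1, by simpa using hf⟩
    · exact ⟨by simpa using hu1, by simpa using hfi⟩
  have move : ∀ {r' : ℕ} {c : K} (hc1 : c ≠ 1) (hcf : φ c = c) (b : fixS φ r'), ∃ b' : fixS φ r',
      (⟨c * b', fixS_mul φ hcf b'.2⟩ : fixS φ r') = b + b' := by
    intro r' c hc1 hcf b
    have hne : c - 1 ≠ 0 := sub_ne_zero.2 hc1
    refine ⟨⟨(c - 1)⁻¹ * b, fixS_mul φ (by rw [map_inv₀, map_sub, hcf, map_one]) b.2⟩, Subtype.ext ?_⟩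
    show c * ((c - 1)⁻¹ * (b : K)) = b + (c - 1)⁻¹ * b
    field_simp
    ring
  rcases hkk with ⟨e0, e1⟩ | ⟨e0, e1⟩
  · obtain ⟨hc1, hcf⟩ := main e1
    let m : fixS φ s → fixS φ s := fun b => ⟨(chiX x s : K) * b, fixS_mul φ hcf b.2⟩
    refine pairing_zero_of_fix β hr' (m := m) (fun b => move hc1 hcf b) fun a b => ?_
    exact hinv x hx id m (fun a => by rw [hχ, e0]; simp) (fun _ => rfl) a b
  · obtain ⟨hc1, hcf⟩ := main e1
    let m : fixS φ r → fixS φ r := fun b => ⟨(chiX x r : K) * b, fixS_mul φ hcf b.2⟩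
    intro a b
    refine pairing_zero_of_fix (fun b a => β a b) (fun b a a' => hl a a' b) (m := m) (fun a => move hc1 hcf a)
      (fun b a => ?_) b a
    exact hinv x hx m id (fun _ => rfl) (fun b => by rw [hχ, e0]; simp) a b

end WithHyp

/-! ### Relations -/

theorem gx_bracket {r s k : ℕ} {c : ℤ} (hr : r < chevE6.nroots) (hs : s < chevE6.nroots) (h₁ : s ≠ r)
    (h₂ : s ≠ chevE6.neg r) (hterms : chevE6.commTerms r s = [(k, c, 1, 1)]) (t u : K) :
    ⁅gx hD K s u, gx hD K r t⁆ = gx hD K k (-((c : K) * t * u)) := by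
  have hcomm := hD.commutator hr hs h₁ h₂ (-t) (-u)
  have e : gx hD K s (-u) * gx hD K r (-t) = gx hD K r (-t) * gx hD K s (-u) * gx hD K k (-((c : K) * t * u)) :=
    Units.ext (by
      simp only [Units.val_mul, coe_gx, hcomm]
      simp [ChevalleyDatum.commWord, hterms, ChevalleyDatum.wordMat, mul_assoc])
  rw [← gx_inv, ← gx_inv] at e
  calc ⁅gx hD K s u, gx hD K r t⁆ = gx hD K s u * gx hD K r t * ((gx hD K s u)⁻¹ * (gx hD K r t)⁻¹) := by
        simp only [commutatorElement_def, mul_assoc]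
    _ = _ := by rw [e]; group

theorem commute_o {a b : ℕ} (hab : CommOrb a b) (ha : a ∈ e6Twist.reps) (hb : b ∈ e6Twist.reps) (t u : K) :
    Commute (o a t) (o b u) := by
  have hla := len_le a ha
  have hlb := len_le b hb
  have ha' := (e6Twist_ok.rep_lt a ha).1
  have hb' := (e6Twist_ok.rep_lt b hb).1
  refine Commute.list_prod_left _ _ fun x hx => Commute.list_prod_right _ _ fun y hy => ?_
  obtain ⟨i, hi, rfl⟩ := List.mem_map.1 hx
  obtain ⟨j, hj, rfl⟩ := List.mem_map.1 hy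
  rw [List.mem_range] at hi hj
  rcases hab i (by omega) j (by omega) with e | ⟨e1, e2⟩
  · rw [← e]
    show _ * _ = _ * _
    rw [← gx_add, ← gx_add, add_comm]
  · exact commute_gx hD (e6Twist_ok.iter_lt ha' i) (e6Twist_ok.iter_lt hb' j) e1 e2 _ _

/-- The commutator of two short orbit subgroups with sum the long root 51. -/
theorem bracket_o (x : K) : ⁅o 48 1, o 42 x⁆ = gx hD K 51 (-(x + φ x)) := by
  obtain ⟨t0, t1, ⟨r0, s0⟩, ⟨r1, s1⟩, hcm, n0, n1, hlt⟩ := pair_base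
  have c : ∀ p ∈ ([(42, 50), (37, 48), (42, 51), (37, 51), (48, 51), (50, 51)] : List (ℕ × ℕ)),
      ∀ t u, Commute (gx hD K p.1 t) (gx hD K p.2 u) := by
    intro p hp t u
    refine commute_gx hD (hlt p.1 ?_) (hlt p.2 ?_) (hcm p hp).1 (hcm p hp).2 t u <;>
      (revert p; decide)
  have h42 : o 42 x = gx hD K 42 x * gx hD K 37 (φ x) := by
    rw [orb, (len_eq.2.1 42 (by simp)).2]
    simp [List.range_succ, cf, esgn, r0, s0]
  have h48 : o 48 (1 : K) = gx hD K 48 1 * gx hD K 50 1 := by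
    rw [orb, (len_eq.2.1 48 (by simp)).2]
    simp [List.range_succ, cf, esgn, r1, s1]
  rw [h42, h48]
  have k0 : gx hD K 48 (1 : K) * gx hD K 42 x = gx hD K 51 (-x) * (gx hD K 42 x * gx hD K 48 1) := by
    have := gx_bracket hD (hlt 42 (by simp)) (hlt 48 (by simp)) (by decide) n0 t0 x 1
    rw [commutatorElement_def] at this
    rw [show -x = -(((1 : ℤ) : K) * x * 1) by simp, ← this]; group
  have k1 : gx hD K 50 (1 : K) * gx hD K 37 (φ x) = gx hD K 51 (-φ x) * (gx hD K 37 (φ x) * gx hD K 50 1) := by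
    have := gx_bracket hD (hlt 37 (by simp)) (hlt 50 (by simp)) (by decide) n1 t1 (φ x) 1
    rw [commutatorElement_def] at this
    rw [show -φ x = -(((1 : ℤ) : K) * φ x * 1) by simp, ← this]; group
  set A0 := gx hD K 42 x
  set A1 := gx hD K 37 (φ x)
  set B0 := gx hD K 48 (1 : K)
  set B1 := gx hD K 50 (1 : K)
  set Z0 := gx hD K 51 (-x)
  set Z1 := gx hD K 51 (-φ x)
  have z : gx hD K 51 (-(x + φ x)) = Z0 * Z1 := by
    simp only [Z0, Z1, ← gx_add]; congr 1; ring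
  rw [z, commutatorElement_def, mul_inv_eq_iff_eq_mul, mul_inv_eq_iff_eq_mul]
  have a01 : A0 * B1 = B1 * A0 := c (42, 50) (by simp) _ _
  have a10 : A1 * B0 = B0 * A1 := c (37, 48) (by simp) _ _
  have az : A0 * Z1 = Z1 * A0 := c (42, 51) (by simp) _ _
  have bz : B0 * Z1 = Z1 * B0 := c (48, 51) (by simp) _ _
  calc B0 * B1 * (A0 * A1) = B0 * (B1 * A0) * A1 := by group
    _ = B0 * A0 * (B1 * A1) := by rw [← a01]; group
    _ = Z0 * A0 * (B0 * Z1) * (A1 * B1) := by rw [k0, k1]; group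
    _ = Z0 * (A0 * Z1) * (B0 * A1) * B1 := by rw [bz]; group
    _ = _ := by rw [az, ← a10]; group

/-! ### The extension -/

variable {Γ : Type u} [Group Γ] [Finite Γ] (σ : Γ →* GL chevE6.Idx K)

/-- A perfect central extension of ²E₆(q). -/
structure Ext (hD : Good chevE6) (φ : K →+* K) (q : ℕ) (σ : Γ →* GL chevE6.Idx K) : Prop where
  hyp : Hyp (ctxE6 hD φ) q 2
  three_le : 3 ≤ q
  central : σ.ker ≤ Subgroup.center Γ
  perfect : commutator Γ = ⊤
  range_eq : σ.range = (ctxE6 hD φ).G0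

/-- The preimage of an orbit root subgroup. -/
def pre (r : ℕ) : Subgroup Γ := ((ctxE6 hD φ).Uo r).comap σ

/-- The preimage of the torus. -/
def preH : Subgroup Γ := (ctxE6 hD φ).H0.comap σ

/-- The lift of an orbit root subgroup. -/
def Y (r : ℕ) : Subgroup Γ := ⁅preH hD φ σ, pre hD φ σ r⁆

variable {hD φ σ}

omit [Fintype K] [Finite Γ] in
theorem map_comap_conj {g : Γ} {A B : Subgroup (GL chevE6.Idx K)}
    (e : A.map (MulAut.conj (σ g)).toMonoidHom = B) :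
    (A.comap σ).map (MulAut.conj g).toMonoidHom = B.comap σ := by
  refine RGD.RootData.map_conj_eq _ (fun x hx => ?_) (fun y hy => ?_)
  · show σ (g * x * g⁻¹) ∈ B
    rw [map_mul, map_mul, map_inv, ← e]
    exact ⟨σ x, hx, rfl⟩
  · show σ (g⁻¹ * y * g) ∈ A
    have : σ y ∈ A.map (MulAut.conj (σ g)).toMonoidHom := e ▸ hy
    rw [RGD.RootData.mem_map_conj] at this
    rwa [map_mul, map_mul, map_inv]

omit [Finite Γ] in
theorem map_bracket_conj {g : Γ} {A B A' B' : Subgroup Γ} (e1 : A.map (MulAut.conj g).toMonoidHom = A')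
    (e2 : B.map (MulAut.conj g).toMonoidHom = B') : ⁅A, B⁆.map (MulAut.conj g).toMonoidHom = ⁅A', B'⁆ := by
  rw [Subgroup.map_commutator, e1, e2]

section Ext

variable (E : Ext hD φ q σ)
include E

theorem exists_of_mem {x : GL chevE6.Idx K} (hx : x ∈ (ctxE6 hD φ).G0) : ∃ g, σ g = x :=
  E.range_eq.ge hx

omit [Fintype K] [Group Γ] [Finite Γ] E in
theorem Uo_le (hD : Good chevE6) {r : ℕ} (hr : r ∈ e6Twist.reps) : (ctxE6 hD φ).Uo r ≤ (ctxE6 hD φ).G0 :=
  (ctxE6 hD φ).Uo_le_G0 e6_long ⟨r, hr⟩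

theorem exists_o {r : ℕ} (hr : r ∈ e6Twist.reps) {t : K} (ht : t ∈ fixS φ r) :
    ∃ g ∈ pre hD φ σ r, σ g = o r t := by
  obtain ⟨g, hg⟩ := exists_of_mem E (Uo_le hD hr ((ctxE6 hD φ).orb_mem_Uo hr ht))
  exact ⟨g, show σ g ∈ (ctxE6 hD φ).Uo r from hg ▸ (ctxE6 hD φ).orb_mem_Uo hr ht, hg⟩

omit E in
theorem eq_o {r : ℕ} (hr : r ∈ e6Twist.reps) {g : Γ} (hg : g ∈ pre hD φ σ r) :
    ∃ t ∈ fixS φ r, σ g = o r t :=
  (ctxE6 hD φ).mem_Uo hr hg

theorem short_fix {r : ℕ} (hr : r ∈ shorts) (t : K) : t ∈ fixS φ r := iter_len hD φ E.hyp hr t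

omit [Fintype K] [Group Γ] [Finite Γ] E in
theorem long_fix {r : ℕ} (hr : r ∈ longs) (t : K) : t ∈ fixS φ r ↔ φ t = t := by
  show (⇑φ)^[e6Twist.len r] t = t ↔ _
  rw [(len_eq.1 r hr).2]
  rfl

theorem exists_theta {x : Fin chevE6.rank → Kˣ} (hx : x ∈ TorSym e6Twist φ) :
    ∃ g ∈ preH hD φ σ, σ g = theta chevE6 K x := by
  obtain ⟨g, hg⟩ := exists_of_mem E ((ctxE6 hD φ).theta_mem_G0 hx)
  exact ⟨g, show σ g ∈ (ctxE6 hD φ).H0 by rw [hg]; exact ⟨x, hx, rfl⟩, hg⟩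

omit E in
theorem theta_of_preH {g : Γ} (hg : g ∈ preH hD φ σ) :
    ∃ x ∈ TorSym e6Twist φ, σ g = theta chevE6 K x := by
  obtain ⟨x, hx, e⟩ := hg
  exact ⟨x, hx, e.symm⟩

omit E in
theorem preH_comm {g h : Γ} (hg : g ∈ preH hD φ σ) (hh : h ∈ preH hD φ σ) : Commute (σ g) (σ h) := by
  obtain ⟨x, hx, ex⟩ := theta_of_preH hg
  obtain ⟨y, hy, ey⟩ := theta_of_preH hh
  rw [ex, ey]
  show _ * _ = _ * _
  rw [← map_mul, ← map_mul, mul_comm]

omit E in
theorem map_H_H {g : Γ} (hg : g ∈ preH hD φ σ) :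
    (preH hD φ σ).map (MulAut.conj g).toMonoidHom = preH hD φ σ :=
  RGD.RootData.map_conj_eq _ (fun _ hx => mul_mem (mul_mem hg hx) (inv_mem hg))
    (fun _ hy => mul_mem (mul_mem (inv_mem hg) hy) hg)

omit E in
theorem map_pre_H {g : Γ} (hg : g ∈ preH hD φ σ) {r : ℕ} (hr : r ∈ e6Twist.reps) :
    (pre hD φ σ r).map (MulAut.conj g).toMonoidHom = pre hD φ σ r :=
  map_comap_conj ((ctxE6 hD φ).rgd.map_conj_H_U (show σ g ∈ _ from hg) ⟨r, hr⟩)

omit E in
theorem map_Y_H {g : Γ} (hg : g ∈ preH hD φ σ) {r : ℕ} (hr : r ∈ e6Twist.reps) :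
    (Y hD φ σ r).map (MulAut.conj g).toMonoidHom = Y hD φ σ r :=
  map_bracket_conj (map_H_H hg) (map_pre_H hg hr)

omit E in
theorem map_pre_N {g : Γ} {a : Fin 4} (hg : σ g = (ctxE6 hD φ).ns a 1) {r : ℕ} (hr : r ∈ e6Twist.reps) :
    (pre hD φ σ r).map (MulAut.conj g).toMonoidHom = pre hD φ σ (wr a r) :=
  map_comap_conj (hg ▸ (ctxE6 hD φ).rgd.map_conj_n a ⟨r, hr⟩)

omit E in
theorem map_H_N {g : Γ} {a : Fin 4} (hg : σ g = (ctxE6 hD φ).ns a 1) :
    (preH hD φ σ).map (MulAut.conj g).toMonoidHom = preH hD φ σ :=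
  map_comap_conj (hg ▸ RGD.RootData.map_conj_eq _ (fun x hx => (ctxE6 hD φ).rgd.n_conj_H a x hx)
    (fun y hy => (ctxE6 hD φ).rgd.n_conj_H' a hy))

omit E in
theorem map_Y_N {g : Γ} {a : Fin 4} (hg : σ g = (ctxE6 hD φ).ns a 1) {r : ℕ} (hr : r ∈ e6Twist.reps) :
    (Y hD φ σ r).map (MulAut.conj g).toMonoidHom = Y hD φ σ (wr a r) :=
  map_bracket_conj (map_H_N hg) (map_pre_N hg hr)

theorem exists_ns (a : Fin 4) : ∃ g, σ g = (ctxE6 hD φ).ns a 1 :=
  exists_of_mem E ((ctxE6 hD φ).ns_mem_G0 a ((ctxE6 hD φ).Pm_one a))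

/-- Lifts of words move the lifts of the root subgroups. -/
theorem exists_word (l : List (Fin 4)) : ∃ g : Γ, ∀ r ∈ e6Twist.reps,
    (pre hD φ σ r).map (MulAut.conj g).toMonoidHom = pre hD φ σ (wrL l r) ∧
    (Y hD φ σ r).map (MulAut.conj g).toMonoidHom = Y hD φ σ (wrL l r) ∧ wrL l r ∈ e6Twist.reps := by
  induction l with
  | nil => exact ⟨1, fun r hr => ⟨RGD.RootData.map_conj_one _, RGD.RootData.map_conj_one _, hr⟩⟩
  | cons a l ih =>
    obtain ⟨g, hg⟩ := ih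
    obtain ⟨n, hn⟩ := exists_ns E a
    refine ⟨n * g, fun r hr => ?_⟩
    obtain ⟨e1, e2, e3⟩ := hg r hr
    rw [RGD.RootData.map_conj_mul, e1, map_pre_N hn e3, RGD.RootData.map_conj_mul, e2, map_Y_N hn e3]
    exact ⟨rfl, rfl, (wr_table a _ e3).1⟩

/-! ### Commutation -/

/-- Preimages of separated commuting root subgroups commute. -/
theorem commute_crit {r s : ℕ} (hr : r ∈ e6Twist.reps) (hs : s ∈ e6Twist.reps) (hcm : CommOrb r s)
    (hc : Crit r s) {x y : Γ} (hx : x ∈ pre hD φ σ r) (hy : y ∈ pre hD φ σ s) : x * y = y * x := by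
  obtain ⟨a, ha, ea⟩ := eq_o hr hx
  obtain ⟨b, hb, eb⟩ := eq_o hs hy
  refine commute_of_vanish E.central (fun t : fixS φ r => o r t.1) (fun t : fixS φ s => o s t.1)
    (fun t => let ⟨g, _, e⟩ := exists_o E hr t.2; ⟨g, e⟩) (fun t => let ⟨g, _, e⟩ := exists_o E hs t.2; ⟨g, e⟩)
    (fun t t' => (ctxE6 hD φ).orb_add hr t.1 t'.1) (fun t t' => (ctxE6 hD φ).orb_add hs t.1 t'.1)
    (fun t t' => commute_o hD φ hcm hr hs t.1 t'.1) ?_ (a := ⟨a, ha⟩) (b := ⟨b, hb⟩) ea eb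
  intro β hl hr' hinv
  refine pairing_crit hD φ E.hyp E.three_le hc β hl hr' fun X hX l m el em => ?_
  obtain ⟨g, -, eg⟩ := exists_theta E hX
  refine hinv g l m (fun t => ?_) (fun t => ?_)
  · rw [eg, el]; exact theta_conj_orb (ctxE6 hD φ) hX hr _
  · rw [eg, em]; exact theta_conj_orb (ctxE6 hD φ) hX hs _

/-- Preimages of short root subgroups are abelian. -/
theorem pre_short_abel {r : ℕ} (hr : r ∈ shorts) {x y : Γ} (hx : x ∈ pre hD φ σ r) (hy : y ∈ pre hD φ σ r) :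
    x * y = y * x := by
  have hr' := (len_eq.2.1 r hr).1
  obtain ⟨a, -, ea⟩ := eq_o hr' hx
  obtain ⟨b, -, eb⟩ := eq_o hr' hy
  refine commute_of_vanish E.central (fun t : K => o r t) (fun t : K => o r t)
    (fun t => let ⟨g, _, e⟩ := exists_o E hr' (short_fix E hr t); ⟨g, e⟩)
    (fun t => let ⟨g, _, e⟩ := exists_o E hr' (short_fix E hr t); ⟨g, e⟩)
    (fun t t' => (ctxE6 hD φ).orb_add hr' t t') (fun t t' => (ctxE6 hD φ).orb_add hr' t t')
    (fun t t' => commute_o hD φ (diag_table r hr).1 hr' hr' t t') ?_ ea eb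
  intro β hl hr'' hinv
  refine pairing_zero_diag β hl hr'' (fun c hc => ?_) (exists_three hD φ E.hyp E.three_le)
  obtain ⟨X, hX, h1⟩ := exists_dil hD φ E.hyp hr (Units.mk0 c hc)
  obtain ⟨g, -, eg⟩ := exists_theta E hX
  have e : ∀ t, σ g * o r t * (σ g)⁻¹ = o r (c * t) := fun t => by
    rw [eg, theta_conj_orb (ctxE6 hD φ) hX hr', h1]; rfl
  exact hinv g _ _ e e

/-- Preimages of long root subgroups are abelian. -/
theorem pre_long_abel {r : ℕ} (hr : r ∈ longs) {x y : Γ} (hx : x ∈ pre hD φ σ r) (hy : y ∈ pre hD φ σ r) :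
    x * y = y * x := by
  obtain ⟨⟨r, c, d, e⟩, hd, rfl⟩ := dec_cover r hr
  obtain ⟨hr', hc', hd', ht, n1, n2, he, hlt⟩ := dec_table _ hd
  obtain ⟨c1, c2⟩ := dec_comm _ hd
  obtain ⟨k1, k2⟩ := dec_crit _ hd
  have rr := (len_eq.1 _ hr').1
  have rc := (len_eq.1 _ hc').1
  have rd := (len_eq.1 _ hd').1
  obtain ⟨t, htf, ety⟩ := eq_o rr hy
  rw [long_fix hr'] at htf
  obtain ⟨A, hA, eA⟩ := exists_o E rd (t := (1 : K)) ((long_fix hd' _).2 (map_one φ))
  obtain ⟨B, hB, eB⟩ := exists_o E rc (t := -((e : K) * t))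
    ((long_fix hc' _).2 (by rw [map_neg, map_mul, map_intCast, htf]))
  have hσ : σ ⁅A, B⁆ = σ y := by
    have e1 : ∀ {s : ℕ}, e6Twist.len s = 1 → ∀ v, o s v = gx hD K s v := fun h v =>
      (ctxE6 hD φ).orb_of_len_one h v
    rw [map_commutatorElement, eA, eB, ety, e1 (len_eq.1 _ hr').2, e1 (len_eq.1 _ hc').2, e1 (len_eq.1 _ hd').2,
      gx_bracket hD (e6Twist_ok.rep_lt _ rc).1 (e6Twist_ok.rep_lt _ rd).1 n2 n1 ht]
    congr 1
    have hee : (e : K) * (e : K) = 1 := by rw [← Int.cast_mul, he, Int.cast_one]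
    rw [mul_one, mul_neg, _root_.neg_neg, ← mul_assoc, hee, one_mul]
  obtain ⟨k, hk, rfl⟩ := ChevSt.exists_ker_mul E.central hσ
  have hxA : Commute x A := commute_crit E rr rd c2 k2 hx hA
  have hxB : Commute x B := commute_crit E rr rc c1 k1 hx hB
  have hxAB : Commute x ⁅A, B⁆ := by
    rw [commutatorElement_def]
    exact ((hxA.mul_right hxB).mul_right hxA.inv_right).mul_right hxB.inv_right
  exact hxAB.mul_right (Subgroup.mem_center_iff.1 (E.central hk) x)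

theorem pre_abel {r : ℕ} (hr : r ∈ e6Twist.reps) {x y : Γ} (hx : x ∈ pre hD φ σ r) (hy : y ∈ pre hD φ σ r) :
    x * y = y * x := by
  rcases len_eq.2.2 r hr with h | h
  · exact pre_long_abel E h hx hy
  · exact pre_short_abel E h hx hy

/-- The preimages of the pair 51, 63 commute. -/
theorem commute_base {x y : Γ} (hx : x ∈ pre hD φ σ 63) (hy : y ∈ pre hD φ σ 51) : x * y = y * x := by
  obtain ⟨k1, k2⟩ := pair_crit
  obtain ⟨c1, c2, -⟩ := pair_comm
  have r63 := (len_eq.1 63 (by simp)).1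
  have r51 := (len_eq.1 51 (by simp)).1
  have r42 := (len_eq.2.1 42 (by simp)).1
  have r48 := (len_eq.2.1 48 (by simp)).1
  obtain ⟨t, ht, et⟩ := eq_o r51 hy
  rw [long_fix (by simp)] at ht
  obtain ⟨w, hw⟩ := exists_trace hD φ E.hyp
  set T := w + φ w with hT
  have hfT : φ T = T := by rw [hT, map_add, phi_two hD φ E.hyp, add_comm]
  obtain ⟨A, hA, eA⟩ := exists_o E r48 (short_fix E (r := 48) (by simp) (1 : K))
  obtain ⟨B, hB, eB⟩ := exists_o E r42 (short_fix E (r := 42) (by simp) (-(t / T) * w))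
  have hσ : σ ⁅A, B⁆ = σ y := by
    rw [map_commutatorElement, eA, eB, et, bracket_o hD φ,
      show o 51 t = gx hD K 51 t from (ctxE6 hD φ).orb_of_len_one (len_eq.1 51 (by simp)).2 t]
    congr 1
    rw [map_mul, map_neg, map_div₀, ht, hfT, ← mul_add, ← hT, neg_mul, _root_.neg_neg, div_mul_cancel₀ t hw]
  obtain ⟨k, hk, rfl⟩ := ChevSt.exists_ker_mul E.central hσ
  have hxA : Commute x A := commute_crit E r63 r48 c2 k2 hx hA
  have hxB : Commute x B := commute_crit E r63 r42 c1 k1 hx hB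
  have hxAB : Commute x ⁅A, B⁆ := by
    rw [commutatorElement_def]
    exact ((hxA.mul_right hxB).mul_right hxA.inv_right).mul_right hxB.inv_right
  exact hxAB.mul_right (Subgroup.mem_center_iff.1 (E.central hk) x)

/-- Preimages of the positive pairs not separated by the torus commute. -/
theorem commute_word (l : List (Fin 4)) {x y : Γ} (hx : x ∈ pre hD φ σ (wrL l 63))
    (hy : y ∈ pre hD φ σ (wrL l 51)) : x * y = y * x := by
  obtain ⟨g, hg⟩ := exists_word E l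
  rw [← (hg 63 (len_eq.1 63 (by simp)).1).1] at hx
  rw [← (hg 51 (len_eq.1 51 (by simp)).1).1] at hy
  obtain ⟨x, hx', rfl⟩ := hx
  obtain ⟨y, hy', rfl⟩ := hy
  rw [← map_mul, ← map_mul, commute_base E hx' hy']

/-! ### The lifts -/

/-- A torus element moving a root subgroup without fixed points. -/
theorem exists_fpf {r : ℕ} (hr : r ∈ e6Twist.reps) : ∃ g ∈ preH hD φ σ,
    (∀ x ∈ pre hD φ σ r, Commute (σ g) (σ x) → σ x = 1) ∧
    (∀ x ∈ pre hD φ σ r, ∃ y ∈ pre hD φ σ r, σ ⁅g, y⁆ = σ x) := by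
  obtain ⟨u, hu, hu1⟩ := exists_unit hD φ E.hyp E.three_le
  obtain ⟨k, hk, hp⟩ := fpf_table r hr
  obtain ⟨X, hX, hχ⟩ := exists_torK φ hu hk
  obtain ⟨g, hg, eg⟩ := exists_theta E hX
  have hf : φ (u : K) = u := congrArg Units.val hu
  obtain ⟨c, hc, hcf, hc1⟩ : ∃ c : K, (chiX X r : K) = c ∧ φ c = c ∧ c - 1 ≠ 0 := by
    rcases hp with e | e
    · exact ⟨u, by rw [hχ, e]; simp, hf, sub_ne_zero.2 fun h => hu1 (Units.ext h)⟩
    · exact ⟨(u⁻¹ : Kˣ), by rw [hχ, e]; simp, by rw [Units.val_inv_eq_inv_val, map_inv₀, hf],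
        sub_ne_zero.2 fun h => hu1 (inv_eq_one.1 (Units.ext h))⟩
  refine ⟨g, hg, fun x hx hcm => ?_, fun x hx => ?_⟩
  · obtain ⟨t, -, et⟩ := eq_o hr hx
    have h2 : σ g * σ x * (σ g)⁻¹ = σ x := by rw [hcm.eq, mul_inv_cancel_right]
    rw [et, eg, theta_conj_orb (ctxE6 hD φ) hX hr, hc] at h2
    have h3 := (ctxE6 hD φ).orb_inj hr h2
    have : (c - 1) * t = 0 := by linear_combination h3
    rw [et, (mul_eq_zero.1 this).resolve_left hc1]
    exact (ctxE6 hD φ).orb_zero r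
  · obtain ⟨t, ht, et⟩ := eq_o hr hx
    obtain ⟨y, hy, ey⟩ := exists_o E hr (t := (c - 1)⁻¹ * t)
      (fixS_mul φ (by rw [map_inv₀, map_sub, hcf, map_one]) ht)
    refine ⟨y, hy, ?_⟩
    rw [map_commutatorElement, ey, eg, commutatorElement_def, theta_conj_orb (ctxE6 hD φ) hX hr, hc, et,
      mul_inv_eq_iff_eq_mul, ← (ctxE6 hD φ).orb_add hr]
    congr 1
    field_simp
    ring

theorem Y_inj {r : ℕ} (hr : r ∈ e6Twist.reps) : ∀ w ∈ Y hD φ σ r, σ w = 1 → w = 1 := by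
  obtain ⟨g, hg, hf1, hf2⟩ := exists_fpf E hr
  intro w hw h1
  refine eq_one_of_bracket E.central (fun x hx y hy => pre_abel E hr hx hy) (h := g)
    (fun x hx => (map_pre_H hg hr).le ⟨x, hx, rfl⟩) hf1
    (S := {w | ∃ x ∈ pre hD φ σ r, w = ⁅g, x⁆}) (fun _ h => h) ?_ h1
  refine (?_ : Y hD φ σ r ≤ _) hw
  rw [Y, Subgroup.commutator_le]
  intro h hh p hp
  obtain ⟨p', hp', ep⟩ := hf2 p hp
  rw [bracket_congr E.central (rfl : σ h = σ h) ep.symm]
  have e1 : h * ⁅g, p'⁆ * h⁻¹ = ⁅g, h * p' * h⁻¹⁆ := by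
    rw [show h * ⁅g, p'⁆ * h⁻¹ = ⁅h * g * h⁻¹, h * p' * h⁻¹⁆ by simp only [commutatorElement_def]; group]
    exact bracket_congr E.central (by rw [map_mul, map_mul, map_inv, (preH_comm hh hg).eq, mul_inv_cancel_right]) rfl
  have hp'' : h * p' * h⁻¹ ∈ pre hD φ σ r := (map_pre_H hh hr).le ⟨p', hp', rfl⟩
  rw [show ⁅h, ⁅g, p'⁆⁆ = h * ⁅g, p'⁆ * h⁻¹ * ⁅g, p'⁆⁻¹ from commutatorElement_def _ _, e1]
  exact mul_mem (Subgroup.subset_closure ⟨_, hp'', rfl⟩) (inv_mem (Subgroup.subset_closure ⟨_, hp', rfl⟩))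

omit E in
theorem Y_le_pre {r : ℕ} (hr : r ∈ e6Twist.reps) : Y hD φ σ r ≤ pre hD φ σ r := by
  rw [Y, Subgroup.commutator_le]
  exact fun h hh p hp => by
    rw [commutatorElement_def]
    exact mul_mem ((map_pre_H hh hr).le ⟨p, hp, rfl⟩) (inv_mem hp)

theorem Y_map {r : ℕ} (hr : r ∈ e6Twist.reps) : (Y hD φ σ r).map σ = (ctxE6 hD φ).Uo r := by
  refine le_antisymm (Subgroup.map_le_iff_le_comap.2 (Y_le_pre hr)) fun x hx => ?_
  obtain ⟨g, hg, -, hf⟩ := exists_fpf E hr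
  obtain ⟨p, rfl⟩ := exists_of_mem E (Uo_le hD hr hx)
  obtain ⟨y, hy, e⟩ := hf p hx
  exact ⟨_, Subgroup.commutator_mem_commutator hg hy, e⟩

end Ext

end Cfsg.Agent.TwistMult.E6
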