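/-
Central extensions of ²E₆(q), q ≥ 3: the lifted positive unipotent subgroup.

* `Vl L` : the subgroup generated by the lifts of a list of roots;
* `Inv L`, `inv_of_chk` : along an admissible ordering each lift normalises the span of the later ones,
  and the spans meet the kernel trivially.
-/
import Cfsg.Agent.Lib.TwistMult.E6Base

set_option autoImplicit false
set_option maxRecDepth 100000
set_option linter.unusedSectionVars false

namespace Cfsg.Agent.TwistMult.E6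

open Cfsg.Lie Cfsg.Lie.ChevalleyDatum Cfsg.Agent.Chev Cfsg.Agent.TwistE6D4
open Cfsg.Agent.TwistMult.D4 (theta_conj_orb span_inf bracket_lev)
open scoped commutatorElement

universe u

variable {K : Type u} [Field K] [Fintype K] (hD : Good chevE6) (φ : K →+* K) {q : ℕ}
  {Γ : Type u} [Group Γ] [Finite Γ] (σ : Γ →* GL chevE6.Idx K)

/-- The subgroup generated by the lifts of a list of roots. -/
def Vl : List ℕ → Subgroup Γ
  | [] => ⊥
  | r :: L => Y hD φ σ r ⊔ Vl L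

/-- Along the list each lift normalises the later span, and the spans meet the kernel trivially. -/
def Inv : List ℕ → Prop
  | [] => True
  | r :: L => (∀ v ∈ Vl hD φ σ (r :: L), σ v = 1 → v = 1) ∧
      (∀ y ∈ Y hD φ σ r, ∀ v ∈ Vl hD φ σ L, y * v * y⁻¹ ∈ Vl hD φ σ L) ∧ Inv L

variable {hD φ σ}

local notation "o" => orb hD e6Twist φ

theorem Y_le_Vl {r : ℕ} : ∀ {L : List ℕ}, r ∈ L → Y hD φ σ r ≤ Vl hD φ σ L
  | s :: L, h => by
    rcases List.mem_cons.1 h with rfl | h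
    · exact le_sup_left
    · exact le_sup_of_le_right (Y_le_Vl h)

theorem Vl_le {V : Subgroup Γ} : ∀ {L : List ℕ}, (∀ r ∈ L, Y hD φ σ r ≤ V) → Vl hD φ σ L ≤ V
  | [], _ => bot_le
  | _ :: _, h => sup_le (h _ List.mem_cons_self) (Vl_le fun r hr => h r (List.mem_cons_of_mem _ hr))

theorem inj_of_inv : ∀ {L : List ℕ}, Inv hD φ σ L → ∀ v ∈ Vl hD φ σ L, σ v = 1 → v = 1
  | [], _ => fun _ hv _ => Subgroup.mem_bot.1 hv
  | _ :: _, h => h.1

theorem conj_sup {A B : Subgroup Γ} {g : Γ} {V : Subgroup Γ} (hA : ∀ v ∈ A, g * v * g⁻¹ ∈ V)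
    (hB : ∀ v ∈ B, g * v * g⁻¹ ∈ V) : ∀ v ∈ A ⊔ B, g * v * g⁻¹ ∈ V := fun _ hv =>
  (sup_le (fun w hw => hA w hw) (fun w hw => hB w hw) :
    A ⊔ B ≤ V.comap (MulAut.conj g).toMonoidHom) hv

/-- Commutators of two positive orbit subgroups lie in the roots of larger height. -/
theorem bracket_high {h : ℕ} {a b : ℕ} (ha : a ∈ e6Twist.reps) (hb : b ∈ e6Twist.reps)
    (h1 : 0 < e6Twist.ht a) (h2 : 0 < e6Twist.ht b) (hh : (h : ℤ) < e6Twist.ht a + e6Twist.ht b)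
    {g k : GL chevE6.Idx K} (hg : g ∈ (ctxE6 hD φ).Uo a) (hk : k ∈ (ctxE6 hD φ).Uo b) :
    ⁅g, k⁆ ∈ ⨆ r ∈ {r : (ctxE6 hD φ).Orb | ((h : ℕ) : ℤ) + 1 ≤ e6Twist.ht r.1}, (ctxE6 hD φ).Uo r.1 := by
  let C := ctxE6 hD φ
  have hmem : ∀ {r}, r ∈ e6Twist.reps → 0 < e6Twist.ht r → ∀ x ∈ C.orbS r, x ∈ C.posSet ∧ C.T.ht x = C.T.ht r :=
    fun hr h0 x hx => by
      obtain ⟨e1, e2⟩ := C.orbS_pos (r := ⟨_, hr⟩) hx
      exact ⟨⟨e1, e2 ▸ h0⟩, e2⟩
  have hl := bracket_lev C C.hT.isLin_ht C.posSet_ok.closed (h := h) (A := C.orbS a) (B := C.orbS b)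
    (fun x hx => (hmem ha h1 x hx).1) (fun x hx => (hmem hb h2 x hx).1)
    (fun x hx y hy => by rw [(hmem ha h1 x hx).2, (hmem hb h2 y hy).2]; exact hh) hg.1 hk.1
  have hfix : ⁅g, k⁆ ∈ Fix C.hT C.φ := by
    rw [commutatorElement_def]
    exact mul_mem (mul_mem (mul_mem hg.2 hk.2) (inv_mem hg.2)) (inv_mem hk.2)
  refine C.Uo_le_span _ (f := C.T.ht) (S := {x | x ∈ C.posSet ∧ ((h + 1 : ℕ) : ℤ) ≤ C.T.ht x}) ⟨C.hT.isLin_ht,
    ⟨fun _ hx => hx.1.1, fun _ hx => hx.1.2, fun r hr s hs hsr τ hτ => ?_⟩, C.hT.ht_rho,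
    fun x hx => ⟨C.posSet_ok.stable x hx.1, by rw [C.hT.ht_rho x hx.1.1]; exact hx.2⟩⟩ (fun r hr => ?_) ⟨?_, hfix⟩
  · have hp1 : 0 < C.T.ht r := hr.1.2
    have hp2 : 0 < C.T.ht s := hs.1.2
    have hn : s ≠ chevE6.neg r := fun e => by
      rw [e, C.hT.ht_neg r hr.1.1] at hp2
      omega
    obtain ⟨e1, e4, e5, e6⟩ := C.hT.isLin_ht.commTerms C.hD hr.1.1 hs.1.1 hsr hn hτ
    have a1 : C.T.ht r ≤ (τ.2.2.1 : ℤ) * C.T.ht r := le_mul_of_one_le_left hp1.le (by exact_mod_cast e4)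
    have a2 : C.T.ht s ≤ (τ.2.2.2 : ℤ) * C.T.ht s := le_mul_of_one_le_left hp2.le (by exact_mod_cast e5)
    have a3 := hr.2
    exact ⟨⟨e1, by omega⟩, by omega⟩
  · have := hr.2; push_cast at this; exact this
  · exact hl

section Ext

variable (E : Ext hD φ q σ)
include E

omit E in
theorem H_normal {g : Γ} (hg : g ∈ preH hD φ σ) : ∀ {L : List ℕ}, (∀ r ∈ L, r ∈ e6Twist.reps) →
    ∀ v ∈ Vl hD φ σ L, g * v * g⁻¹ ∈ Vl hD φ σ L
  | [], _ => fun v hv => by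
    rw [Subgroup.mem_bot.1 hv, mul_one, mul_inv_cancel]; exact one_mem _
  | r :: L, h => conj_sup
      (fun v hv => Subgroup.mem_sup_left ((map_Y_H hg (h r List.mem_cons_self)).le ⟨v, hv, rfl⟩))
      (fun v hv => Subgroup.mem_sup_right
        (H_normal hg (fun s hs => h s (List.mem_cons_of_mem _ hs)) v hv))

/-- Commutators of the lifts of two positive roots lie in the span of higher ones. -/
theorem bracket_step {r s : ℕ} (hr : r ∈ posReps) (hs : s ∈ posReps) (hne : r ≠ s)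
    (hle : e6Twist.ht r ≤ e6Twist.ht s) {L : List ℕ} (hL : ∀ t ∈ L, t ∈ e6Twist.reps)
    (hhigh : ∀ t ∈ posReps, e6Twist.ht s < e6Twist.ht t → t ∈ L)
    (hinj : ∀ v ∈ Vl hD φ σ L, σ v = 1 → v = 1)
    (hnr : ∀ y ∈ Y hD φ σ r, ∀ v ∈ Vl hD φ σ L, y * v * y⁻¹ ∈ Vl hD φ σ L)
    (hns : ∀ y ∈ Y hD φ σ s, ∀ v ∈ Vl hD φ σ L, y * v * y⁻¹ ∈ Vl hD φ σ L)
    {y v : Γ} (hy : y ∈ Y hD φ σ r) (hv : v ∈ Y hD φ σ s) : ⁅y, v⁆ ∈ Vl hD φ σ L := by
  obtain ⟨hr', hr0⟩ := pos_iff.1 r hr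
  obtain ⟨hs', hs0⟩ := pos_iff.1 s hs
  rcases pair_table r hr s hs hne with hc | ⟨l, -, ⟨e1, e2⟩ | ⟨e1, e2⟩⟩
  rotate_left
  · have e : v * y = y * v := by
      subst e1 e2
      exact commute_word E l (Y_le_pre hs' hv) (Y_le_pre hr' hy)
    rw [commutatorElement_eq_one_iff_mul_comm.2 e.symm]; exact one_mem _
  · have e : y * v = v * y := by
      subst e1 e2
      exact commute_word E l (Y_le_pre hr' hy) (Y_le_pre hs' hv)
    rw [commutatorElement_eq_one_iff_mul_comm.2 e]; exact one_mem _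
  choose la hla ela using fun t : fixS φ r => (Y_map E hr').ge ((ctxE6 hD φ).orb_mem_Uo hr' t.2)
  choose lb hlb elb using fun t : fixS φ s => (Y_map E hs').ge ((ctxE6 hD φ).orb_mem_Uo hs' t.2)
  obtain ⟨a, ha, ea⟩ := eq_o hr' (Y_le_pre hr' hy)
  obtain ⟨b, hb, eb⟩ := eq_o hs' (Y_le_pre hs' hv)
  rw [show y = la ⟨a, ha⟩ from mul_inv_eq_one.1 (Y_inj E hr' _ (mul_mem hy (inv_mem (hla _)))
      (by rw [map_mul, map_inv, ea, ela, mul_inv_cancel])),
    show v = lb ⟨b, hb⟩ from mul_inv_eq_one.1 (Y_inj E hs' _ (mul_mem hv (inv_mem (hlb _)))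
      (by rw [map_mul, map_inv, eb, elb, mul_inv_cancel]))]
  refine bracket_mem_of_vanish E.central la lb hinj
    (fun t t' => by rw [ela, ela, ela]; exact (ctxE6 hD φ).orb_add hr' t.1 t'.1)
    (fun t t' => by rw [elb, elb, elb]; exact (ctxE6 hD φ).orb_add hs' t.1 t'.1)
    (fun t => hnr _ (hla t)) (fun t => hns _ (hlb t)) (fun t u => ?_) (fun β hl hr'' hinv => ?_) _ _
  · obtain ⟨h, hh⟩ : ∃ h : ℕ, (h : ℤ) + 1 = e6Twist.ht r + e6Twist.ht s :=
      ⟨(e6Twist.ht r + e6Twist.ht s - 1).toNat, by omega⟩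
    have hb' := bracket_high (hD := hD) (φ := φ) (h := h) hr' hs' hr0 hs0 (by omega)
      (Y_le_pre hr' (hla t)) (Y_le_pre hs' (hlb u))
    rw [← map_commutatorElement] at hb'
    refine SetLike.le_def.1 (iSup₂_le fun p hp => ?_) hb'
    have hp' : (h : ℤ) + 1 ≤ e6Twist.ht p.1 := hp
    rw [← Y_map E p.2]
    exact Subgroup.map_mono (Y_le_Vl (hhigh p.1 (pos_iff.2 p.1 p.2 (by omega)) (by omega)))
  · refine pairing_crit hD φ E.hyp E.three_le hc β hl hr'' fun X hX l m el em => ?_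
    obtain ⟨g, hg, eg⟩ := exists_theta E hX
    refine hinv g l m (H_normal hg hL) (fun t => ?_) (fun t => ?_)
    · rw [map_mul, map_mul, map_inv, eg, ela, ela, el]; exact theta_conj_orb (ctxE6 hD φ) hX hr' _
    · rw [map_mul, map_mul, map_inv, eg, elb, elb, em]; exact theta_conj_orb (ctxE6 hD φ) hX hs' _

omit [Fintype K] [Group Γ] [Finite Γ] E in
theorem mem_reps_of_chk : ∀ {L : List ℕ}, chk L = true → ∀ r ∈ L, r ∈ posReps
  | _ :: _, h, t, ht => by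
    obtain ⟨h1, h2, -⟩ := chk_cons h
    rcases List.mem_cons.1 ht with rfl | ht
    · exact h2
    · exact mem_reps_of_chk h1 t ht

/-- A lift normalises the span of roots of at least its height. -/
theorem norm_step {r : ℕ} (hr : r ∈ posReps) : ∀ {L : List ℕ}, chk L = true → Inv hD φ σ L → r ∉ L →
    (∀ s ∈ L, e6Twist.ht r ≤ e6Twist.ht s) → ∀ y ∈ Y hD φ σ r, ∀ v ∈ Vl hD φ σ L, y * v * y⁻¹ ∈ Vl hD φ σ L
  | [], _, _, _, _ => fun y _ v hv => by
    rw [Subgroup.mem_bot.1 hv, mul_one, mul_inv_cancel]; exact one_mem _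
  | s :: L, hL, hI, hne, hle => fun y hy => by
    obtain ⟨hL', hs, -, -, hhigh, -⟩ := chk_cons hL
    have ih := norm_step hr hL' hI.2.2 (fun h => hne (List.mem_cons_of_mem _ h))
      (fun t ht => hle t (List.mem_cons_of_mem _ ht))
    refine conj_sup (fun v hv => ?_) (fun v hv => Subgroup.mem_sup_right (ih y hy v hv))
    rw [show y * v * y⁻¹ = ⁅y, v⁆ * v by simp only [commutatorElement_def]; group]
    refine mul_mem (Subgroup.mem_sup_right ?_) (Subgroup.mem_sup_left hv)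
    exact bracket_step E hr hs (fun h => hne (h ▸ List.mem_cons_self)) (hle s List.mem_cons_self)
      (fun t ht => (pos_iff.1 t (mem_reps_of_chk hL' t ht)).1) hhigh (inj_of_inv hI.2.2) ih hI.2.1 hy hv

theorem map_Vl_le {L : List ℕ} (hL : ∀ r ∈ L, r ∈ e6Twist.reps) :
    (Vl hD φ σ L).map σ ≤ ⨆ s ∈ {s : (ctxE6 hD φ).Orb | s.1 ∈ L}, (ctxE6 hD φ).Uo s.1 := by
  refine Subgroup.map_le_iff_le_comap.2 (Vl_le fun r hr x hx => ?_)
  let A : Set (ctxE6 hD φ).Orb := {s | s.1 ∈ L}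
  let r' : (ctxE6 hD φ).Orb := ⟨r, hL r hr⟩
  have hA : r' ∈ A := hr
  have h1 : σ x ∈ (ctxE6 hD φ).Uo r := Y_map E (hL r hr) ▸ Subgroup.mem_map_of_mem σ hx
  exact Subgroup.mem_iSup_of_mem r' (Subgroup.mem_iSup_of_mem hA h1)

theorem inv_of_chk : ∀ {L : List ℕ}, chk L = true → Inv hD φ σ L
  | [], _ => trivial
  | r :: L, h => by
    obtain ⟨hL, hr, hne, hsep, -, hle⟩ := chk_cons h
    have hI := inv_of_chk hL
    have hn := norm_step E hr hL hI hne hle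
    have hLr : ∀ s ∈ L, s ∈ e6Twist.reps := fun s hs => (pos_iff.1 s (mem_reps_of_chk hL s hs)).1
    have hrr := (pos_iff.1 r hr).1
    refine ⟨injOn_sup (Y_inj E hrr) (inj_of_inv hI) hn ?_, hn, hI⟩
    obtain ⟨l, -, h1, h2⟩ := hsep
    let C := ctxE6 hD φ
    have h := span_inf C.rgd (A := {s : C.Orb | s.1 ∈ L}) (r := ⟨r, hrr⟩) l
      (fun hh => h1 ((C.pos_ww l _).1 hh)) (fun s hs => (C.pos_ww l s).2 (h2 s.1 hs))
    rw [eq_bot_iff, Y_map E hrr, ← h]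
    exact inf_le_inf_left _ (map_Vl_le E hLr)

/-- The lifted positive unipotent subgroup meets the kernel trivially. -/
theorem pos_inj : ∀ v ∈ Vl hD φ σ posReps, σ v = 1 → v = 1 := inj_of_inv (inv_of_chk E chk_pos)

/-- A simple lift normalises the span of the other positive ones. -/
theorem conj_simple (a : Fin 4) {x : Γ} (hx : x ∈ Y hD φ σ (pn a)) {r : ℕ} (hr : r ∈ posReps) (hne : r ≠ pn a)
    {y : Γ} (hy : y ∈ Y hD φ σ r) {V : Subgroup Γ} (hV : ∀ s ∈ posReps, s ≠ pn a → Y hD φ σ s ≤ V) :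
    x * y * x⁻¹ ∈ V := by
  have key : ∀ L : List ℕ, L = posReps.filter (fun r => decide (r ≠ pn a)) →
      chk (pn a :: L) = true → x * y * x⁻¹ ∈ V := by
    intro L hL hchk
    have hn := (inv_of_chk (E := E) hchk).2.1 x hx
    have hy' : y ∈ Vl hD φ σ L := Y_le_Vl (hL ▸ List.mem_filter.2 ⟨hr, decide_eq_true hne⟩) hy
    refine Vl_le (fun s hs => ?_) (hn y hy')
    rw [hL] at hs
    exact hV s (List.mem_filter.1 hs).1 (of_decide_eq_true (List.mem_filter.1 hs).2)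
  exact key _ rfl (chk_orders a)

end Ext

end Cfsg.Agent.TwistMult.E6
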