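/-
Central extensions of ²E₆(q), q ≥ 3: the lifts of the torus elements of the simple orbits.

* `yl`, `nh`, `hh` : lifts of root elements, of n_a(t) and of h_a(t); their conjugation rules;
* `hh_mul` : the lifts of h_a are multiplicative; `centralize` : they commute with the preimage of the torus.
-/
import Cfsg.Agent.Lib.TwistMult.E6Pos
import Mathlib.NumberTheory.LegendreSymbol.Basic

set_option autoImplicit false
set_option maxRecDepth 100000
set_option linter.unusedSectionVars false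

namespace Cfsg.Agent.TwistMult.E6

open Cfsg.Lie Cfsg.Lie.ChevalleyDatum Cfsg.Agent.Chev Cfsg.Agent.TwistE6D4
open Cfsg.Agent.TwistMult.D4 (theta_conj_orb)
open Cfsg.Agent.ChevBN (ng)
open scoped commutatorElement

universe u

section General

variable {D : ChevalleyDatum} {K : Type*} [Field K] (C : Ctx D K)

theorem ng_gx {r s : ℕ} (hr : r < D.nroots) (hs : s < D.nroots) {t : K} (ht : t ≠ 0) (u : K) :
    ng C.hD K r t * gx C.hD K s u =
      gx C.hD K (Chev.refl D r s) ((nSign D r s : K) * t ^ (-D.pairing r s) * u) * ng C.hD K r t := by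
  refine Units.ext ?_
  rw [Units.val_mul, Units.val_mul, ChevBN.coe_ng, coe_gx, coe_gx, ChevSt.nMat_conj C.hD hr hs ht]

theorem commute_ng_gx (a : Fin C.m) {k l : ℕ} (hk : k < C.L a) (hl : l < C.L a) (hkl : k ≠ l) (t u : K) :
    Commute (ng C.hD K (C.rk a k) t) (gx C.hD K (C.rk a l) u) ∧
      Commute (ng C.hD K (C.rk a k) t) (gx C.hD K (D.neg (C.rk a l)) u) := by
  rw [ng_eq]
  exact ⟨((C.commute_pp a hk hl _ _).mul_left (C.commute_pm a hl hk (Ne.symm hkl) _ _).symm).mul_left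
      (C.commute_pp a hk hl _ _),
    ((C.commute_pm a hk hl hkl _ _).mul_left (C.commute_mm a hk hl _ _)).mul_left (C.commute_pm a hk hl hkl _ _)⟩

/-- n_a(s) moves a root element of the orbit to the opposite orbit. -/
theorem ns_op (a : Fin C.m) {s : K} (hs : s ≠ 0) (t : K) :
    C.ns a s * C.op a t = C.om a (-(s⁻¹ * s⁻¹ * t)) * C.ns a s := by
  simp only [Ctx.ns, Ctx.op, Ctx.om, Ctx.oprod]
  rw [← prod_map_mul _ _ _ (range_pairwise fun i hi j hj hij => (commute_ng_gx C a hj hi (Ne.symm hij) _ _).1.symm),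
    ← prod_map_mul _ _ _ (range_pairwise fun i hi j hj hij => (commute_ng_gx C a hi hj hij _ _).2)]
  refine congrArg List.prod (List.map_congr_left fun k _ => ?_)
  have hr := C.rk_lt a k
  have hk0 : (⇑C.φ)^[k] s ≠ 0 := by rw [← RingHom.coe_pow]; exact fun h => hs ((map_eq_zero _).1 h)
  rw [ng_gx C hr hr hk0, show Chev.refl D (C.rk a k) (C.rk a k) = D.neg (C.rk a k) by simp [Chev.refl],
    show nSign D (C.rk a k) (C.rk a k) = -1 by simp [nSign], C.hD.pairing_self _ hr]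
  congr 2
  rw [← RingHom.coe_pow, map_neg, map_mul, map_mul, map_inv₀]
  simp [_root_.zpow_ofNat, pow_two, mul_comm]

/-- n_a(1) moves a root element of the opposite orbit back. -/
theorem ns_om (a : Fin C.m) (t : K) : C.ns a 1 * C.om a t = C.op a (-t) * C.ns a 1 := by
  simp only [Ctx.ns, Ctx.op, Ctx.om, Ctx.oprod]
  rw [← prod_map_mul _ _ _ (range_pairwise fun i hi j hj hij => (commute_ng_gx C a hj hi (Ne.symm hij) _ _).2.symm),
    ← prod_map_mul _ _ _ (range_pairwise fun i hi j hj hij => (commute_ng_gx C a hi hj hij _ _).1)]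
  refine congrArg List.prod (List.map_congr_left fun k _ => ?_)
  have hr := C.rk_lt a k
  have hk1 : (⇑C.φ)^[k] (1 : K) = 1 := by rw [← RingHom.coe_pow, map_one]
  rw [hk1, ng_gx C hr (C.hD.neg_lt _ hr) one_ne_zero,
    show Chev.refl D (C.rk a k) (D.neg (C.rk a k)) = C.rk a k by simp [Chev.refl, C.hD.neg_ne _ hr],
    show nSign D (C.rk a k) (D.neg (C.rk a k)) = -1 by simp [nSign], C.hD.pairing_neg_right _ hr]
  congr 2
  rw [← RingHom.coe_pow, map_neg]
  simp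

theorem torVec_mul (a : Fin C.m) (s t : Kˣ) : C.torVec a (s * t) = C.torVec a s * C.torVec a t := by
  funext i
  obtain ⟨b, l, hl, rfl⟩ := C.nd_surj i
  rw [Pi.mul_apply, C.torVec_apply a b _ hl, C.torVec_apply a b _ hl, C.torVec_apply a b _ hl]
  split_ifs
  · exact map_mul _ _ _
  · rw [one_mul]

theorem Pm_mul {a : Fin C.m} {s t : K} (hs : C.Pm a s) (ht : C.Pm a t) : C.Pm a (s * t) := by
  unfold Ctx.Pm at hs ht ⊢
  rw [← RingHom.coe_pow] at hs ht ⊢
  rw [map_mul, hs, ht]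

theorem Pm_inv {a : Fin C.m} {s : K} (hs : C.Pm a s) : C.Pm a s⁻¹ := by
  unfold Ctx.Pm at hs ⊢
  rw [← RingHom.coe_pow] at hs ⊢
  rw [map_inv₀, hs]

/-- A bimultiplicative symbol on a cyclic group is symmetric. -/
theorem symbol_pow {A B : Type*} [Monoid A] [Group B] {c : A → A → B} (hl : ∀ s s' t, c (s * s') t = c s t * c s' t)
    (hr : ∀ s t t', c s (t * t') = c s t * c s t') (w : A) : ∀ i j : ℕ, c (w ^ i) (w ^ j) = c w w ^ (i * j) := by
  have hone : ∀ t, c 1 t = 1 ∧ c t 1 = 1 := fun t =>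
    ⟨by simpa using (hl 1 1 t).symm, by simpa using (hr t 1 1).symm⟩
  have h1 : ∀ j : ℕ, c w (w ^ j) = c w w ^ j := fun j => by
    induction j with
    | zero => simp [(hone w).2]
    | succ j ih => rw [pow_succ, hr, ih, pow_succ]
  intro i j
  induction i with
  | zero => simp [(hone (w ^ j)).1]
  | succ i ih => rw [pow_succ, hl, ih, h1, ← pow_add, Nat.succ_mul]

end General

variable {K : Type u} [Field K] [Fintype K] (hD : Good chevE6) (φ : K →+* K) {q : ℕ}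
  {Γ : Type u} [Group Γ] [Finite Γ] (σ : Γ →* GL chevE6.Idx K)

local notation "o" => orb hD e6Twist φ

open Classical in
/-- The chosen lift of a root element. -/
noncomputable def yl (r : ℕ) (t : K) : Γ :=
  if h : ∃ g ∈ Y hD φ σ r, σ g = o r t then Classical.choose h else 1

/-- The lift of n_a(t). -/
noncomputable def nh (a : Fin 4) (t : K) : Γ :=
  yl hD φ σ (pn a) t * yl hD φ σ (mn a) (-t⁻¹) * yl hD φ σ (pn a) t

/-- The lift of h_a(t). -/
noncomputable def hh (a : Fin 4) (t : Kˣ) : Γ := nh hD φ σ a (t : K) * (nh hD φ σ a 1)⁻¹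

variable {hD φ σ} (E : Ext hD φ q σ)
include E

theorem yl_spec {r : ℕ} (hr : r ∈ e6Twist.reps) {t : K} (ht : t ∈ fixS φ r) :
    yl hD φ σ r t ∈ Y hD φ σ r ∧ σ (yl hD φ σ r t) = o r t := by
  have h : ∃ g ∈ Y hD φ σ r, σ g = o r t := (Y_map E hr).ge ((ctxE6 hD φ).orb_mem_Uo hr ht)
  unfold yl
  rw [dif_pos h]
  exact Classical.choose_spec h

theorem yl_unique {r : ℕ} (hr : r ∈ e6Twist.reps) {t : K} (ht : t ∈ fixS φ r) {g : Γ}
    (hg : g ∈ Y hD φ σ r) (e : σ g = o r t) : g = yl hD φ σ r t :=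
  mul_inv_eq_one.1 (Y_inj E hr _ (mul_mem hg (inv_mem (yl_spec E hr ht).1))
    (by rw [map_mul, map_inv, e, (yl_spec E hr ht).2, mul_inv_cancel]))

theorem yl_inv {r : ℕ} (hr : r ∈ e6Twist.reps) {t : K} (ht : t ∈ fixS φ r) :
    (yl hD φ σ r t)⁻¹ = yl hD φ σ r (-t) := by
  refine yl_unique E hr (neg_mem ht) (inv_mem (yl_spec E hr ht).1) ?_
  rw [map_inv, (yl_spec E hr ht).2]
  refine inv_eq_of_mul_eq_one_right ?_
  rw [← (ctxE6 hD φ).orb_add hr, add_neg_cancel]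
  exact (ctxE6 hD φ).orb_zero r

omit [Fintype K] [Group Γ] [Finite Γ] E in
theorem fix_of_pm {hD : Good chevE6} {a : Fin 4} {t : K} (ht : (ctxE6 hD φ).Pm a t) :
    t ∈ fixS φ (pn a) ∧ t ∈ fixS φ (mn a) :=
  ⟨ht, show (⇑φ)^[e6Twist.len (mn a)] t = t by rw [(node_table a).2.2.2.1]; exact ht⟩

theorem map_nh {a : Fin 4} {t : K} (ht : (ctxE6 hD φ).Pm a t) :
    σ (nh hD φ σ a t) = (ctxE6 hD φ).ns a t := by
  obtain ⟨h1, h2, -⟩ := node_table a
  rw [nh, map_mul, map_mul, (yl_spec E h1 (fix_of_pm ht).1).2,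
    (yl_spec E h2 (fix_of_pm ((ctxE6 hD φ).Pm_negInv ht)).2).2,
    (ctxE6 hD φ).ns_eq, (ctxE6 hD φ).op_eq, (ctxE6 hD φ).om_eq]

omit [Fintype K] [Group Γ] [Finite Γ] E in
theorem chiX_mn (hD : Good chevE6) {x : Fin chevE6.rank → Kˣ} (a : Fin 4) :
    chiX x (mn a) = (chiX x (pn a))⁻¹ := by
  rw [chiX, chiX, ← Finset.prod_inv_distrib]
  refine Finset.prod_congr rfl fun i _ => ?_
  rw [mn, hD.cartan_neg _ (hD.simple_lt _ (e6Node a).isLt) i.val i.isLt, zpow_neg]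

theorem conj_yl {g : Γ} {x : Fin chevE6.rank → Kˣ} (hx : x ∈ TorSym e6Twist φ)
    (eg : σ g = theta chevE6 K x) {r : ℕ} (hr : r ∈ e6Twist.reps) {t : K} (ht : t ∈ fixS φ r) :
    g * yl hD φ σ r t * g⁻¹ = yl hD φ σ r ((chiX x r : K) * t) := by
  have hg : g ∈ preH hD φ σ := show σ g ∈ (ctxE6 hD φ).H0 by rw [eg]; exact ⟨x, hx, rfl⟩
  obtain ⟨h1, h2⟩ := yl_spec E hr ht
  have hmem : g * yl hD φ σ r t * g⁻¹ ∈ Y hD φ σ r := (map_Y_H hg hr).le ⟨_, h1, rfl⟩
  have e : σ (g * yl hD φ σ r t * g⁻¹) = o r ((chiX x r : K) * t) := by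
    rw [map_mul, map_mul, map_inv, eg, h2]
    exact theta_conj_orb (ctxE6 hD φ) hx hr t
  obtain ⟨u, hu, eu⟩ := eq_o hr (Y_le_pre hr hmem)
  rw [(ctxE6 hD φ).orb_inj hr (eu.symm.trans e)] at hu
  exact yl_unique E hr hu hmem e

theorem conj_nh {g : Γ} {x : Fin chevE6.rank → Kˣ} (hx : x ∈ TorSym e6Twist φ)
    (eg : σ g = theta chevE6 K x) {a : Fin 4} {t : K} (ht : (ctxE6 hD φ).Pm a t) :
    g * nh hD φ σ a t * g⁻¹ = nh hD φ σ a ((chiX x (pn a) : K) * t) := by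
  obtain ⟨h1, h2, -⟩ := node_table a
  rw [nh, nh, show g * (yl hD φ σ (pn a) t * yl hD φ σ (mn a) (-t⁻¹) * yl hD φ σ (pn a) t) * g⁻¹ =
    g * yl hD φ σ (pn a) t * g⁻¹ * (g * yl hD φ σ (mn a) (-t⁻¹) * g⁻¹) * (g * yl hD φ σ (pn a) t * g⁻¹) by group,
    conj_yl E hx eg h1 (fix_of_pm ht).1, conj_yl E hx eg h2 (fix_of_pm ((ctxE6 hD φ).Pm_negInv ht)).2, chiX_mn hD a,
    Units.val_inv_eq_inv_val, mul_inv, mul_neg]

theorem pm_chi {x : Fin chevE6.rank → Kˣ} (hx : x ∈ TorSym e6Twist φ) (a : Fin 4) :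
    (ctxE6 hD φ).Pm a (chiX x (pn a) : K) :=
  chi_real hD φ E.hyp hx (node_table a).1

theorem nh_inv {a : Fin 4} {t : K} (ht : (ctxE6 hD φ).Pm a t) : (nh hD φ σ a t)⁻¹ = nh hD φ σ a (-t) := by
  obtain ⟨h1, h2, -⟩ := node_table a
  rw [nh, nh, mul_inv_rev, mul_inv_rev, yl_inv E h1 (fix_of_pm ht).1,
    yl_inv E h2 (fix_of_pm ((ctxE6 hD φ).Pm_negInv ht)).2, inv_neg, _root_.neg_neg]
  group

theorem hh_one (a : Fin 4) : hh hD φ σ a 1 = 1 := by simp [hh]

theorem map_hh {a : Fin 4} {t : Kˣ} (ht : (ctxE6 hD φ).Pm a (t : K)) :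
    σ (hh hD φ σ a t) = theta chevE6 K ((ctxE6 hD φ).torVec a t) := by
  rw [hh, map_mul, map_inv, map_nh E ht, map_nh E ((ctxE6 hD φ).Pm_one a)]
  have e := (ctxE6 hD φ).ns_inv a 1
  rw [Units.val_one] at e
  rw [e, (ctxE6 hD φ).ns_mul_ns]
  simp

theorem hh_mem_preH {a : Fin 4} {t : Kˣ} (ht : (ctxE6 hD φ).Pm a (t : K)) : hh hD φ σ a t ∈ preH hD φ σ := by
  show σ _ ∈ (ctxE6 hD φ).H0
  rw [map_hh E ht]
  exact ⟨_, (ctxE6 hD φ).torVec_mem a ht, rfl⟩

/-- The lift of n_a(t) moves the positive lift to the negative one. -/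
theorem nh_conj_p {a : Fin 4} {s : Kˣ} (hs : (ctxE6 hD φ).Pm a (s : K)) {t : K} (ht : (ctxE6 hD φ).Pm a t) :
    nh hD φ σ a (s : K) * yl hD φ σ (pn a) t * (nh hD φ σ a (s : K))⁻¹ =
      yl hD φ σ (mn a) (-((s : K)⁻¹ * (s : K)⁻¹ * t)) := by
  obtain ⟨h1, h2, -, -, hw, -⟩ := node_table a
  have hv := (fix_of_pm ((ctxE6 hD φ).Pm_neg (Pm_mul (ctxE6 hD φ) (Pm_mul (ctxE6 hD φ) (Pm_inv (ctxE6 hD φ) hs)
    (Pm_inv (ctxE6 hD φ) hs)) ht))).2
  refine yl_unique E h2 hv ?_ ?_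
  · have hn := map_nh E ((ctxE6 hD φ).Pm_one a)
    have hg := hh_mem_preH E hs
    have h3 : nh hD φ σ a 1 * yl hD φ σ (pn a) t * (nh hD φ σ a 1)⁻¹ ∈ Y hD φ σ (mn a) := by
      rw [← hw]; exact (map_Y_N hn h1).le ⟨_, (yl_spec E h1 (fix_of_pm ht).1).1, rfl⟩
    rw [show nh hD φ σ a (s : K) * yl hD φ σ (pn a) t * (nh hD φ σ a (s : K))⁻¹ = hh hD φ σ a s *
      (nh hD φ σ a 1 * yl hD φ σ (pn a) t * (nh hD φ σ a 1)⁻¹) * (hh hD φ σ a s)⁻¹ by rw [hh]; group]
    exact (map_Y_H hg h2).le ⟨_, h3, rfl⟩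
  · rw [map_mul, map_mul, map_inv, map_nh E hs, (yl_spec E h1 (fix_of_pm ht).1).2, ← (ctxE6 hD φ).op_eq a,
      ns_op (ctxE6 hD φ) a s.ne_zero, mul_inv_cancel_right, (ctxE6 hD φ).om_eq a]

theorem nh_conj_m {a : Fin 4} {t : K} (ht : (ctxE6 hD φ).Pm a t) :
    nh hD φ σ a 1 * yl hD φ σ (mn a) t * (nh hD φ σ a 1)⁻¹ = yl hD φ σ (pn a) (-t) := by
  obtain ⟨h1, h2, -, -, -, hw, -⟩ := node_table a
  refine yl_unique E h1 (fix_of_pm ((ctxE6 hD φ).Pm_neg ht)).1 ?_ ?_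
  · rw [← hw]
    exact (map_Y_N (map_nh E ((ctxE6 hD φ).Pm_one a)) h2).le ⟨_, (yl_spec E h2 (fix_of_pm ht).2).1, rfl⟩
  · rw [map_mul, map_mul, map_inv, map_nh E ((ctxE6 hD φ).Pm_one a), (yl_spec E h2 (fix_of_pm ht).2).2,
      ← (ctxE6 hD φ).om_eq a, ns_om (ctxE6 hD φ) a, mul_inv_cancel_right, (ctxE6 hD φ).op_eq a]

/-- n_a(1) inverts the parameter of n_a. -/
theorem nh_conj_nh {a : Fin 4} {t : Kˣ} (ht : (ctxE6 hD φ).Pm a (t : K)) :
    nh hD φ σ a 1 * nh hD φ σ a (t : K) * (nh hD φ σ a 1)⁻¹ = nh hD φ σ a ((t⁻¹ : Kˣ) : K) := by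
  have e := nh_conj_p E ht ht
  rw [mul_assoc (t : K)⁻¹, inv_mul_cancel₀ t.ne_zero, mul_one] at e
  set X := yl hD φ σ (pn a) (t : K)
  set Z := yl hD φ σ (mn a) (-(t : K)⁻¹)
  have hn : nh hD φ σ a (t : K) = X * Z * X := rfl
  have hb : nh hD φ σ a (t : K) = Z * X * Z := by
    rw [hn] at e ⊢
    calc X * Z * X = (X * Z * X) * X * (X * Z * X)⁻¹ * (X * Z * X) * X⁻¹ := by group
      _ = Z * (X * Z * X) * X⁻¹ := by rw [e]
      _ = _ := by group
  have p1 := nh_conj_p E (s := 1) ((ctxE6 hD φ).Pm_one a) ht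
  simp only [Units.val_one, inv_one, one_mul] at p1
  have m1 := nh_conj_m E ((ctxE6 hD φ).Pm_negInv ht)
  rw [_root_.neg_neg] at m1
  rw [hb, show ∀ n : Γ, n * (Z * X * Z) * n⁻¹ = n * Z * n⁻¹ * (n * X * n⁻¹) * (n * Z * n⁻¹) from
    fun n => by group, p1, m1, nh, Units.val_inv_eq_inv_val, inv_inv]

/-- Conjugation of the lift of h_a by the torus. -/
theorem conj_hh {g : Γ} {x : Fin chevE6.rank → Kˣ} (hx : x ∈ TorSym e6Twist φ)
    (eg : σ g = theta chevE6 K x) {a : Fin 4} {t : Kˣ} (ht : (ctxE6 hD φ).Pm a (t : K)) :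
    g * hh hD φ σ a t * g⁻¹ = hh hD φ σ a (chiX x (pn a) * t) * (hh hD φ σ a (chiX x (pn a)))⁻¹ := by
  rw [hh, show g * (nh hD φ σ a (t : K) * (nh hD φ σ a 1)⁻¹) * g⁻¹ =
    g * nh hD φ σ a (t : K) * g⁻¹ * (g * nh hD φ σ a 1 * g⁻¹)⁻¹ by group, conj_nh E hx eg ht,
    conj_nh E hx eg ((ctxE6 hD φ).Pm_one a), mul_one, hh, hh, Units.val_mul]
  group

/-- The lift of h_a at a value of the character, as a commutator. -/
theorem hh_chi {g : Γ} {x : Fin chevE6.rank → Kˣ} (hx : x ∈ TorSym e6Twist φ)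
    (eg : σ g = theta chevE6 K x) (a : Fin 4) :
    hh hD φ σ a (chiX x (pn a)) = ⁅g, nh hD φ σ a 1⁆ := by
  have e := conj_nh E hx eg (a := a) ((ctxE6 hD φ).Pm_one a)
  rw [mul_one] at e
  rw [hh, ← e, commutatorElement_def]

/-! ### The rank one group of the short node 42 -/

theorem pm_short (t : K) : (ctxE6 hD φ).Pm (2 : Fin 4) t := hyp_Pm E.hyp (a := (2 : Fin 4)) (e6_len 2) t

theorem hh2_mul (s t : Kˣ) : hh hD φ σ 2 (s * t) = hh hD φ σ 2 s * hh hD φ σ 2 t := by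
  obtain ⟨-, -, hp, -⟩ := node_values
  let H := hh hD φ σ (2 : Fin 4)
  obtain ⟨c, hcdef⟩ : ∃ c : Kˣ → Kˣ → Γ, ∀ s t, c s t = H (s * t) * (H s)⁻¹ * (H t)⁻¹ :=
    ⟨_, fun _ _ => rfl⟩
  have hmem : ∀ t, H t ∈ preH hD φ σ := fun t => hh_mem_preH E (pm_short E _)
  have hlift : ∀ s, ∃ g ∈ preH hD φ σ, ∀ t, c s t = ⁅g, H t⁆ := fun s => by
    obtain ⟨X, hX, hχ⟩ := exists_dil hD φ E.hyp (r := 42) (by simp) s
    obtain ⟨g, hg, eg⟩ := exists_theta E hX
    refine ⟨g, hg, fun t => ?_⟩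
    have e := conj_hh E hX eg (a := (2 : Fin 4)) (pm_short E (t : K))
    rw [hp, hχ] at e
    rw [hcdef]
    rw [commutatorElement_def, e]
  choose G hG hGc using hlift
  have hcm : ∀ s t, Commute (σ (G s)) (σ (H t)) := fun s t => preH_comm (hG s) (hmem t)
  have hcen : ∀ s t, c s t ∈ Subgroup.center Γ := fun s t => by
    rw [hGc]; exact bracket_mem_center E.central (hcm s t)
  have hr : ∀ s t t', c s (t * t') = c s t * c s t' := fun s t t' => by
    rw [hGc, hGc, hGc, ← bracket_mul_right E.central (hcm s t')]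
    refine bracket_congr E.central rfl ?_
    rw [map_mul, map_hh E (pm_short E _), map_hh E (pm_short E _), map_hh E (pm_short E _), ← map_mul,
      torVec_mul (ctxE6 hD φ)]
  have hl : ∀ s s' t, c (s * s') t = c s t * c s' t := fun s s' t => by
    obtain ⟨X, hX, eX⟩ := theta_of_preH (hG s)
    obtain ⟨X', hX', eX'⟩ := theta_of_preH (hG s')
    obtain ⟨X'', hX'', eX''⟩ := theta_of_preH (hG (s * s'))
    have key : ∀ {g : Γ} {X : Fin chevE6.rank → Kˣ}, X ∈ TorSym e6Twist φ → σ g = theta chevE6 K X →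
        ∀ t, ⁅g, H t⁆ = c (chiX X 42) t := fun {g X} hX eg t => by
      have e := conj_hh E hX eg (a := (2 : Fin 4)) (pm_short E (t : K))
      rw [hp] at e
      rw [hcdef]
      rw [commutatorElement_def, e]
    obtain ⟨Z, hZ, hχ⟩ := exists_dil hD φ E.hyp (r := 42) (by simp) s
    obtain ⟨Z', hZ', hχ'⟩ := exists_dil hD φ E.hyp (r := 42) (by simp) s'
    obtain ⟨g, hg, eg⟩ := exists_theta E hZ
    obtain ⟨g', hg', eg'⟩ := exists_theta E hZ'
    have e1 := key (g := g * g') (mul_mem hZ hZ') (by rw [map_mul, eg, eg', map_mul]) t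
    rw [chiX_mul, hχ, hχ', bracket_mul_left E.central (preH_comm hg' (hmem t)), key hZ eg t, key hZ' eg' t,
      hχ, hχ'] at e1
    exact e1.symm
  obtain ⟨w, hw⟩ := IsCyclic.exists_monoid_generator (α := Kˣ)
  have hpow := symbol_pow hl hr w
  have hrep : ∀ t : Kˣ, ∃ i : ℕ, w ^ i = t := fun t => (Submonoid.mem_powers_iff _ _).1 (hw t)
  have hsymm : ∀ s t, c s t = c t s := fun s t => by
    obtain ⟨i, rfl⟩ := hrep s
    obtain ⟨j, rfl⟩ := hrep t
    rw [hpow, hpow, Nat.mul_comm]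
  have hH : ∀ s t, H (s * t) = c s t * H t * H s := fun s t => by rw [hcdef]; group
  have hcomm : ∀ s t, H s * H t = H t * H s := fun s t => by
    have e := (hH s t).symm.trans ((congrArg H (mul_comm s t)).trans (hH t s))
    rw [hsymm t s, mul_assoc, mul_assoc] at e
    exact (mul_left_cancel e).symm
  have hn1 : ∀ t : Kˣ, (nh hD φ σ 2 1)⁻¹ * H t * nh hD φ σ 2 1 = H t⁻¹ := fun t => by
    have e := nh_conj_nh E (a := (2 : Fin 4)) (t := t⁻¹) (pm_short E _)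
    rw [inv_inv] at e
    show (nh hD φ σ 2 1)⁻¹ * (nh hD φ σ 2 (t : K) * (nh hD φ σ 2 1)⁻¹) * nh hD φ σ 2 1 = _
    rw [← e]
    simp only [H, hh]
    group
  have hkey : ∀ t, c t t⁻¹ = c t (-1) := fun t => by
    have h1 : H (-t) = (H t⁻¹)⁻¹ * H (-1) := by
      have e1 := nh_inv E (a := (2 : Fin 4)) (pm_short E (t : K))
      have e2 := nh_inv E (a := (2 : Fin 4)) ((ctxE6 hD φ).Pm_one _)
      rw [← hn1]
      simp only [H, hh, Units.val_neg, Units.val_one, ← e1, ← e2]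
      group
    have h2 : (H t⁻¹)⁻¹ = c t t⁻¹ * H t := by
      have e := hH t t⁻¹
      rw [mul_inv_cancel, show H 1 = 1 from hh_one E _] at e
      rw [mul_assoc, hcomm] at e
      refine inv_eq_of_mul_eq_one_right ?_
      rw [← mul_assoc, Subgroup.mem_center_iff.1 (hcen t t⁻¹) (H t⁻¹), mul_assoc, hcomm, ← e]
    have h3 := hH t (-1)
    rw [mul_neg, mul_one, h1, h2, mul_assoc, hcomm t (-1), mul_assoc] at h3
    exact mul_right_cancel h3
  have hC : c w w = 1 := by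
    obtain ⟨z, hz⟩ : IsSquare (-1 : K) := by
      rw [FiniteField.isSquare_neg_one_iff, E.hyp.card]
      rcases Nat.even_or_odd' q with ⟨k, rfl | rfl⟩
      · rw [show (2 * k) ^ 2 = 4 * (k * k) by ring]; omega
      · rw [show (2 * k + 1) ^ 2 = 4 * (k * k + k) + 1 by ring]; omega
    have hz0 : z ≠ 0 := fun e => neg_ne_zero.2 one_ne_zero (hz.trans (by rw [e, mul_zero]))
    obtain ⟨j, hj⟩ := hrep (Units.mk0 z hz0)
    have hj2 : w ^ (j + j) = -1 := by rw [pow_add, hj]; exact Units.ext (by simpa using hz.symm)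
    have hone : c w 1 = 1 := by simpa using hpow 1 0
    have hww : c w w * c w w⁻¹ = 1 := by rw [← hr, mul_inv_cancel, hone]
    have e1 : c w w ^ (j + j + 1) = 1 := by
      rw [pow_succ, show c w w ^ (j + j) = c w (w ^ (j + j)) by simpa using (hpow 1 (j + j)).symm, hj2, ← hkey]
      exact mul_eq_one_comm.1 hww
    have e2 : c w w ^ (j + j + (j + j)) = 1 := by
      have := hpow 1 (j + j + (j + j))
      rw [one_mul, pow_one, pow_add w (j + j), hj2, neg_mul_neg, one_mul, hone] at this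
      exact this.symm
    have e3 : c w w ^ 2 = 1 := by
      have : (c w w ^ (j + j + 1)) ^ 2 = c w w ^ (j + j + (j + j)) * c w w ^ 2 := by
        rw [← pow_mul, ← pow_add]; congr 1; ring
      rw [e1, e2, one_pow, one_mul] at this
      exact this.symm
    rwa [← two_mul, pow_succ, pow_mul, e3, one_pow, one_mul] at e1
  have hc1 : ∀ s t, c s t = 1 := fun s t => by
    obtain ⟨i, rfl⟩ := hrep s
    obtain ⟨k, rfl⟩ := hrep t
    rw [hpow, hC, one_pow]
  show H (s * t) = H s * H t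
  rw [hH, hc1, one_mul, hcomm]

/-! ### All nodes -/

/-- Multiplicativity at a node. -/
def MulAt (hD : Good chevE6) (φ : K →+* K) (σ : Γ →* GL chevE6.Idx K) (a : Fin 4) : Prop :=
  ∀ s t : Kˣ, (ctxE6 hD φ).Pm a (s : K) → (ctxE6 hD φ).Pm a (t : K) →
    hh hD φ σ a (s * t) = hh hD φ σ a s * hh hD φ σ a t

theorem centralize_of_mul {a : Fin 4} (hm : MulAt hD φ σ a) {g : Γ} (hg : g ∈ preH hD φ σ) {t : Kˣ}
    (ht : (ctxE6 hD φ).Pm a (t : K)) : g * hh hD φ σ a t = hh hD φ σ a t * g := by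
  obtain ⟨x, hx, eg⟩ := theta_of_preH hg
  have e := conj_hh E hx eg ht
  rw [mul_comm (chiX x (pn a)) t, hm t _ ht (pm_chi E hx a), mul_inv_cancel_right] at e
  exact mul_inv_eq_iff_eq_mul.1 e

/-- Multiplicativity passes to a node whose character is onto on the torus of a multiplicative node. -/
theorem mul_of_adjacent {a b : Fin 4} (hb : MulAt hD φ σ b)
    (hsurj : ∀ s : Kˣ, (ctxE6 hD φ).Pm a (s : K) →
      ∃ u : Kˣ, (ctxE6 hD φ).Pm b (u : K) ∧ chiX ((ctxE6 hD φ).torVec b u) (pn a) = s) : MulAt hD φ σ a := by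
  intro s t hs ht
  obtain ⟨u, hu, eu⟩ := hsurj t ht
  obtain ⟨v, hv, ev⟩ := hsurj s hs
  have hX := (ctxE6 hD φ).torVec_mem b hu
  have hX' := (ctxE6 hD φ).torVec_mem b hv
  set n := nh hD φ σ a 1
  have et : hh hD φ σ a t = ⁅hh hD φ σ b u, n⁆ := eu ▸ hh_chi E hX (map_hh E hu) a
  have es : hh hD φ σ a s = ⁅hh hD φ σ b v, n⁆ := ev ▸ hh_chi E hX' (map_hh E hv) a
  have est : hh hD φ σ a (t * s) = ⁅hh hD φ σ b u * hh hD φ σ b v, n⁆ := by
    have := hh_chi E (mul_mem hX hX') (g := hh hD φ σ b u * hh hD φ σ b v)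
      (by rw [map_mul, map_hh E hu, map_hh E hv, map_mul]) a
    rwa [chiX_mul, eu, ev] at this
  rw [mul_comm s t, est, show ⁅hh hD φ σ b u * hh hD φ σ b v, n⁆ =
    hh hD φ σ b u * ⁅hh hD φ σ b v, n⁆ * (hh hD φ σ b u)⁻¹ * ⁅hh hD φ σ b u, n⁆ by
      simp only [commutatorElement_def]; group, ← es, ← et,
    ← centralize_of_mul E hb (hh_mem_preH E hs) hu, mul_inv_cancel_right]

omit [Fintype K] [Group Γ] [Finite Γ] E in
theorem six_torVec (hD : Good chevE6) (u : Kˣ) :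
    six ((ctxE6 hD φ).torVec (1 : Fin 4) u) = ![1, 1, 1, u, 1, 1] ∧
    six ((ctxE6 hD φ).torVec (2 : Fin 4) u) = ![1, 1, u, 1, Units.map (φ : K →* K) u, 1] := by
  have hL : ∀ b : Fin 4, (ctxE6 hD φ).L b = ([1, 1, 2, 2] : List ℕ).getD b.val 0 := fun b => by
    show e6Twist.len (chevE6.simple (e6Node b).val) = _
    fin_cases b <;> simp [e6_len]
  have h : ∀ (a b : Fin 4) (l : ℕ), l < ([1, 1, 2, 2] : List ℕ).getD b.val 0 →
      six ((ctxE6 hD φ).torVec a u) ((ctxE6 hD φ).nd b l) = if a = b then (ctxE6 hD φ).itU l u else 1 :=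
    fun a b l hl => (ctxE6 hD φ).torVec_apply a b u (by rw [hL]; exact hl)
  have z : (ctxE6 hD φ).itU 0 u = u := (ctxE6 hD φ).itU_zero u
  have o' : (ctxE6 hD φ).itU 1 u = Units.map (φ : K →* K) u := by
    rw [show (1 : ℕ) = 0 + 1 from rfl, (ctxE6 hD φ).itU_succ, z]
  constructor <;> funext i <;> fin_cases i
  · exact (h _ 3 0 (by decide)).trans (by simp)
  · exact (h _ 0 0 (by decide)).trans (by simp)
  · exact (h _ 2 0 (by decide)).trans (by simp)
  · exact (h _ 1 0 (by decide)).trans (by simp [z])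
  · exact (h _ 2 1 (by decide)).trans (by simp)
  · exact (h _ 3 1 (by decide)).trans (by simp)
  · exact (h _ 3 0 (by decide)).trans (by simp)
  · exact (h _ 0 0 (by decide)).trans (by simp)
  · exact (h _ 2 0 (by decide)).trans (by simp [z])
  · exact (h _ 1 0 (by decide)).trans (by simp)
  · exact (h _ 2 1 (by decide)).trans (by simp [o'])
  · exact (h _ 3 1 (by decide)).trans (by simp)

theorem hh_mul (a : Fin 4) : MulAt hD φ σ a := by
  obtain ⟨h46, h39, -, h56, -⟩ := node_values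
  have m2 : MulAt hD φ σ 2 := fun s t _ _ => hh2_mul E s t
  have hc : ∀ (x : Fin chevE6.rank → Kˣ) (r : ℕ), chiX x r = ∏ i : Fin 6, six x i ^ chevE6.cartan i.val r :=
    fun x r => chi_six x r
  have c0 := fun i : Fin 6 => (cartan_nodes i).1
  have c1 := fun i : Fin 6 => (cartan_nodes i).2.1
  have c3 := fun i : Fin 6 => (cartan_nodes i).2.2.2
  have m1 : MulAt hD φ σ 1 := by
    refine mul_of_adjacent E m2 fun s hs => ?_
    have hfs : φ (s : K) = s := hs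
    classical
    let N : Kˣ →* Kˣ := powMonoidHom (q + 1)
    let S : Subgroup Kˣ := (powMonoidHom (q - 1) : Kˣ →* Kˣ).ker
    have h1q := E.hyp.one_lt
    have hcard : Nat.card Kˣ = (q - 1) * (q + 1) := by
      rw [Nat.card_units, Nat.card_eq_fintype_card, E.hyp.card, mul_comm,
        ← Nat.sq_sub_sq, one_pow]
    have hle : N.range ≤ S := by
      rintro _ ⟨u, rfl⟩
      show (u ^ (q + 1)) ^ (q - 1) = 1
      rw [← pow_mul, mul_comm, ← hcard, pow_card_eq_one']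
    have hsS : s⁻¹ ∈ S := by
      refine inv_mem (show s ^ (q - 1) = 1 from ?_)
      have e : s ^ q = s := Units.ext (by rw [Units.val_pow_eq_pow_val, ← phi_pow hD φ E.hyp]; exact hfs)
      rw [← Nat.sub_add_cancel h1q.le, pow_succ] at e
      exact mul_eq_right.1 e
    have hS : Nat.card S = q - 1 := by
      rw [IsCyclic.card_powMonoidHom_ker, hcard]
      exact Nat.gcd_eq_right (dvd_mul_right _ _)
    have hR : q - 1 ≤ Nat.card N.range := by
      have h1 : Nat.card N.ker ≤ q + 1 := by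
        rw [IsCyclic.card_powMonoidHom_ker]; exact Nat.gcd_le_right _ (by omega : 0 < q + 1)
      have h2 : Nat.card N.ker * Nat.card N.range = (q - 1) * (q + 1) := by
        rw [← Subgroup.index_ker, Subgroup.card_mul_index, hcard]
      refine Nat.le_of_mul_le_mul_left ?_ (show 0 < q + 1 by omega)
      rw [mul_comm (q + 1), ← h2]
      exact Nat.mul_le_mul_right _ h1
    obtain ⟨u, hu⟩ := (Subgroup.eq_of_le_of_card_ge hle (hS ▸ hR)).ge hsS
    refine ⟨u, pm_short E _, ?_⟩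
    rw [hc, h39, (six_torVec hD u).2]
    have hu' : u * Units.map (φ : K →* K) u = s⁻¹ := by
      rw [← hu]
      exact Units.ext (by simp [N, phi_pow hD φ E.hyp, pow_succ, mul_comm])
    simp [Fin.prod_univ_six, c1, ← mul_inv, hu']
  fin_cases a
  · refine mul_of_adjacent E m1 fun s hs => ⟨s⁻¹, ?_, ?_⟩
    · show (ctxE6 hD φ).Pm _ _
      rw [Units.val_inv_eq_inv_val]
      exact Pm_inv (ctxE6 hD φ) (a := (1 : Fin 4)) (show φ (s : K) = s from hs)
    · show chiX _ (pn 0) = s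
      rw [hc, h46, (six_torVec hD _).1]
      simp [Fin.prod_univ_six, c0]
  · exact m1
  · exact m2
  · refine mul_of_adjacent E m2 fun s _ => ⟨s⁻¹, pm_short E _, ?_⟩
    show chiX _ (pn 3) = s
    rw [hc, h56, (six_torVec hD _).2]
    simp [Fin.prod_univ_six, c3]

theorem centralize {a : Fin 4} {g : Γ} (hg : g ∈ preH hD φ σ) {t : Kˣ}
    (ht : (ctxE6 hD φ).Pm a (t : K)) : g * hh hD φ σ a t = hh hD φ σ a t * g :=
  centralize_of_mul E (hh_mul E a) hg ht

end Cfsg.Agent.TwistMult.E6
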