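/-
Central extensions of ²E₆(q), q ≥ 3: the lifted root group data and the kernel.

* `torLift`, `liftData` : the lifted torus and root group data;
* `card_kerTor`, `exists_surj` : the kernel is an image of the cyclic kernel of the torus, of order gcd(3, q + 1).
-/
import Cfsg.Agent.Lib.TwistMult.E6Torus
import Cfsg.Agent.Lib.TwistMult.Kernel

set_option autoImplicit false
set_option maxRecDepth 100000
set_option linter.unusedSectionVars false

namespace Cfsg.Agent.TwistMult.E6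

open Cfsg.Lie Cfsg.Lie.ChevalleyDatum Cfsg.Agent.Chev Cfsg.Agent.TwistE6D4
open scoped commutatorElement

universe u

variable {K : Type u} [Field K] [Fintype K] {hD : Good chevE6} {φ : K →+* K} {q : ℕ}
  {Γ : Type u} [Group Γ] [Finite Γ] {σ : Γ →* GL chevE6.Idx K} (E : Ext hD φ q σ)
include E

omit [Fintype K] [Group Γ] [Finite Γ] E in
theorem torSym_nd (hD : Good chevE6) {x : Fin chevE6.rank → Kˣ} (hx : x ∈ TorSym e6Twist φ) (b : Fin 4) :
    ∀ l, x ((ctxE6 hD φ).nd b l) = (ctxE6 hD φ).itU l (x ((ctxE6 hD φ).node b))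
  | 0 => ((ctxE6 hD φ).itU_zero _).symm
  | l + 1 => by
    rw [show (ctxE6 hD φ).nd b (l + 1) = (ctxE6 hD φ).T.pi ((ctxE6 hD φ).nd b l) by
      simp only [Ctx.nd, Function.iterate_succ_apply'], hx _, torSym_nd hD hx b l, (ctxE6 hD φ).itU_succ]

omit [Fintype K] [Group Γ] [Finite Γ] E in
theorem torSym_pm (hD : Good chevE6) {x : Fin chevE6.rank → Kˣ} (hx : x ∈ TorSym e6Twist φ) (b : Fin 4) :
    (ctxE6 hD φ).Pm b (x ((ctxE6 hD φ).node b) : K) := by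
  have h := torSym_nd hD hx b ((ctxE6 hD φ).L b)
  rw [(ctxE6 hD φ).nd_len] at h
  unfold Ctx.Pm
  rw [← (ctxE6 hD φ).coe_itU, ← h]

/-- The lifted torus element of a symmetric parameter family. -/
noncomputable def torFun (hD : Good chevE6) (φ : K →+* K) (σ : Γ →* GL chevE6.Idx K)
    (x : Fin chevE6.rank → Kˣ) : Γ :=
  hh hD φ σ 0 (x ((ctxE6 hD φ).node (0 : Fin 4))) * hh hD φ σ 1 (x ((ctxE6 hD φ).node (1 : Fin 4))) *
    hh hD φ σ 2 (x ((ctxE6 hD φ).node (2 : Fin 4))) * hh hD φ σ 3 (x ((ctxE6 hD φ).node (3 : Fin 4)))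

/-- The lifted torus. -/
noncomputable def torLift : ↥(TorSym e6Twist φ) →* Γ :=
  MonoidHom.mk' (fun x => torFun hD φ σ x.1) (fun x y => by
    have P := fun b => torSym_pm hD x.2 b
    have Q := fun b => torSym_pm hD y.2 b
    have c : ∀ a b, Commute (hh hD φ σ a (x.1 ((ctxE6 hD φ).node a))) (hh hD φ σ b (y.1 ((ctxE6 hD φ).node b))) :=
      fun a b => centralize E (hh_mem_preH E (P a)) (Q b)
    show torFun hD φ σ (x.1 * y.1) = _
    simp only [torFun, Pi.mul_apply]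
    rw [hh_mul E 0 _ _ (P 0) (Q 0), hh_mul E 1 _ _ (P 1) (Q 1), hh_mul E 2 _ _ (P 2) (Q 2),
      hh_mul E 3 _ _ (P 3) (Q 3)]
    rw [((((c 3 0).mul_right (c 3 1)).mul_right (c 3 2))).mul_mul_mul_comm,
      ((c 2 0).mul_right (c 2 1)).mul_mul_mul_comm, (c 1 0).mul_mul_mul_comm])

theorem map_torLift (x : ↥(TorSym e6Twist φ)) : σ (torLift E x) = theta chevE6 K x.1 := by
  show σ (torFun hD φ σ x.1) = _
  have P := fun b => torSym_pm hD x.2 b
  rw [torFun, map_mul, map_mul, map_mul, map_hh E (P 0), map_hh E (P 1), map_hh E (P 2), map_hh E (P 3),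
    ← map_mul, ← map_mul, ← map_mul]
  congr 1
  funext i
  obtain ⟨b, l, hl, rfl⟩ := (ctxE6 hD φ).nd_surj i
  simp only [Pi.mul_apply]
  rw [(ctxE6 hD φ).torVec_apply (0 : Fin 4) b _ hl, (ctxE6 hD φ).torVec_apply (1 : Fin 4) b _ hl,
    (ctxE6 hD φ).torVec_apply (2 : Fin 4) b _ hl, (ctxE6 hD φ).torVec_apply (3 : Fin 4) b _ hl,
    torSym_nd hD x.2 b l]
  clear hl
  revert b
  show ∀ b : Fin 4, _
  intro b
  fin_cases b <;> simp

theorem hh_mem_range {a : Fin 4} {t : Kˣ} (ht : (ctxE6 hD φ).Pm a (t : K)) :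
    hh hD φ σ a t ∈ (torLift E).range := by
  refine ⟨⟨_, (ctxE6 hD φ).torVec_mem a ht⟩, ?_⟩
  show torFun hD φ σ ((ctxE6 hD φ).torVec a t) = _
  have h : ∀ b : Fin 4, (ctxE6 hD φ).torVec a t ((ctxE6 hD φ).node b) = if a = b then t else 1 := fun b => by
    have e := (ctxE6 hD φ).torVec_apply a b t (l := 0) ((ctxE6 hD φ).L_pos b)
    rw [(ctxE6 hD φ).itU_zero] at e
    exact e
  rw [torFun, h, h, h, h]
  have h1 : ∀ b : Fin 4, hh hD φ σ b (1 : Kˣ) = 1 := hh_one E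
  fin_cases a <;> simp [h1]

theorem range_le_preH : (torLift E).range ≤ preH hD φ σ := by
  rintro _ ⟨x, rfl⟩
  show σ _ ∈ (ctxE6 hD φ).H0
  rw [map_torLift E]
  exact ⟨_, x.2, rfl⟩

theorem pos_le {r : (ctxE6 hD φ).Orb} (hr : (ctxE6 hD φ).rgd.pos r) : Y hD φ σ r.1 ≤ Vl hD φ σ posReps :=
  Y_le_Vl (pos_iff.2 r.1 r.2 hr)

theorem neg_span_inj :
    ∀ w ∈ ⨆ r ∈ {r : (ctxE6 hD φ).Orb | ¬ (ctxE6 hD φ).rgd.pos r}, Y hD φ σ r.1, σ w = 1 → w = 1 := by
  obtain ⟨g, hg⟩ := exists_word E longWord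
  intro w hw h1
  have hle : (⨆ r ∈ {r : (ctxE6 hD φ).Orb | ¬ (ctxE6 hD φ).rgd.pos r}, Y hD φ σ r.1) ≤
      (Vl hD φ σ posReps).comap (MulAut.conj g).toMonoidHom := by
    refine iSup₂_le fun r hr x hx => ?_
    obtain ⟨-, e1, -⟩ := hg r.1 r.2
    refine Subgroup.mem_comap.2 (Y_le_Vl (long_word r.1 r.2 hr) ?_)
    exact e1 ▸ Subgroup.mem_map_of_mem _ hx
  have h2 := pos_inj E _ (hle hw) (by simp [h1])
  simpa using h2

/-- The lifted root group data. -/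
noncomputable def liftData : RGD.RootData Γ (ctxE6 hD φ).Orb (Fin 4) where
  U r := Y hD φ σ r.1
  H := (torLift E).range
  n a := nh hD φ σ a 1
  simple := (ctxE6 hD φ).rgd.simple
  pos := (ctxE6 hD φ).rgd.pos
  neg := (ctxE6 hD φ).rgd.neg
  w := (ctxE6 hD φ).rgd.w
  neg_neg := (ctxE6 hD φ).rgd.neg_neg
  pos_neg := (ctxE6 hD φ).rgd.pos_neg
  pos_simple := (ctxE6 hD φ).rgd.pos_simple
  simple_inj := (ctxE6 hD φ).rgd.simple_inj
  w_simple := (ctxE6 hD φ).rgd.w_simple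
  w_pos := (ctxE6 hD φ).rgd.w_pos
  w_neg := (ctxE6 hD φ).rgd.w_neg
  w_w := (ctxE6 hD φ).rgd.w_w
  H_conj_U g hg r x hx := (map_Y_H (range_le_preH E hg) r.2).le ⟨x, hx, rfl⟩
  n_conj_U a r x hx := (map_Y_N (map_nh E ((ctxE6 hD φ).Pm_one a)) r.2).le ⟨x, hx, rfl⟩
  n_conj_H a g hg := by
    obtain ⟨X, hX, eX⟩ := theta_of_preH (range_le_preH E hg)
    have hX' : X⁻¹ ∈ TorSym e6Twist φ := inv_mem hX
    have e := hh_chi E hX' (g := g⁻¹) (by rw [map_inv, eX, map_inv]) a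
    have e' : nh hD φ σ a 1 * g * (nh hD φ σ a 1)⁻¹ = g * hh hD φ σ a (chiX X⁻¹ (pn a)) := by
      rw [e, commutatorElement_def]; group
    rw [e']
    exact mul_mem hg (hh_mem_range E (pm_chi E hX' a))
  n_sq a := by
    have hm : (ctxE6 hD φ).Pm a ((-1 : Kˣ) : K) := by
      rw [Units.val_neg, Units.val_one]; exact (ctxE6 hD φ).Pm_neg ((ctxE6 hD φ).Pm_one a)
    have h := inv_mem (hh_mem_range E (t := (-1 : Kˣ)) hm)
    rwa [hh, Units.val_neg, Units.val_one, ← nh_inv E ((ctxE6 hD φ).Pm_one a), mul_inv_rev, inv_inv] at h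
  n_mem a := by
    obtain ⟨h1, h2, h3, -⟩ := node_table a
    have hp : yl hD φ σ (pn a) (1 : K) ∈ Y hD φ σ (pn a) :=
      (yl_spec E h1 (fix_of_pm ((ctxE6 hD φ).Pm_one a)).1).1
    have hm : yl hD φ σ (mn a) (-(1 : K)⁻¹) ∈ Y hD φ σ (rOf (mn a)) := by
      rw [h3]; exact (yl_spec E h2 (fix_of_pm ((ctxE6 hD φ).Pm_negInv ((ctxE6 hD φ).Pm_one a))).2).1
    exact mul_mem (mul_mem (Subgroup.mem_sup_left (Subgroup.mem_sup_left hp))
      (Subgroup.mem_sup_left (Subgroup.mem_sup_right hm))) (Subgroup.mem_sup_left (Subgroup.mem_sup_left hp))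
  U_conj a x hx r hr hne y hy := by
    refine conj_simple E a hx (pos_iff.2 r.1 r.2 hr) (fun e => hne (Subtype.ext e)) hy fun s hs hsa g hg => ?_
    obtain ⟨hs', hs0⟩ := pos_iff.1 s hs
    exact Subgroup.mem_iSup_of_mem (⟨s, hs'⟩ : (ctxE6 hD φ).Orb)
      (Subgroup.mem_iSup_of_mem ⟨hs0, fun e => hsa (congrArg Subtype.val e)⟩ hg)
  rank_one a y hy hy1 := by
    obtain ⟨h1, h2, h3, h4, -⟩ := node_table a
    have hy' : y ∈ Y hD φ σ (mn a) := by rw [← h3]; exact hy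
    obtain ⟨t, ht, et⟩ := eq_o h2 (Y_le_pre h2 hy')
    obtain rfl := yl_unique E h2 ht hy' et
    have ht0 : t ≠ 0 := fun e => hy1 (Y_inj E h2 _ hy' (by
      rw [et, e]; exact (ctxE6 hD φ).orb_zero _))
    have ht' : (ctxE6 hD φ).Pm a t := by
      show (⇑φ)^[e6Twist.len (pn a)] t = t
      rw [← h4]; exact ht
    have hm : (ctxE6 hD φ).Pm a (-t⁻¹) := (ctxE6 hD φ).Pm_negInv ht'
    have hi : (ctxE6 hD φ).Pm a t⁻¹ := Pm_inv (ctxE6 hD φ) ht'
    refine ⟨_, (yl_spec E h1 (fix_of_pm hi).1).1, hh hD φ σ a (Units.mk0 (-t⁻¹) (by simpa using ht0)),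
      hh_mem_range E (by simpa using hm), _, (yl_spec E h1 (fix_of_pm hi).1).1, ?_⟩
    rw [hh, Units.val_mk0, mul_assoc (yl hD φ σ (pn a) t⁻¹), inv_mul_cancel_right, nh, inv_neg, inv_inv,
      _root_.neg_neg, ← yl_inv E h1 (fix_of_pm hi).1]
    group
  U_ne_bot r h := by
    refine (ctxE6 hD φ).rgd.U_ne_bot r ?_
    show (ctxE6 hD φ).Uo r.1 = ⊥
    rw [← Y_map E r.2, h, Subgroup.map_bot]
  B_inf_V := by
    rw [eq_bot_iff]
    rintro g ⟨h1, h2⟩
    refine Subgroup.mem_bot.2 (neg_span_inj E g h2 ?_)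
    rw [← Subgroup.mem_bot, ← (ctxE6 hD φ).rgd.B_inf_V]
    constructor
    · have hle : ((⨆ s ∈ {s | (ctxE6 hD φ).rgd.pos s}, Y hD φ σ s.1) ⊔ (torLift E).range) ≤
          ((⨆ s ∈ {s | (ctxE6 hD φ).rgd.pos s}, (ctxE6 hD φ).rgd.U s) ⊔ (ctxE6 hD φ).rgd.H).comap σ := by
        refine sup_le (iSup₂_le fun s hs x hx => ?_) (fun x hx => Subgroup.mem_sup_right (range_le_preH E hx))
        exact Subgroup.mem_sup_left ((ctxE6 hD φ).rgd.U_le_span (A := {s | (ctxE6 hD φ).rgd.pos s}) hs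
          (Y_le_pre s.2 hx))
      exact hle h1
    · have hle : (⨆ s ∈ {s | ¬ (ctxE6 hD φ).rgd.pos s}, Y hD φ σ s.1) ≤
          (⨆ s ∈ {s | ¬ (ctxE6 hD φ).rgd.pos s}, (ctxE6 hD φ).rgd.U s).comap σ :=
        iSup₂_le fun s hs x hx => (ctxE6 hD φ).rgd.U_le_span (A := {s | ¬ (ctxE6 hD φ).rgd.pos s}) hs
          (Y_le_pre s.2 hx)
      exact hle h2
  U_inf_H := by
    rw [eq_bot_iff]
    rintro g ⟨h1, h2⟩
    refine Subgroup.mem_bot.2 (pos_inj E g ?_ ?_)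
    · exact (iSup₂_le fun s hs => pos_le E hs :
        (⨆ s ∈ {s | (ctxE6 hD φ).rgd.pos s}, Y hD φ σ s.1) ≤ Vl hD φ σ posReps) h1
    rw [← Subgroup.mem_bot, ← (ctxE6 hD φ).rgd.U_inf_H]
    refine ⟨?_, range_le_preH E h2⟩
    have hle : (⨆ s ∈ {s | (ctxE6 hD φ).rgd.pos s}, Y hD φ σ s.1) ≤
        (⨆ s ∈ {s | (ctxE6 hD φ).rgd.pos s}, (ctxE6 hD φ).rgd.U s).comap σ :=
      iSup₂_le fun s hs x hx => (ctxE6 hD φ).rgd.U_le_span (A := {s | (ctxE6 hD φ).rgd.pos s}) hs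
        (Y_le_pre s.2 hx)
    exact hle h1

/-- The kernel lies in the lifted torus. -/
theorem ker_le : σ.ker ≤ (torLift E).range := by
  refine ker_le_of_lift (ctxE6 hD φ).rgd E.central E.perfect ?_ (liftData E) rfl rfl
    (fun r => Y_map E r.2) ?_ (fun a => map_nh E ((ctxE6 hD φ).Pm_one a)) ?_
  · rw [(ctxE6 hD φ).rgd_G, E.range_eq]
  · show (torLift E).range.map σ = (ctxE6 hD φ).H0
    refine le_antisymm (Subgroup.map_le_iff_le_comap.2 (range_le_preH E)) ?_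
    rintro _ ⟨x, hx, rfl⟩
    exact ⟨_, ⟨⟨x, hx⟩, rfl⟩, map_torLift E ⟨x, hx⟩⟩
  · exact fun x hx h1 => pos_inj E x ((liftData E).span_le (fun r hr => pos_le E hr) hx) h1

omit [Group Γ] [Finite Γ] E in
/-- The torus of ²E₆ has kernel of order gcd(3, q + 1). -/
theorem card_kerTor {hD : Good chevE6} {φ : K →+* K} (h : Hyp (ctxE6 hD φ) q 2) :
    Nat.card ((theta chevE6 K).comp (TorSym e6Twist φ).subtype).ker = Nat.gcd 3 (q + 1) := by
  have hq : IsPrimePow q := by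
    obtain ⟨p, hp⟩ := CharP.exists K
    obtain ⟨n, hpp, hn⟩ := FiniteField.card K p
    rw [h.card] at hn
    exact (isPrimePow_pow_iff two_ne_zero).1 (hn ▸ ⟨p, n, Nat.prime_iff.1 hpp, n.pos, rfl⟩)
  have hd := card_diag_E6 hD hq h.card
  rw [twistedE6_eq hD h.pow h.card, (ctxE6 hD φ).diagonal_inf_G0 ChevBN.rootsE6] at hd
  have hc := Ctx.card_TorSym_eq h
  rw [Ctx.card_TorSym h] at hc
  have h1 := h.one_lt
  have hprod : ∏ a : Fin (ctxE6 hD φ).m, (q ^ (ctxE6 hD φ).L a - 1) = (q - 1) ^ 4 * (q + 1) ^ 2 := by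
    show ∏ a : Fin 4, (q ^ e6Twist.len (chevE6.simple (e6Node a).val) - 1) = _
    simp only [e6_len, Fin.prod_univ_four]
    simp
    obtain ⟨k, rfl⟩ : ∃ k, q = k + 1 := ⟨q - 1, by omega⟩
    rw [show (k + 1) ^ 2 = (k + 1 + 1) * k + 1 by ring, Nat.add_sub_cancel, Nat.add_sub_cancel]
    ring
  rw [hprod, ← hd] at hc
  have hpos : 0 < Nat.card ↥(ctxE6 hD φ).rgd.H := Nat.card_pos
  exact (Nat.eq_of_mul_eq_mul_right hpos hc).symm

/-- The kernel is an image of a cyclic group of order gcd(3, q + 1). -/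
theorem exists_surj : ∃ π : Multiplicative (ZMod (Nat.gcd 3 (q + 1))) →* σ.ker, Function.Surjective π := by
  let θ := (theta chevE6 K).comp (TorSym e6Twist φ).subtype
  have hcard : Nat.card θ.ker = Nat.gcd 3 (q + 1) := card_kerTor E.hyp
  have hcyc : IsCyclic θ.ker := by
    rcases (Nat.dvd_prime Nat.prime_three).1 (Nat.gcd_dvd_left 3 (q + 1)) with h | h
    · have : Subsingleton θ.ker := (Nat.card_eq_one_iff_unique.1 (hcard.trans h)).1
      exact isCyclic_of_subsingleton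
    · have : Fact (Nat.Prime 3) := ⟨Nat.prime_three⟩
      exact isCyclic_of_prime_card (hcard.trans h)
  let f : θ.ker →* σ.ker := ((torLift E).comp θ.ker.subtype).codRestrict σ.ker fun x => by
    rw [MonoidHom.mem_ker]
    exact (map_torLift E x.1).trans x.2
  have hf : Function.Surjective f := fun z => by
    obtain ⟨x, hx⟩ := ker_le E z.2
    have hxk : x ∈ θ.ker := by
      show theta chevE6 K x.1 = 1
      rw [← map_torLift E, hx]; exact z.2
    exact ⟨⟨x, hxk⟩, Subtype.ext hx⟩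
  rw [← hcard]
  exact ⟨f.comp (zmodCyclicMulEquiv hcyc).toMonoidHom, hf.comp (zmodCyclicMulEquiv hcyc).surjective⟩

end Cfsg.Agent.TwistMult.E6
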