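/-
A stem extension of ²E₆(q) by a cyclic group of order gcd(3, q + 1), inside the presented group of E₆(q²).

* `h_conj_n`, `orbit_commutator` : the torus elements of the short simple orbits are commutators;
* `exists_cover` : the derived group of the preimage is such an extension.
-/
import Cfsg.Agent.Lib.TwistMult.E6Rgd
import Cfsg.Agent.Lib.ChevSt.Multiplier
import Cfsg.Agent.Lib.ChevSt.KerCard
import Cfsg.Agent.Lib.ChevSt.SubTables
import Cfsg.Agent.Lib.ChevSt.SLD4
import Cfsg.Agent.Lib.Chev.All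

set_option autoImplicit false
set_option maxRecDepth 100000
set_option linter.unusedSectionVars false

namespace Cfsg.Agent.TwistMult.E6

open Cfsg.Lie Cfsg.Lie.ChevalleyDatum Cfsg.Agent.Chev Cfsg.Agent.TwistE6D4
open scoped commutatorElement

universe u

section General

variable {D : ChevalleyDatum} {F : Type*} [Field F] {E : Type*} [Group E] (S : ChevSt.Sys D F E)
  {M : List (List ℤ)} {d : ℤ} (hD : Good D) (hR : ChevBN.Roots D M d)
  (hX : ∀ i < D.rank, ChevSt.Decomp D (D.simple i) ∧ ChevSt.Decomp D (D.neg (D.simple i)))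
include hD hR hX

theorem h_conj_n {i j : ℕ} (hi : i < D.rank) (hj : j < D.rank) {t : F} (ht : t ≠ 0) (v : F) :
    S.h (D.simple i) t * S.n (D.simple j) v * (S.h (D.simple i) t)⁻¹ =
      S.n (D.simple j) (t ^ D.pairing (D.simple i) (D.simple j) * v) := by
  have hj' := hD.simple_lt j hj
  rw [ChevSt.Sys.n, ChevSt.Sys.n, show ∀ g a b : E, g * (a * b * a) * g⁻¹ = (g * a * g⁻¹) * (g * b * g⁻¹) * (g * a * g⁻¹) from
      fun g a b => by group, S.h_conj hD hR hX hi ht, S.h_conj hD hR hX hi ht, hD.pairing_neg_right _ hj',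
      _root_.zpow_neg, mul_neg, _root_.mul_inv_rev, mul_comm v⁻¹]

/-- The commutator of the torus of a pair of nodes with the reflections of an adjacent pair. -/
theorem orbit_commutator {i i' j j' : ℕ} (hi : i < D.rank) (hi' : i' < D.rank) (hj : j < D.rank) (hj' : j' < D.rank)
    (p1 : D.pairing (D.simple i) (D.simple j) = -1) (p2 : D.pairing (D.simple i') (D.simple j) = 0)
    (p3 : D.pairing (D.simple i) (D.simple j') = 0) (p4 : D.pairing (D.simple i') (D.simple j') = -1)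
    (p5 : D.pairing (D.simple j') (D.simple j) = 0) {a b : F} (ha : a ≠ 0) (hb : b ≠ 0) :
    ⁅S.h (D.simple i) a * S.h (D.simple i') b, S.n (D.simple j) 1 * S.n (D.simple j') 1⁆ =
      S.h (D.simple j) a⁻¹ * S.h (D.simple j') b⁻¹ := by
  set A := S.h (D.simple i) a
  set B := S.h (D.simple i') b
  set N := S.n (D.simple j) 1
  set N' := S.n (D.simple j') 1
  have e1 : A * B * N * (A * B)⁻¹ = S.n (D.simple j) a⁻¹ := by
    rw [show A * B * N * (A * B)⁻¹ = A * (B * N * B⁻¹) * A⁻¹ by group, h_conj_n S hD hR hX hi' hj hb, p2,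
      h_conj_n S hD hR hX hi hj ha, p1]
    simp
  have e2 : A * B * N' * (A * B)⁻¹ = S.n (D.simple j') b⁻¹ := by
    rw [show A * B * N' * (A * B)⁻¹ = A * (B * N' * B⁻¹) * A⁻¹ by group, h_conj_n S hD hR hX hi' hj' hb, p4,
      h_conj_n S hD hR hX hi hj' ha, p3]
    simp
  have e3 : S.n (D.simple j') b⁻¹ * N'⁻¹ = S.h (D.simple j') b⁻¹ := by
    rw [ChevSt.Sys.h, S.n_inv]
  have e4 : S.h (D.simple j') b⁻¹ * N * (S.h (D.simple j') b⁻¹)⁻¹ = N := by
    rw [h_conj_n S hD hR hX hj' hj (inv_ne_zero hb), p5]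
    simp [N]
  have e5 : S.n (D.simple j) a⁻¹ * N⁻¹ = S.h (D.simple j) a⁻¹ := by
    rw [ChevSt.Sys.h, S.n_inv]
  set H := S.h (D.simple j') b⁻¹
  calc ⁅A * B, N * N'⁆ = (A * B * N * (A * B)⁻¹) * ((A * B * N' * (A * B)⁻¹) * N'⁻¹) * N⁻¹ := by
        simp only [commutatorElement_def]; group
    _ = S.n (D.simple j) a⁻¹ * (H * N⁻¹) := by rw [e1, e2, e3, mul_assoc]
    _ = S.n (D.simple j) a⁻¹ * ((H * N * H⁻¹)⁻¹ * H) := by group
    _ = _ := by rw [e4, ← mul_assoc, e5]

end General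

variable {K : Type u} [Field K] [Fintype K] {hD : Good chevE6} {φ : K →+* K} {q : ℕ}

theorem pair_tables : chevE6.pairing (chevE6.simple 2) (chevE6.simple 0) = -1 ∧
    chevE6.pairing (chevE6.simple 4) (chevE6.simple 0) = 0 ∧
    chevE6.pairing (chevE6.simple 2) (chevE6.simple 5) = 0 ∧
    chevE6.pairing (chevE6.simple 4) (chevE6.simple 5) = -1 ∧
    chevE6.pairing (chevE6.simple 5) (chevE6.simple 0) = 0 ∧
    chevE6.pairing (chevE6.simple 0) (chevE6.simple 2) = -1 ∧
    chevE6.pairing (chevE6.simple 5) (chevE6.simple 2) = 0 ∧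
    chevE6.pairing (chevE6.simple 0) (chevE6.simple 4) = 0 ∧
    chevE6.pairing (chevE6.simple 5) (chevE6.simple 4) = -1 ∧
    chevE6.pairing (chevE6.simple 4) (chevE6.simple 2) = 0 := by decide +kernel

theorem torVec_two (hD : Good chevE6) (a : Fin 4) (ha : e6Twist.len (chevE6.simple (e6Node a).val) = 2) (t : Kˣ) :
    (ctxE6 hD φ).torVec a t = Pi.mulSingle (e6Node a) t *
      Pi.mulSingle (e6Twist.pi (e6Node a)) (Units.map (φ : K →* K) t) := by
  rw [Ctx.torVec, show (ctxE6 hD φ).L a = 2 from ha]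
  simp only [List.range_succ, List.range_zero, List.nil_append, List.cons_append, List.map_cons, List.map_nil,
    List.prod_cons, List.prod_nil, mul_one, Ctx.itU_succ, Ctx.itU_zero]
  rfl

theorem ns_two (hD : Good chevE6) (a : Fin 4) (ha : e6Twist.len (chevE6.simple (e6Node a).val) = 2) :
    (ctxE6 hD φ).ns a 1 = ChevBN.ng hD K (chevE6.simple (e6Node a).val) 1 *
      ChevBN.ng hD K (chevE6.simple (e6Twist.pi (e6Node a)).val) 1 := by
  rw [Ctx.ns, Ctx.oprod, show (ctxE6 hD φ).L a = 2 from ha]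
  simp only [List.range_succ, List.range_zero, List.nil_append, List.cons_append, List.map_cons, List.map_nil,
    List.prod_cons, List.prod_nil, mul_one, Ctx.rk_eq]
  simp [Function.iterate_succ_apply']
  rfl

/-- Finite stem extensions with kernel of order gcd(3, q + 1). -/
theorem exists_cover (hq : IsPrimePow q) (hK : Fintype.card K = q ^ 2) :
    ∃ (Γ : Type u) (_ : Group Γ) (_ : Finite Γ) (σ : Γ →* ↥(twistedE6 K q)),
      Cfsg.IsStemExtension σ ∧ Nonempty (σ.ker ≃* Multiplicative (ZMod (Nat.gcd 3 (q + 1)))) := by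
  classical
  have hD : Good chevE6 := Chev.good_of_mem (D := chevE6) (by simp)
  obtain ⟨φ, e, hyp⟩ := exists_ctxE6 hD hq hK
  rcases (Nat.dvd_prime Nat.prime_three).1 (Nat.gcd_dvd_left 3 (q + 1)) with hn | hn
  · rw [hn]
    refine ⟨↥(twistedE6 K q), inferInstance, inferInstance, MonoidHom.id _,
      ⟨Function.surjective_id, ?_, ?_⟩, ?_⟩
    · intro x hx; rw [show x = 1 from hx]; exact one_mem _
    · intro x hx; rw [show x = 1 from hx]; exact one_mem _
    · haveI : Subsingleton (MonoidHom.id ↥(twistedE6 K q)).ker := ⟨fun a b => Subtype.ext (a.2.trans b.2.symm)⟩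
      exact ⟨{ toFun := fun _ => 1, invFun := fun _ => 1, left_inv := fun _ => Subsingleton.elim _ _,
               right_inv := fun _ => Subsingleton.elim _ _, map_mul' := fun _ _ => (one_mul _).symm }⟩
  rw [hn]
  have hmem : chevE6 ∈ [chevG2, chevB2, chevD4, chevF4, chevE6, chevE7, chevE8] := by simp
  have hX := fun (i : ℕ) (hi : i < chevE6.rank) => ChevSt.exists_decomp chevE6 hmem (i := i) hi
  have hR := ChevBN.rootsE6
  haveI := ChevSt.finite_steinberg (F := K) hD hR hX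
  set S := ChevSt.stSys (F := K) hD with hS
  have hgen := ChevSt.stSys_gen (F := K) hD
  have hmul := ChevSt.stSys_mul (F := K) hD
  set Φ := S.torusHom hD hR hX hmul with hΦdef
  have hΦinj : Function.Injective Φ := ChevSt.torusHom_injective hD hR hX
    (Chev.good_of_mem (D := chevE8) (by simp)) ChevSt.subE6 ChevBN.rootsE8
  have hc : S.th.ker ≤ Subgroup.center (chevE6.SteinbergGroup K) := S.ker_le_center hD hR hX hgen
  set C := ctxE6 hD φ with hC
  set P := C.G0.comap S.th with hP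
  set Q := ⁅P, P⁆ with hQdef
  -- images
  have hle : C.G0 ≤ S.th.range := by
    refine (Subgroup.closure_le _).2 ?_
    have hgx : ∀ r t, gx hD K r t ∈ S.th.range := fun r t => ⟨S.x r t, Units.ext (by
      rw [S.th_x, coe_gx])⟩
    rintro g ⟨a, t, -, rfl | rfl⟩ <;> refine list_prod_mem fun x hx => ?_ <;>
      obtain ⟨k, -, rfl⟩ := List.mem_map.1 hx <;> exact hgx _ _
  have hmapP : P.map S.th = C.G0 := Subgroup.map_comap_eq_self hle
  have hperfG : ⁅C.G0, C.G0⁆ = C.G0 := by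
    have h := congrArg (Subgroup.map C.G0.subtype) (C.commutator_eq_top (perfE6 hD hyp) rfl)
    rwa [Subgroup.map_subtype_commutator, ← MonoidHom.range_eq_map, Subgroup.range_subtype] at h
  have hmapQ : Q.map S.th = C.G0 := by rw [hQdef, Subgroup.map_commutator, hmapP, hperfG]
  have hQ : ⁅Q, Q⁆ = Q := by
    refine le_antisymm (Subgroup.commutator_le_self Q) ?_
    conv_lhs => rw [hQdef]
    rw [Subgroup.commutator_le]
    intro a ha b hb
    obtain ⟨s, hs, es⟩ : S.th a ∈ Q.map S.th := by rw [hmapQ]; exact ha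
    obtain ⟨t, ht, et⟩ : S.th b ∈ Q.map S.th := by rw [hmapQ]; exact hb
    rw [bracket_congr hc es.symm et.symm]
    exact Subgroup.commutator_mem_commutator hs ht
  have hQtop : commutator Q = ⊤ := by
    apply Subgroup.map_injective Q.subtype_injective
    rw [Subgroup.map_subtype_commutator, hQ, ← MonoidHom.range_eq_map, Subgroup.range_subtype]
  let σ : Q →* ↥(twistedE6 K q) := (S.th.comp Q.subtype).codRestrict _ fun x => by
    rw [e]
    exact hmapQ.le ⟨x.1, x.2, rfl⟩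
  have hsurj : Function.Surjective σ := fun g => by
    have hg : (g : GL chevE6.Idx K) ∈ Q.map S.th := by rw [hmapQ, hC, ← e]; exact g.2
    obtain ⟨x, hx, hxg⟩ := hg
    exact ⟨⟨x, hx⟩, Subtype.ext hxg⟩
  refine ⟨Q, inferInstance, inferInstance, σ, ⟨hsurj, fun x hx => ?_, by rw [hQtop]; exact le_top⟩, ?_⟩
  · have h1 : (x : chevE6.SteinbergGroup K) ∈ S.th.ker := congrArg Subtype.val hx
    exact Subgroup.mem_center_iff.2 fun y => Subtype.ext (Subgroup.mem_center_iff.1 (hc h1) y.1)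
  -- the kernel
  have hcardker : Nat.card S.th.ker = Nat.gcd 3 (q ^ 2 - 1) := by
    rw [S.ker_eq_map hD hR hX hmul hgen, ← hK, ← ChevSt.card_kerE6 (F := K) hD]
    exact (Nat.card_congr ((ChevSt.chi chevE6 K).ker.equivMapOfInjective _ hΦinj).toEquiv).symm
  have hq1 := hyp.one_lt
  have h3 : Nat.gcd 3 (q ^ 2 - 1) = 3 := by
    refine Nat.gcd_eq_left ?_
    have := Nat.gcd_dvd_right 3 (q + 1)
    rw [hn] at this
    exact this.trans ⟨q - 1, by rw [← Nat.sq_sub_sq, one_pow]⟩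
  obtain ⟨ω, hω3, hω1⟩ : ∃ ω : Kˣ, ω ^ 3 = 1 ∧ ω ≠ 1 := by
    by_contra hne
    push Not at hne
    have hs : Subsingleton {t : Kˣ // t ^ 3 = 1} :=
      ⟨fun a b => Subtype.ext ((hne a.1 a.2).trans (hne b.1 b.2).symm)⟩
    have h1 : Nat.card {t : Kˣ // t ^ 3 = 1} ≤ 1 := Finite.card_le_one_iff_subsingleton.2 hs
    rw [card_rootsOfOne, hK, Nat.gcd_comm, h3] at h1
    omega
  have hfω : Units.map (φ : K →* K) ω = ω ^ 2 := by
    refine Units.ext ?_
    have hq2 : q % 3 = 2 := by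
      have := Nat.gcd_dvd_right 3 (q + 1)
      rw [hn] at this
      omega
    rw [Units.coe_map, MonoidHom.coe_coe, phi_pow hD φ hyp, ← Units.val_pow_eq_pow_val, ← Nat.div_add_mod q 3, hq2,
      pow_add, pow_mul, hω3, one_pow, one_mul]
  set x := C.torVec (3 : Fin 4) ω * C.torVec (2 : Fin 4) (ω ^ 2) with hxdef
  have hlen : ∀ a : Fin 4, a = 2 ∨ a = 3 → e6Twist.len (chevE6.simple (e6Node a).val) = 2 := by
    rintro a (rfl | rfl) <;> simp [e6_len]
  have htv : ∀ a : Fin 4, a = 2 ∨ a = 3 → ∀ t, C.torVec a t = Pi.mulSingle (e6Node a) t *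
      Pi.mulSingle (e6Twist.pi (e6Node a)) (Units.map (φ : K →* K) t) := fun a ha t => torVec_two hD a (hlen a ha) t
  have hΦ : ∀ (i : Fin chevE6.rank) (t : Kˣ), Φ (Pi.mulSingle i t) = S.h (chevE6.simple i.val) (t : K) :=
    fun i t => by rw [hΦdef, ChevSt.Sys.torusHom, MonoidHom.noncommPiCoprod_mulSingle]; rfl
  have hthΦ : ∀ y, S.th (Φ y) = theta chevE6 K y := by
    intro y
    suffices h : S.th.comp Φ = theta chevE6 K from DFunLike.congr_fun h y
    refine ChevSt.pi_hom_ext fun i t => ?_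
    rw [MonoidHom.comp_apply, hΦ, S.th_h hD, theta_single hD]
  -- the commutators
  have hmemP : ∀ a : Fin 4, a = 2 ∨ a = 3 → ∀ t, Φ (C.torVec a t) ∈ P ∧
      S.n (chevE6.simple (e6Node a).val) 1 * S.n (chevE6.simple (e6Twist.pi (e6Node a)).val) 1 ∈ P := by
    intro a ha t
    have hpm : C.Pm a (t : K) := hyp_Pm hyp (a := a) (hlen a ha) _
    refine ⟨?_, ?_⟩
    · show S.th _ ∈ C.G0
      rw [hthΦ]; exact C.theta_mem_G0 (C.torVec_mem a hpm)
    · show S.th _ ∈ C.G0
      rw [map_mul, S.th_n hD, S.th_n hD, ← ns_two hD a (hlen a ha)]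
      exact C.ns_mem_G0 a (C.Pm_one a)
  obtain ⟨p20, p40, p25, p45, p50, p02, p52, p04, p54, p42⟩ := pair_tables
  have r : ∀ i : ℕ, i < 6 → i < chevE6.rank := fun i hi => hi
  have hexp : ∀ a : Fin 4, a = 2 ∨ a = 3 → ∀ t, Φ (C.torVec a t) = S.h (chevE6.simple (e6Node a).val) (t : K) *
      S.h (chevE6.simple (e6Twist.pi (e6Node a)).val) ((Units.map (φ : K →* K) t : Kˣ) : K) := fun a ha t => by
    rw [htv a ha, map_mul, hΦ, hΦ]
  have h3Q : Φ (C.torVec (3 : Fin 4) ω) ∈ Q := by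
    obtain ⟨h1, -⟩ := hmemP 2 (Or.inl rfl) ω⁻¹
    obtain ⟨-, h2⟩ := hmemP 3 (Or.inr rfl) 1
    have h := Subgroup.commutator_mem_commutator h1 h2
    rw [hexp 2 (Or.inl rfl)] at h
    rw [hexp 3 (Or.inr rfl)]
    have key := orbit_commutator S hD hR hX (i := 2) (i' := 4) (j := 0) (j' := 5) (r 2 (by omega)) (r 4 (by omega))
      (r 0 (by omega)) (r 5 (by omega)) p20 p40 p25 p45 p50 (a := ((ω⁻¹ : Kˣ) : K))
      (b := ((Units.map (φ : K →* K) ω⁻¹ : Kˣ) : K)) (Units.ne_zero _) (Units.ne_zero _)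
    have h' : S.h (chevE6.simple 0) ((ω⁻¹ : Kˣ) : K)⁻¹ *
        S.h (chevE6.simple 5) ((Units.map (φ : K →* K) ω⁻¹ : Kˣ) : K)⁻¹ ∈ Q := key ▸ h
    rw [← Units.val_inv_eq_inv_val, inv_inv, ← Units.val_inv_eq_inv_val, map_inv, inv_inv] at h'
    exact h'
  have h2Q : Φ (C.torVec (2 : Fin 4) (ω ^ 2)) ∈ Q := by
    obtain ⟨h1, -⟩ := hmemP 3 (Or.inr rfl) (ω ^ 2)⁻¹
    obtain ⟨-, h2⟩ := hmemP 2 (Or.inl rfl) 1
    have h := Subgroup.commutator_mem_commutator h1 h2
    rw [hexp 3 (Or.inr rfl)] at h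
    rw [hexp 2 (Or.inl rfl)]
    have key := orbit_commutator S hD hR hX (i := 0) (i' := 5) (j := 2) (j' := 4) (r 0 (by omega)) (r 5 (by omega))
      (r 2 (by omega)) (r 4 (by omega)) p02 p52 p04 p54 p42 (a := (((ω ^ 2)⁻¹ : Kˣ) : K))
      (b := ((Units.map (φ : K →* K) (ω ^ 2)⁻¹ : Kˣ) : K)) (Units.ne_zero _) (Units.ne_zero _)
    have h' : S.h (chevE6.simple 2) (((ω ^ 2)⁻¹ : Kˣ) : K)⁻¹ *
        S.h (chevE6.simple 4) ((Units.map (φ : K →* K) (ω ^ 2)⁻¹ : Kˣ) : K)⁻¹ ∈ Q := key ▸ h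
    rw [← Units.val_inv_eq_inv_val, inv_inv, ← Units.val_inv_eq_inv_val, map_inv, inv_inv] at h'
    exact h'
  -- a nontrivial kernel element
  have hx6 : six x = ![ω, 1, ω ^ 2, 1, ω, ω ^ 2] := by
    have h4 : (ω ^ 2) ^ 2 = ω := by rw [← pow_mul, show 2 * 2 = 3 + 1 from rfl, pow_add, hω3, one_mul, pow_one]
    have e3 := htv 3 (Or.inr rfl) ω
    have e2 := htv 2 (Or.inl rfl) (ω ^ 2)
    have hx : six x = (Pi.mulSingle (0 : Fin 6) ω * Pi.mulSingle (5 : Fin 6) (ω ^ 2)) *
        (Pi.mulSingle (2 : Fin 6) (ω ^ 2) * Pi.mulSingle (4 : Fin 6) ω) := by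
      show x = _
      rw [hxdef, e3, e2, hfω, map_pow, hfω, h4]
      rfl
    rw [hx]
    funext i
    fin_cases i <;> simp
  have hθ : theta chevE6 K x = 1 := by
    rw [mem_ker_theta hD e6_cartan]
    intro i
    show ∏ j : Fin 6, six x j ^ chevE6.cartan j.val (chevE6.simple i.val) = 1
    rw [hx6]
    have hinv : ω⁻¹ = ω ^ 2 := inv_eq_of_mul_eq_one_right (by rw [← pow_succ', hω3])
    have hinv2 : (ω ^ 2)⁻¹ = ω := by rw [← hinv, inv_inv]
    have hpw : ω * ω ^ 2 = 1 ∧ ω ^ 2 * ω = 1 := ⟨by rw [← pow_succ', hω3], by rw [← pow_succ, hω3]⟩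
    have h3' : ω * (ω * ω) = 1 := by rw [← pow_three, hω3]
    revert i
    show ∀ i : Fin 6, _
    intro i
    simp only [e6_cartan_simple, Fin.prod_univ_six]
    fin_cases i <;> simp [_root_.zpow_ofNat, hinv, hinv2, hpw.1, hpw.2, ← pow_mul, ← pow_add] <;>
      simp [pow_succ, h3', mul_assoc]
  have hxne : x ≠ 1 := fun h => hω1 (by
    have := congrFun (hx6.symm.trans (congrArg six h)) 0
    exact this)
  let z : Q := ⟨Φ x, by rw [hxdef, map_mul]; exact mul_mem h3Q h2Q⟩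
  have hzker : z ∈ σ.ker := Subtype.ext (show S.th (Φ x) = 1 by rw [hthΦ, hθ])
  have hzne : z ≠ 1 := fun h => hxne (hΦinj (by rw [map_one]; exact congrArg Subtype.val h))
  let f : σ.ker →* S.th.ker := (Q.subtype.comp σ.ker.subtype).codRestrict S.th.ker fun k => congrArg Subtype.val k.2
  have hfinj : Function.Injective f := fun a b h => Subtype.ext (Subtype.ext (congrArg Subtype.val h :))
  have hdvd : Nat.card σ.ker ∣ 3 := by
    have h := Subgroup.card_dvd_of_injective f hfinj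
    rwa [hcardker, h3] at h
  have hcard : Nat.card σ.ker = 3 := by
    rcases (Nat.dvd_prime Nat.prime_three).1 hdvd with h | h
    · have hs := (Nat.card_eq_one_iff_unique.1 h).1
      exact absurd (congrArg Subtype.val (Subsingleton.elim (⟨z, hzker⟩ : σ.ker) 1)) hzne
    · exact h
  have : Fact (Nat.Prime 3) := ⟨Nat.prime_three⟩
  have hcyc : IsCyclic σ.ker := isCyclic_of_prime_card hcard
  have e3 : Multiplicative (ZMod (Nat.card σ.ker)) ≃* σ.ker := zmodCyclicMulEquiv hcyc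
  rw [hcard] at e3
  exact ⟨e3.symm⟩

end Cfsg.Agent.TwistMult.E6
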